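import Mathlib.Algebra.Field.Subfield.Basic
import Mathlib.Algebra.CharP.Two
import Mathlib.Data.Fintype.Card
import Mathlib.Tactic
import Mathlib.GroupTheory.PGroup
import Mathlib.GroupTheory.Subgroup.Centralizer
import Cfsg.Agent.StdEven.Syl
import Cfsg.Agent.Solvable.SchurZassenhausConj
import Mathlib.FieldTheory.Finite.Basic
import Cfsg.Agent.FastGrp
import Cfsg.Agent.Prune
set_option linter.all false

section
prune_inst 0x7ffcfefbaffdbddfdf7f7ffdaf9fdffdfdfdfffffffffdcbbfe2a9efcfdf4b8aedefa9cd8ff85afc1fe362b414f87b53ffffeeffea6bdc7ffffd5df49ffbff8fedf7b50951de88b40fbc0ff603f0778e7f3fffffffffffffffffffffffffffbeffffffffffff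

-- part: StdRank2/UFour/Env
section
prune_inst 0x201044002000000000002506020000200000000000200001902002020b4651000062010078101c0000102e906808000001100050422000000a00000000040100000900020040010020000000a004000000000000000000000000000000041000000000000
set_option linter.all false
open scoped Cfsg.Agent.FastGrp

-- part: StdRank2/UFour/Field
section
/-!
# Field with an involution in characteristic 2, and the space of hermitian `2 × 2` matrices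

`B : Bar F` is a field automorphism of order 2, `B.K` its fixed field, `B.nm`, `B.tr` norm and trace.
`B.V = K × F × K` is the space of hermitian matrices `(α, β, γ)`; `B.ma s` is the action of the
transvection with parameter `s`, `B.mh μ ν` the action of the torus.
-/

set_option autoImplicit false

namespace Cfsg.Agent.StdRank2.UFour

/-- An involution of a field. -/
structure Bar (F : Type*) [Field F] where
  s : F ≃+* F
  invol : ∀ x, s (s x) = x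
  ne : ∃ x, s x ≠ x

namespace Bar

variable {F : Type*} [Field F] (B : Bar F)

/-- The fixed field. -/
def K : Subfield F where
  carrier := {x | B.s x = x}
  mul_mem' {a b} ha hb := by
    change B.s (a * b) = a * b
    rw [map_mul, show B.s a = a from ha, show B.s b = b from hb]
  one_mem' := map_one _
  add_mem' {a b} ha hb := by
    change B.s (a + b) = a + b
    rw [map_add, show B.s a = a from ha, show B.s b = b from hb]
  zero_mem' := map_zero _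
  neg_mem' {a} ha := by
    change B.s (-a) = -a
    rw [map_neg, show B.s a = a from ha]
  inv_mem' a ha := by
    change B.s a⁻¹ = a⁻¹
    rw [map_inv₀, show B.s a = a from ha]

theorem mem_K {x : F} : x ∈ B.K ↔ B.s x = x := Iff.rfl

@[simp] theorem s_K (x : B.K) : B.s (x : F) = x := x.2

/-- The norm. -/
def nm (x : F) : B.K := ⟨x * B.s x, by rw [mem_K, map_mul, B.invol, mul_comm]⟩

/-- The trace. -/
def tr (x : F) : B.K := ⟨x + B.s x, by rw [mem_K, map_add, B.invol, add_comm]⟩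

@[simp] theorem coe_nm (x : F) : ((B.nm x : B.K) : F) = x * B.s x := rfl

@[simp] theorem coe_tr (x : F) : ((B.tr x : B.K) : F) = x + B.s x := rfl

theorem tr_add (x y : F) : B.tr (x + y) = B.tr x + B.tr y := by
  apply Subtype.ext
  change x + y + B.s (x + y) = (x + B.s x) + (y + B.s y)
  rw [map_add]; ring

theorem tr_zero : B.tr 0 = 0 := by
  apply Subtype.ext
  change (0 : F) + B.s 0 = 0
  rw [map_zero, add_zero]

theorem tr_s (x : F) : B.tr (B.s x) = B.tr x := by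
  apply Subtype.ext
  change B.s x + B.s (B.s x) = x + B.s x
  rw [B.invol, add_comm]

theorem nm_zero : B.nm 0 = 0 := by
  apply Subtype.ext
  change (0 : F) * B.s 0 = 0
  rw [zero_mul]

theorem nm_one : B.nm 1 = 1 := by
  apply Subtype.ext
  change (1 : F) * B.s 1 = 1
  rw [map_one, mul_one]

theorem nm_mul (x y : F) : B.nm (x * y) = B.nm x * B.nm y := by
  apply Subtype.ext
  change x * y * B.s (x * y) = (x * B.s x) * (y * B.s y)
  rw [map_mul]; ring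

theorem nm_add (x y : F) : B.nm (x + y) = B.nm x + B.nm y + B.tr (x * B.s y) := by
  apply Subtype.ext
  change (x + y) * B.s (x + y) = x * B.s x + y * B.s y + (x * B.s y + B.s (x * B.s y))
  rw [map_add, map_mul, B.invol]; ring

theorem nm_K (x : B.K) : B.nm (x : F) = x * x := by
  apply Subtype.ext
  change (x : F) * B.s x = x * x
  rw [s_K]

theorem nm_eq_zero {x : F} : B.nm x = 0 ↔ x = 0 := by
  constructor
  · intro h
    have h1 : x * B.s x = 0 := congrArg Subtype.val h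
    rcases mul_eq_zero.1 h1 with h2 | h2
    · exact h2
    · exact (map_eq_zero_iff B.s B.s.injective).1 h2
  · rintro rfl; exact B.nm_zero

theorem tr_mul_K (x : F) (c : B.K) : B.tr (x * c) = B.tr x * c := by
  apply Subtype.ext
  change x * c + B.s (x * c) = (x + B.s x) * c
  rw [map_mul, s_K]; ring

theorem tr_K_mul (x : F) (c : B.K) : B.tr (c * x) = c * B.tr x := by
  rw [mul_comm, tr_mul_K, mul_comm]

section char2

variable [CharP F 2]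

theorem add_self (x : F) : x + x = 0 := CharTwo.add_self_eq_zero x

theorem K_add_self (x : B.K) : x + x = 0 := Subtype.ext (CharTwo.add_self_eq_zero (x : F))

theorem tr_K (c : B.K) : B.tr (c : F) = 0 := by
  apply Subtype.ext
  change (c : F) + B.s c = 0
  rw [s_K, CharTwo.add_self_eq_zero]

/-- the trace is onto. -/
theorem tr_surj (c : B.K) : ∃ x, B.tr x = c := by
  obtain ⟨x, hx⟩ := B.ne
  have h1 : B.tr x ≠ 0 := by
    intro h
    have h2 : x + B.s x = 0 := congrArg Subtype.val h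
    apply hx
    have h3 : B.s x = -x := by linear_combination h2
    rw [h3, CharTwo.neg_eq]
  refine ⟨x * ((B.tr x)⁻¹ * c : B.K), ?_⟩
  rw [tr_mul_K, ← mul_assoc, mul_inv_cancel₀ h1, one_mul]

/-- the trace form is nondegenerate. -/
theorem tr_form_surj {b : F} (hb : b ≠ 0) (c : B.K) : ∃ x, B.tr (x * B.s b) = c := by
  obtain ⟨x, hx⟩ := B.tr_surj c
  have hb' : B.s b ≠ 0 := (map_ne_zero_iff B.s B.s.injective).2 hb
  exact ⟨x * (B.s b)⁻¹, by rw [mul_assoc, inv_mul_cancel₀ hb', mul_one, hx]⟩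

/-- a norm-one element different from one. -/
theorem exists_norm_one : ∃ v : F, v ≠ 1 ∧ v ≠ 0 ∧ B.nm v = 1 := by
  obtain ⟨x, hx⟩ := B.ne
  have hx0 : x ≠ 0 := by rintro rfl; exact hx (map_zero _)
  have hs0 : B.s x ≠ 0 := (map_ne_zero_iff B.s B.s.injective).2 hx0
  refine ⟨x / B.s x, ?_, div_ne_zero hx0 hs0, ?_⟩
  · intro h
    exact hx ((div_eq_one_iff_eq hs0).1 h).symm
  · apply Subtype.ext
    change x / B.s x * B.s (x / B.s x) = 1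
    rw [map_div₀, B.invol]
    field_simp

end char2

/-- Hermitian matrices `(α, β, γ) = [[α, β], [β̄, γ]]`. -/
abbrev V : Type _ := B.K × F × B.K

/-- The action of the transvection with parameter `s`. -/
def ma (s : F) (v : B.V) : B.V :=
  (v.1 + B.tr (s * B.s v.2.1) + B.nm s * v.2.2, v.2.1 + s * v.2.2, v.2.2)

/-- The action of the torus. -/
def mh (μ : Fˣ) (ν : B.Kˣ) (v : B.V) : B.V :=
  (B.nm μ * ν * v.1, μ * ((ν : B.K) : F) * v.2.1, ν * v.2.2)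

/-- The action of the Weyl element. -/
def mn (v : B.V) : B.V := (v.2.2, B.s v.2.1, v.1)

theorem ma_add (s : F) (v w : B.V) : B.ma s (v + w) = B.ma s v + B.ma s w := by
  unfold ma
  ext <;> simp [map_add, mul_add, tr_add] <;> ring

theorem ma_zero (s : F) : B.ma s 0 = 0 := by
  unfold ma
  ext <;> simp

/-- The additive subgroup generated by the `X_a`-conjugates of `X_b`. -/
theorem gen [CharP F 2] (S : AddSubgroup B.V) (hb : ∀ c, ((0 : B.K), (0 : F), c) ∈ S)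
    (ha : ∀ s c, B.ma s (0, 0, c) ∈ S) : S = ⊤ := by
  have e1 : ∀ s c, (B.nm s * c, s * (c : F), (0 : B.K)) ∈ S := by
    intro s c
    have := S.add_mem (ha s c) (hb c)
    have e : B.ma s (0, 0, c) + ((0 : B.K), (0 : F), c) = (B.nm s * c, s * (c : F), (0 : B.K)) := by
      unfold ma
      ext
      · simp [tr_zero]
      · simp
      · exact congrArg Subtype.val (B.K_add_self c)
    rwa [e] at this
  have e2 : ∀ s : F, (B.nm s, s, (0 : B.K)) ∈ S := by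
    intro s
    have := e1 s 1
    simpa using this
  have e3 : ∀ x : B.K, (x, (0 : F), (0 : B.K)) ∈ S := by
    intro x
    obtain ⟨y, hy⟩ := B.tr_surj x
    have h1 := S.add_mem (S.add_mem (e2 y) (e2 1)) (e2 (y + 1))
    have e : (B.nm y, y, (0 : B.K)) + (B.nm 1, 1, (0 : B.K)) + (B.nm (y + 1), y + 1, (0 : B.K)) =
        (x, (0 : F), (0 : B.K)) := by
      refine Prod.ext ?_ (Prod.ext ?_ ?_)
      · change B.nm y + B.nm 1 + B.nm (y + 1) = x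
        rw [nm_add, map_one, mul_one, hy]
        have h2 := B.K_add_self (B.nm y + B.nm 1)
        calc B.nm y + B.nm 1 + (B.nm y + B.nm 1 + x) = (B.nm y + B.nm 1 + (B.nm y + B.nm 1)) + x := by
              ring
          _ = x := by rw [h2, zero_add]
      · change y + 1 + (y + 1) = 0
        exact CharTwo.add_self_eq_zero _
      · change (0 : B.K) + 0 + 0 = 0
        simp
    rwa [e] at h1
  rw [eq_top_iff]
  rintro ⟨x, y, z⟩ -
  have h1 := S.add_mem (S.add_mem (e2 y) (e3 (B.nm y + x))) (hb z)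
  have e : (B.nm y, y, (0 : B.K)) + (B.nm y + x, (0 : F), (0 : B.K)) + ((0 : B.K), (0 : F), z) =
      (x, y, z) := by
    refine Prod.ext ?_ (Prod.ext ?_ ?_)
    · change B.nm y + (B.nm y + x) + 0 = x
      rw [← add_assoc, B.K_add_self, zero_add, add_zero]
    · change y + 0 + 0 = y
      simp
    · change (0 : B.K) + 0 + z = z
      simp
  rwa [e] at h1

end Bar

end Cfsg.Agent.StdRank2.UFour
end

-- part: StdRank2/UFour/Env
section
/-!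
# Environment for the growth of the Sylow 2-subgroup of `U₄(q)`, `U₅(q)`, `q` even

`WEnv B G`: root groups `xa, xc : F → G`, `xb, xz : K → G` (`K` the fixed field), `W = xz K · xc F · xb K`
the hermitian matrices, `Q` a subgroup of `G` with `W ≤ Z(Q)` (`U₄`: `Q = W`; `U₅`: `Q` of order `q^8`),
a torus `T`, a Weyl element `na`, an involution `t` commuting with everything, and `cent_W`:
`C_{C(t)}(Q) = ⟨t⟩ W` (no cores).

`Seed`: a group `Y` moving `t`, `[Y, t] = X_z`.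

`WGrown` is the output of the `W`-level growth. `Env` adds what is special to `U₄` and `Grown` is
the final output for `U₄`.
-/

set_option autoImplicit false
set_option linter.unusedSectionVars false

namespace Cfsg.Agent.StdRank2.UFour

open Subgroup

variable {F : Type*} [Field F] [CharP F 2] (B : Bar F) (G : Type*) [Group G]

/-- The environment of the `W`-level growth. -/
structure WEnv where
  xa : F → G
  xc : F → G
  xb : B.K → G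
  xz : B.K → G
  h : Fˣ → B.Kˣ → G
  T : Subgroup G
  Q : Subgroup G
  na : G
  t : G
  lam : B.Kˣ
  lam_ne : (lam : B.K) ≠ 1
  xa_add : ∀ x y, xa (x + y) = xa x * xa y
  xc_add : ∀ x y, xc (x + y) = xc x * xc y
  xb_add : ∀ x y, xb (x + y) = xb x * xb y
  xz_add : ∀ x y, xz (x + y) = xz x * xz y
  z_c : ∀ x y, xz x * xc y = xc y * xz x
  z_b : ∀ x y, xz x * xb y = xb y * xz x
  z_a : ∀ x y, xz x * xa y = xa y * xz x
  c_b : ∀ x y, xc x * xb y = xb y * xc x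
  a_c : ∀ s x, xa s * xc x * (xa s)⁻¹ = xz (B.tr (s * B.s x)) * xc x
  a_b : ∀ s x, xa s * xb x * (xa s)⁻¹ = xz (B.nm s * x) * xc (s * x) * xb x
  w_inj : ∀ x y z, xz x * xc y * xb z = 1 → x = 0 ∧ y = 0 ∧ z = 0
  t_sq : t * t = 1
  t_a : ∀ x, t * xa x = xa x * t
  t_c : ∀ x, t * xc x = xc x * t
  t_b : ∀ x, t * xb x = xb x * t
  t_z : ∀ x, t * xz x = xz x * t
  t_na : t * na = na * t
  t_not : ∀ s x y z, t ≠ xz x * xc y * xb z * xa s
  h_mem : ∀ μ ν, h μ ν ∈ T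
  h_a : ∀ μ ν x, h μ ν * xa x * (h μ ν)⁻¹ = xa (μ * x)
  h_c : ∀ μ ν x, h μ ν * xc x * (h μ ν)⁻¹ = xc (μ * ((ν : B.K) : F) * x)
  h_b : ∀ μ ν x, h μ ν * xb x * (h μ ν)⁻¹ = xb (ν * x)
  h_z : ∀ μ ν x, h μ ν * xz x * (h μ ν)⁻¹ = xz (B.nm μ * ν * x)
  T_comm : ∀ g ∈ T, ∀ k ∈ T, g * k = k * g
  T_odd : ∀ g ∈ T, ∃ m, Odd m ∧ g ^ m = 1
  T_t : ∀ g ∈ T, t * g = g * t
  T_Q : ∀ g ∈ T, ∀ x, x ∈ Q ↔ g * x * g⁻¹ ∈ Q
  T_act : ∀ g ∈ T, ∃ μ : Fˣ, ∃ ν : B.Kˣ, (∀ x, g * xa x * g⁻¹ = xa (μ * x)) ∧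
    (∀ x, g * xc x * g⁻¹ = xc (μ * ((ν : B.K) : F) * x)) ∧
    (∀ x, g * xb x * g⁻¹ = xb (ν * x)) ∧ (∀ x, g * xz x * g⁻¹ = xz (B.nm μ * ν * x))
  na_z : ∀ x, na * xz x * na⁻¹ = xb x
  na_b : ∀ x, na * xb x * na⁻¹ = xz x
  na_c : ∀ x, na * xc x * na⁻¹ = xc (B.s x)
  na_sq : na * na = 1
  na_T : ∀ g, g ∈ T ↔ na * g * na⁻¹ ∈ T
  na_Q : ∀ g, g ∈ Q ↔ na * g * na⁻¹ ∈ Q
  na_h : ∀ ν, na * h 1 ν = h 1 ν * na
  xa_Q : ∀ s g, g ∈ Q → xa s * g * (xa s)⁻¹ ∈ Q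
  z_Q : ∀ x, ∀ g ∈ Q, xz x * g = g * xz x
  c_Q : ∀ x, ∀ g ∈ Q, xc x * g = g * xc x
  b_Q : ∀ x, ∀ g ∈ Q, xb x * g = g * xb x
  t_Q : ∀ g ∈ Q, t * g = g * t
  z_mem : ∀ x, xz x ∈ Q
  c_mem : ∀ x, xc x ∈ Q
  b_mem : ∀ x, xb x ∈ Q
  cent_W : ∀ c, c * t = t * c → (∀ g ∈ Q, c * g = g * c) →
    ∃ x y z, c = xz x * xc y * xb z ∨ c = t * (xz x * xc y * xb z)

/-- The environment for `U₄(q)`. -/
structure Env extends WEnv B G where
  nb : G
  t_nb : t * nb = nb * t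
  nb_a : ∀ x, nb * xa x * nb⁻¹ = xc x
  nb_c : ∀ x, nb * xc x * nb⁻¹ = xa x
  nb_z : ∀ x, nb * xz x * nb⁻¹ = xz x
  nb_sq : nb * nb = 1
  nb_T : ∀ g, g ∈ T ↔ nb * g * nb⁻¹ ∈ T
  Q_le : ∀ g ∈ Q, ∃ x y z, g = xz x * xc y * xb z
  cent_Q : ∀ c, c * t = t * c → (∀ x, c * xz x = xz x * c) →
    (∀ x, ∃ z, c * xa x * c⁻¹ = xz z * xa x) → (∀ x, ∃ z, c * xc x * c⁻¹ = xz z * xc x) →
    ∃ x y s, c = xz x * xc y * xa s ∨ c = t * (xz x * xc y * xa s)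
  cent_U : ∀ c, c * t = t * c → (∀ x, ∃ y, c * xz x * c⁻¹ = xz y) →
    (∀ x, ∃ y z, c * xc x * c⁻¹ = xz z * xc y) →
    (∀ x, ∃ y z, c * xa x * c⁻¹ = xz z * xc y * xa x) →
    (∀ x, ∃ y z, c * xb x * c⁻¹ = xz z * xc y * xb x) →
    ∃ x y z s, c = xz x * xc y * xb z * xa s ∨ c = t * (xz x * xc y * xb z * xa s)

variable {B G}

/-- The input: a group moving `t`. -/
structure Seed (E : WEnv B G) where
  Y : Subgroup G
  t_mem : E.t ∈ Y
  z_mem : ∀ x, E.xz x ∈ Y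
  Q_comm : ∀ y ∈ Y, ∀ g ∈ E.Q, y * g = g * y
  a_comm : ∀ y ∈ Y, ∀ s, y * E.xa s = E.xa s * y
  conj_t : ∀ y ∈ Y, ∃ c, y * E.t * y⁻¹ = E.xz c * E.t
  onto : ∀ c, ∃ y ∈ Y, y * E.t * y⁻¹ = E.xz c * E.t
  cent : ∀ y ∈ Y, y * E.t = E.t * y → ∃ x, y = E.xz x ∨ y = E.t * E.xz x
  conj_T : ∀ g ∈ E.T, ∀ y ∈ Y, g * y * g⁻¹ ∈ Y

/-- A grown root group `R` over the root group `x : M → G`: `R` is elementary abelian, normalised by
the torus, contains `x M`, `[R, t] = x M`, `C_R(t) = x M`. -/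
structure Root {M : Type*} (E : WEnv B G) (x : M → G) (R : Subgroup G) : Prop where
  mem : ∀ c, x c ∈ R
  sq : ∀ g ∈ R, g * g = 1
  conj_t : ∀ g ∈ R, ∃ c, g * E.t * g⁻¹ = x c * E.t
  onto : ∀ c, ∃ g ∈ R, g * E.t * g⁻¹ = x c * E.t
  cent : ∀ g ∈ R, g * E.t = E.t * g → ∃ c, g = x c
  conj_T : ∀ k ∈ E.T, ∀ g ∈ R, k * g * k⁻¹ ∈ R

/-- The output of the `W`-level growth. -/
structure WGrown (E : WEnv B G) where
  Z : Subgroup G
  C : Subgroup G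
  Bb : Subgroup G
  rootZ : Root E E.xz Z
  rootC : Root E E.xc C
  rootB : Root E E.xb Bb
  Z_C : ∀ g ∈ Z, ∀ k ∈ C, g * k = k * g
  Z_B : ∀ g ∈ Z, ∀ k ∈ Bb, g * k = k * g
  C_B : ∀ g ∈ C, ∀ k ∈ Bb, g * k = k * g
  Z_Q : ∀ g ∈ Z, ∀ k ∈ E.Q, g * k = k * g
  C_Q : ∀ g ∈ C, ∀ k ∈ E.Q, g * k = k * g
  B_Q : ∀ g ∈ Bb, ∀ k ∈ E.Q, g * k = k * g
  na_Z : ∀ g ∈ Z, E.na * g * E.na⁻¹ ∈ Bb
  na_B : ∀ g ∈ Bb, E.na * g * E.na⁻¹ ∈ Z
  na_C : ∀ g ∈ C, E.na * g * E.na⁻¹ ∈ C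
  Z_a : ∀ g ∈ Z, ∀ s, g * E.xa s = E.xa s * g
  a_C : ∀ s, ∀ g ∈ C, ∃ r ∈ Z, E.xa s * g * (E.xa s)⁻¹ = r * g
  a_B : ∀ s, ∀ g ∈ Bb, ∃ r ∈ Z, ∃ c ∈ C, E.xa s * g * (E.xa s)⁻¹ = r * c * g

/-- The output for `U₄(q)`: all four grown root groups. -/
structure Grown (E : Env B G) extends WGrown E.toWEnv where
  A : Subgroup G
  rootA : Root E.toWEnv E.xa A
  Z_A : ∀ g ∈ Z, ∀ k ∈ A, g * k = k * g
  A_C : ∀ a ∈ A, ∀ c ∈ C, ∃ r ∈ Z, a * c * a⁻¹ = r * c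
  A_B : ∀ a ∈ A, ∀ g ∈ Bb, ∃ r ∈ Z, ∃ c ∈ C, a * g * a⁻¹ = r * c * g
  nb_Z : ∀ g ∈ Z, E.nb * g * E.nb⁻¹ ∈ Z
  nb_A : ∀ g ∈ A, E.nb * g * E.nb⁻¹ ∈ C
  nb_C : ∀ g ∈ C, E.nb * g * E.nb⁻¹ ∈ A

namespace WEnv

variable (E : WEnv B G)

/-! ### General lemmas -/

theorem conj_eq_iff {g x y : G} : g * x * g⁻¹ = y ↔ g * x = y * g := mul_inv_eq_iff_eq_mul

theorem inv_of_sq {x : G} (h : x * x = 1) : x⁻¹ = x := inv_eq_of_mul_eq_one_right h

theorem hom_zero {M : Type*} [AddGroup M] {f : M → G} (h : ∀ x y, f (x + y) = f x * f y) :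
    f 0 = 1 := by
  have := h 0 0
  rw [add_zero] at this
  exact left_eq_mul.1 this

theorem xa_zero : E.xa 0 = 1 := hom_zero E.xa_add
theorem xc_zero : E.xc 0 = 1 := hom_zero E.xc_add
theorem xb_zero : E.xb 0 = 1 := hom_zero E.xb_add
theorem xz_zero : E.xz 0 = 1 := hom_zero E.xz_add

theorem xa_sq (x : F) : E.xa x * E.xa x = 1 := by rw [← E.xa_add, Bar.add_self, xa_zero]
theorem xc_sq (x : F) : E.xc x * E.xc x = 1 := by rw [← E.xc_add, Bar.add_self, xc_zero]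
theorem xb_sq (x : B.K) : E.xb x * E.xb x = 1 := by rw [← E.xb_add, B.K_add_self, xb_zero]
theorem xz_sq (x : B.K) : E.xz x * E.xz x = 1 := by rw [← E.xz_add, B.K_add_self, xz_zero]

theorem t_inv : E.t⁻¹ = E.t := inv_of_sq E.t_sq

/-! ### The group `W` -/

/-- the elements of `W`. -/
def w (v : B.V) : G := E.xz v.1 * E.xc v.2.1 * E.xb v.2.2

theorem w_add (u v : B.V) : E.w (u + v) = E.w u * E.w v := by
  unfold w
  simp only [Prod.fst_add, Prod.snd_add, E.xz_add, E.xc_add, E.xb_add]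
  have h1 := E.z_c
  have h2 := E.z_b
  have h3 := E.c_b
  calc E.xz u.1 * E.xz v.1 * (E.xc u.2.1 * E.xc v.2.1) * (E.xb u.2.2 * E.xb v.2.2)
      = E.xz u.1 * (E.xz v.1 * E.xc u.2.1) * (E.xc v.2.1 * E.xb u.2.2) * E.xb v.2.2 := by group
    _ = E.xz u.1 * (E.xc u.2.1 * E.xz v.1) * (E.xb u.2.2 * E.xc v.2.1) * E.xb v.2.2 := by
        rw [h1, h3]
    _ = E.xz u.1 * E.xc u.2.1 * (E.xz v.1 * E.xb u.2.2) * E.xc v.2.1 * E.xb v.2.2 := by group
    _ = E.xz u.1 * E.xc u.2.1 * (E.xb u.2.2 * E.xz v.1) * E.xc v.2.1 * E.xb v.2.2 := by rw [h2]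
    _ = _ := by group

theorem w_zero : E.w 0 = 1 := hom_zero E.w_add

theorem V_add_self (v : B.V) : v + v = 0 :=
  Prod.ext (B.K_add_self _) (Prod.ext (Bar.add_self _) (B.K_add_self _))

theorem w_sq (v : B.V) : E.w v * E.w v = 1 := by rw [← E.w_add, V_add_self, w_zero]

theorem w_inv (v : B.V) : (E.w v)⁻¹ = E.w v := inv_of_sq (E.w_sq v)

theorem w_comm (u v : B.V) : E.w u * E.w v = E.w v * E.w u := by
  rw [← E.w_add, add_comm, E.w_add]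

theorem w_eq_one {v : B.V} (h : E.w v = 1) : v = 0 := by
  obtain ⟨h1, h2, h3⟩ := E.w_inj _ _ _ h
  exact Prod.ext h1 (Prod.ext h2 h3)

theorem w_injective {u v : B.V} (h : E.w u = E.w v) : u = v := by
  have h1 : E.w (u + v) = 1 := by rw [E.w_add, h, E.w_sq]
  have h2 := E.w_eq_one h1
  calc u = u + (v + v) := by rw [V_add_self, add_zero]
    _ = (u + v) + v := by rw [add_assoc]
    _ = v := by rw [h2, zero_add]

theorem w_z (x : B.K) : E.w (x, 0, 0) = E.xz x := by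
  simp [w, E.xc_zero, E.xb_zero]

theorem w_c (x : F) : E.w (0, x, 0) = E.xc x := by
  simp [w, E.xz_zero, E.xb_zero]

theorem w_b (x : B.K) : E.w (0, 0, x) = E.xb x := by
  simp [w, E.xz_zero, E.xc_zero]

theorem t_w (v : B.V) : E.t * E.w v = E.w v * E.t := by
  unfold w
  calc E.t * (E.xz v.1 * E.xc v.2.1 * E.xb v.2.2)
      = E.t * E.xz v.1 * E.xc v.2.1 * E.xb v.2.2 := by group
    _ = E.xz v.1 * (E.t * E.xc v.2.1) * E.xb v.2.2 := by rw [E.t_z]; group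
    _ = E.xz v.1 * E.xc v.2.1 * (E.t * E.xb v.2.2) := by rw [E.t_c]; group
    _ = _ := by rw [E.t_b]; group

theorem t_not_w (v : B.V) : E.t ≠ E.w v := by
  intro h
  apply E.t_not 0 v.1 v.2.1 v.2.2
  rw [E.xa_zero, mul_one]
  exact h

/-- conjugation of `W` from the conjugation of the root elements. -/
theorem conj_w {g : G} {f : B.V → B.V} (hz : ∀ x, g * E.xz x * g⁻¹ = E.w (f (x, 0, 0)))
    (hc : ∀ x, g * E.xc x * g⁻¹ = E.w (f (0, x, 0)))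
    (hb : ∀ x, g * E.xb x * g⁻¹ = E.w (f (0, 0, x)))
    (hf : ∀ u v, f (u + v) = f u + f v) (v : B.V) : g * E.w v * g⁻¹ = E.w (f v) := by
  have e : v = (v.1, 0, 0) + (0, v.2.1, 0) + (0, 0, v.2.2) := by
    refine Prod.ext ?_ (Prod.ext ?_ ?_) <;> simp
  calc g * E.w v * g⁻¹
      = (g * E.xz v.1 * g⁻¹) * (g * E.xc v.2.1 * g⁻¹) * (g * E.xb v.2.2 * g⁻¹) := by
        unfold w; group
    _ = E.w (f (v.1, 0, 0)) * E.w (f (0, v.2.1, 0)) * E.w (f (0, 0, v.2.2)) := by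
        rw [hz, hc, hb]
    _ = E.w (f v) := by
        rw [← E.w_add, ← E.w_add, ← hf, ← hf, ← e]

theorem conj_ma (s : F) (v : B.V) : E.xa s * E.w v * (E.xa s)⁻¹ = E.w (B.ma s v) := by
  apply E.conj_w (f := B.ma s) _ _ _ (B.ma_add s)
  · intro x
    have e : B.ma s (x, 0, 0) = (x, 0, 0) := by
      unfold Bar.ma; refine Prod.ext ?_ (Prod.ext ?_ ?_) <;> simp [B.tr_zero]
    rw [e, w_z, conj_eq_iff, E.z_a]
  · intro x
    have e : B.ma s (0, x, 0) = (B.tr (s * B.s x), x, 0) := by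
      unfold Bar.ma; refine Prod.ext ?_ (Prod.ext ?_ ?_) <;> simp
    rw [e, E.a_c]
    simp [w, E.xb_zero]
  · intro x
    have e : B.ma s (0, 0, x) = (B.nm s * x, s * x, x) := by
      unfold Bar.ma; refine Prod.ext ?_ (Prod.ext ?_ ?_) <;> simp [B.tr_zero]
    rw [e, E.a_b]
    rfl

theorem mh_add (μ : Fˣ) (ν : B.Kˣ) (u v : B.V) : B.mh μ ν (u + v) = B.mh μ ν u + B.mh μ ν v := by
  unfold Bar.mh
  refine Prod.ext ?_ (Prod.ext ?_ ?_) <;> simp [mul_add]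

theorem mn_add (u v : B.V) : B.mn (u + v) = B.mn u + B.mn v := by
  unfold Bar.mn
  refine Prod.ext ?_ (Prod.ext ?_ ?_) <;> simp

theorem conj_mh (μ : Fˣ) (ν : B.Kˣ) (v : B.V) :
    E.h μ ν * E.w v * (E.h μ ν)⁻¹ = E.w (B.mh μ ν v) := by
  apply E.conj_w (f := B.mh μ ν) _ _ _ (mh_add μ ν)
  · intro x
    have e : B.mh μ ν (x, 0, 0) = (B.nm μ * ν * x, 0, 0) := by
      unfold Bar.mh; refine Prod.ext ?_ (Prod.ext ?_ ?_) <;> simp
    rw [e, w_z, E.h_z]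
  · intro x
    have e : B.mh μ ν (0, x, 0) = (0, μ * ((ν : B.K) : F) * x, 0) := by
      unfold Bar.mh; refine Prod.ext ?_ (Prod.ext ?_ ?_) <;> simp
    rw [e, w_c, E.h_c]
  · intro x
    have e : B.mh μ ν (0, 0, x) = (0, 0, ν * x) := by
      unfold Bar.mh; refine Prod.ext ?_ (Prod.ext ?_ ?_) <;> simp
    rw [e, w_b, E.h_b]

theorem conj_mn (v : B.V) : E.na * E.w v * E.na⁻¹ = E.w (B.mn v) := by
  apply E.conj_w (f := B.mn) _ _ _ mn_add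
  · intro x
    have e : B.mn (x, 0, 0) = (0, 0, x) := by
      unfold Bar.mn; refine Prod.ext ?_ (Prod.ext ?_ ?_) <;> simp
    rw [e, w_b, E.na_z]
  · intro x
    have e : B.mn (0, x, 0) = (0, B.s x, 0) := by
      unfold Bar.mn; refine Prod.ext ?_ (Prod.ext ?_ ?_) <;> simp
    rw [e, w_c, E.na_c]
  · intro x
    have e : B.mn (0, 0, x) = (x, 0, 0) := by
      unfold Bar.mn; refine Prod.ext ?_ (Prod.ext ?_ ?_) <;> simp
    rw [e, w_z, E.na_b]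

theorem cent_w {c : G} (h : c * E.t = E.t * c) (hw : ∀ g ∈ E.Q, c * g = g * c) :
    ∃ v, c = E.w v ∨ c = E.t * E.w v := by
  obtain ⟨x, y, z, h1⟩ := E.cent_W c h hw
  exact ⟨(x, y, z), h1⟩

theorem w_mem_Q (v : B.V) : E.w v ∈ E.Q :=
  E.Q.mul_mem (E.Q.mul_mem (E.z_mem _) (E.c_mem _)) (E.b_mem _)

theorem w_Q (v : B.V) {g : G} (hg : g ∈ E.Q) : E.w v * g = g * E.w v := by
  unfold w
  rw [mul_assoc, E.b_Q _ g hg, ← mul_assoc, mul_assoc (E.xz _), E.c_Q _ g hg, ← mul_assoc,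
    E.z_Q _ g hg]
  group

/-- an element of `T` acts on `W` like some `h μ ν`. -/
theorem conj_T_w {g : G} (hg : g ∈ E.T) : ∃ μ ν, ∀ v, g * E.w v * g⁻¹ = E.w (B.mh μ ν v) := by
  obtain ⟨μ, ν, -, hc, hb, hz⟩ := E.T_act g hg
  refine ⟨μ, ν, fun v => ?_⟩
  unfold w Bar.mh
  have e : g * (E.xz v.1 * E.xc v.2.1 * E.xb v.2.2) * g⁻¹ =
      (g * E.xz v.1 * g⁻¹) * (g * E.xc v.2.1 * g⁻¹) * (g * E.xb v.2.2 * g⁻¹) := by group
  rw [e, hc, hb, hz]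

end WEnv

end Cfsg.Agent.StdRank2.UFour
end

private theorem dce_7afb8e2c0422 : _root_.True := by
  try have : _root_.True := by simp only [_root_.Cfsg.Agent.StdRank2.UFour.WEnv.w.eq_1]
  exact _root_.True.intro
end

-- part: StdRank2/UFive/Env
section
set_option linter.all false
open scoped Cfsg.Agent.FastGrp

/-!
# Environment for the growth of the Sylow 2-subgroup of `U₅(q)`, `q` even

Letters of `UFour.WEnv`: roots `a = e₁-e₂` (`xa : F → G`), `c = e₁+e₂` (`xc : F → G`), `z = 2e₁` (`xz : K → G`),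
`b = 2e₂` (`xb : K → G`), `W = X_z X_c X_b`.  New: `p1, p2 : Tp B → G` are the root groups of `e₁`, `e₂`
(`Tp B = {(w, c) | c + c̄ = w w̄}`), `p1 (0, k) = xz k`, `p2 (0, k) = xb k`, `Q = Q₂ = p1 · xc · p2` of order `q^8`,
`Q₁ = xa · p1 · xc` of order `q^7`.

`Env` is the environment, `Seed5` the input, `QGrown` is the output of the `Q₁`-level, `Grown` the final output.
-/

set_option autoImplicit false
set_option linter.unusedSectionVars false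

namespace Cfsg.Agent.StdRank2.UFive

open Subgroup Cfsg.Agent.StdRank2.UFour

section Tp

variable {F : Type*} [Field F] [CharP F 2] (B : Bar F)

/-- The parameters of the root groups of `e₁`, `e₂`. -/
@[ext] structure Tp where
  w : F
  c : F
  ok : c + B.s c = w * B.s w

variable {B}

namespace Tp

theorem eq_of {x y : F} (h : x + y = 0) : x = y := by
  have := eq_neg_of_add_eq_zero_left h
  rwa [CharTwo.neg_eq] at this

instance : Mul (Tp B) := ⟨fun p q => ⟨p.w + q.w, p.c + q.c + q.w * B.s p.w, by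
  have h1 := p.ok
  have h2 := q.ok
  simp only [map_add, map_mul, B.invol]
  linear_combination h1 + h2⟩⟩
instance : One (Tp B) := ⟨⟨0, 0, by simp⟩⟩
instance : Inv (Tp B) := ⟨fun p => ⟨p.w, B.s p.c, by
  have h1 := p.ok
  rw [B.invol]
  linear_combination h1⟩⟩

@[simp] theorem mul_w (p q : Tp B) : (p * q).w = p.w + q.w := rfl
@[simp] theorem mul_c (p q : Tp B) : (p * q).c = p.c + q.c + q.w * B.s p.w := rfl
@[simp] theorem one_w : (1 : Tp B).w = 0 := rfl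
@[simp] theorem one_c : (1 : Tp B).c = 0 := rfl
@[simp] theorem inv_w (p : Tp B) : p⁻¹.w = p.w := rfl
@[simp] theorem inv_c (p : Tp B) : p⁻¹.c = B.s p.c := rfl

instance : Group (Tp B) where
  mul_assoc p q r := by
    ext
    · simp [add_assoc]
    · simp only [mul_c, mul_w, map_add]; ring
  one_mul p := by ext <;> simp
  mul_one p := by ext <;> simp
  inv_mul_cancel p := by
    ext
    · simp [Bar.add_self]
    · simp only [mul_c, inv_c, inv_w, one_c]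
      have h1 := p.ok
      have h2 := CharTwo.add_self_eq_zero (p.w * B.s p.w)
      linear_combination h1 + h2

/-- the central elements -/
def ofK (k : B.K) : Tp B := ⟨0, k, by
  rw [B.s_K, map_zero, mul_zero]; exact CharTwo.add_self_eq_zero _⟩

@[simp] theorem ofK_w (k : B.K) : (ofK k).w = 0 := rfl
@[simp] theorem ofK_c (k : B.K) : (ofK k).c = k := rfl

/-- scaling -/
def sm (ω : F) (p : Tp B) : Tp B := ⟨ω * p.w, ω * B.s ω * p.c, by
  have h1 := p.ok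
  simp only [map_mul, B.invol]
  linear_combination ω * B.s ω * h1⟩

@[simp] theorem sm_w (ω : F) (p : Tp B) : (sm ω p).w = ω * p.w := rfl
@[simp] theorem sm_c (ω : F) (p : Tp B) : (sm ω p).c = ω * B.s ω * p.c := rfl

end Tp

end Tp

variable {F : Type*} [Field F] [CharP F 2] (B : Bar F) (G : Type*) [Group G]

/-- The environment for `U₅(q)`. -/
structure Env extends WEnv B G where
  p1 : Tp B → G
  p2 : Tp B → G
  nb : G
  hh : Fˣ → Fˣ → G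
  p1_mul : ∀ p q, p1 (p * q) = p1 p * p1 q
  p2_mul : ∀ p q, p2 (p * q) = p2 p * p2 q
  p1_K : ∀ k, p1 (Tp.ofK k) = xz k
  p2_K : ∀ k, p2 (Tp.ofK k) = xb k
  a_1 : ∀ s q, xa s * p1 q = p1 q * xa s
  a_2 : ∀ s q, xa s * p2 q * (xa s)⁻¹ = p1 (Tp.sm (B.s s) q) * xc (s * B.s q.c) * p2 q
  one_two : ∀ q r, p1 q * p2 r * (p1 q)⁻¹ = xc (r.w * B.s q.w) * p2 r
  mem_Q : ∀ g, g ∈ Q ↔ ∃ q s r, g = p1 q * xc s * p2 r
  u_inj : ∀ q s r x, p1 q * xc s * p2 r * xa x = 1 → q = 1 ∧ s = 0 ∧ r = 1 ∧ x = 0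
  -- `na` swaps `e₁`, `e₂`
  na_a : na * xa 1 * na * xa 1 * na * xa 1 = 1
  na_1 : ∀ q, na * p1 q * na⁻¹ = p2 q
  na_2 : ∀ q, na * p2 q * na⁻¹ = p1 q
  -- `nb` is `e₂ ↦ -e₂`
  nb_sq : nb * nb = 1
  nb_b : nb * xb 1 * nb * xb 1 * nb * xb 1 = 1
  t_nb : t * nb = nb * t
  nb_a : ∀ x, nb * xa x * nb⁻¹ = xc x
  nb_c : ∀ x, nb * xc x * nb⁻¹ = xa x
  nb_1 : ∀ q, nb * p1 q * nb⁻¹ = p1 q
  nb_T : ∀ g, g ∈ T ↔ nb * g * nb⁻¹ ∈ T
  braid : na * nb * na * nb = nb * na * nb * na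
  -- the torus
  hh_mem : ∀ α β, hh α β ∈ T
  hh_a : ∀ (α β : Fˣ) x, hh α β * xa x * (hh α β)⁻¹ = xa (α * (β : F)⁻¹ * x)
  hh_c : ∀ (α β : Fˣ) x, hh α β * xc x * (hh α β)⁻¹ = xc (α * B.s β * x)
  hh_z : ∀ (α β : Fˣ) x, hh α β * xz x * (hh α β)⁻¹ = xz (B.nm α * x)
  hh_b : ∀ (α β : Fˣ) x, hh α β * xb x * (hh α β)⁻¹ = xb (B.nm β * x)
  hh_1 : ∀ (α β : Fˣ) q, hh α β * p1 q * (hh α β)⁻¹ =
    p1 (Tp.sm (B.s α * B.s α * B.s β * (α : F)⁻¹ * (β : F)⁻¹) q)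
  hh_2 : ∀ (α β : Fˣ) q, hh α β * p2 q * (hh α β)⁻¹ =
    p2 (Tp.sm (B.s β * B.s β * B.s α * (α : F)⁻¹ * (β : F)⁻¹) q)
  na_hh : ∀ α β, na * hh α β * na⁻¹ = hh β α
  nb_hh : ∀ (α β γ : Fˣ), (γ : F) * B.s β = 1 → nb * hh α β * nb⁻¹ = hh α γ
  hh_mul : ∀ α β α' β', hh (α * α') (β * β') = hh α β * hh α' β'
  T_act' : ∀ g ∈ T, ∃ ω ω' : Fˣ, (∀ q, g * p1 q * g⁻¹ = p1 (Tp.sm ω q)) ∧ (∀ q, g * p2 q * g⁻¹ = p2 (Tp.sm ω' q))
  -- the two facts on `C(t)`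
  cent_Q2 : ∀ c, c * t = t * c → (∀ x, c * xz x = xz x * c) → (∀ x, c * xc x = xc x * c) →
    (∀ x, c * xb x = xb x * c) →
    (∀ q, ∃ x y z, c * p1 q * c⁻¹ = xz x * xc y * xb z * p1 q) →
    (∀ q, ∃ x y z, c * p2 q * c⁻¹ = xz x * xc y * xb z * p2 q) → ∃ g ∈ Q, c = g ∨ c = t * g
  cent_Q1 : ∀ c, c * t = t * c → (∀ x, c * xz x = xz x * c) →
    (∀ x, ∃ z, c * xa x * c⁻¹ = xz z * xa x) → (∀ x, ∃ z, c * xc x * c⁻¹ = xz z * xc x) →
    (∀ q, ∃ z, c * p1 q * c⁻¹ = xz z * p1 q) →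
    ∃ q x s, c = p1 q * xc x * xa s ∨ c = t * (p1 q * xc x * xa s)

variable {B G}

/-- The input: a group moving `t`, centralising `P' ∋ nb`. -/
structure Seed5 (E : Env B G) extends Seed E.toWEnv where
  nb_comm : ∀ y ∈ Y, y * E.nb = E.nb * y

/-- The output of the `Q₁`-level: `N₁ = A P C`, of order `q^14`; `A` over `xa`, `C` over `xc`, `P / Z` over
`p1 / xz`. -/
structure QGrown (E : Env B G) extends WGrown E.toWEnv where
  nb_Z : ∀ g ∈ Z, E.nb * g = g * E.nb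
  A : Subgroup G
  P : Subgroup G
  mem_A : ∀ g, g ∈ A ↔ E.nb * g * E.nb⁻¹ ∈ C
  mem_C : ∀ g, g ∈ C ↔ E.nb * g * E.nb⁻¹ ∈ A
  rootA : Root E.toWEnv E.xa A
  p1_mem : ∀ q, E.p1 q ∈ P
  Z_le : Z ≤ P
  Z_A : ∀ g ∈ Z, ∀ k ∈ A, g * k = k * g
  Z_P : ∀ g ∈ Z, ∀ k ∈ P, g * k = k * g
  A_C : ∀ a ∈ A, ∀ c ∈ C, ∃ r ∈ Z, a * c * a⁻¹ = r * c
  A_P : ∀ a ∈ A, ∀ g ∈ P, a * g = g * a
  C_P : ∀ c ∈ C, ∀ g ∈ P, c * g = g * c
  P_sq : ∀ g ∈ P, g * g ∈ Z
  P_comm : ∀ g ∈ P, ∀ k ∈ P, ∃ r ∈ Z, g * k * g⁻¹ = r * k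
  P_t : ∀ g ∈ P, ∃ r ∈ Z, ∃ q, g * E.t * g⁻¹ = r * E.p1 q * E.t
  P_onto : ∀ w : F, ∃ g ∈ P, ∃ r ∈ Z, ∃ q, q.w = w ∧ g * E.t * g⁻¹ = r * E.p1 q * E.t
  P_cent : ∀ g ∈ P, ∀ r ∈ Z, g * E.t * g⁻¹ = r * E.t → ∃ r ∈ Z, ∃ q, g = r * E.p1 q
  P_T : ∀ k ∈ E.T, ∀ g ∈ P, k * g * k⁻¹ ∈ P
  P_nb : ∀ g ∈ P, E.nb * g * E.nb⁻¹ ∈ P
  l : Fˣ
  l_K : B.s l = l
  l_ne : (l : F) ≠ 1
  P_h : ∀ g ∈ P, E.hh 1 l * g = g * E.hh 1 l
  P_2 : ∀ g ∈ P, ∀ q, ∃ c ∈ C, g * E.p2 q * g⁻¹ = c * E.p2 q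
  A_2 : ∀ a ∈ A, ∀ q, ∃ g ∈ P, ∃ c ∈ C, a * E.p2 q * a⁻¹ = g * c * E.p2 q

/-- The final output of the growth for `U₅(q)`. -/
structure Grown (E : Env B G) extends QGrown E where
  R : Subgroup G
  mem_R : ∀ g, g ∈ R ↔ E.na * g * E.na⁻¹ ∈ P
  P_B : ∀ g ∈ P, ∀ k ∈ Bb, g * k = k * g
  A_B : ∀ a ∈ A, ∀ k ∈ Bb, ∃ r ∈ Z, ∃ c ∈ C, a * k * a⁻¹ = r * c * k
  P_R : ∀ g ∈ P, ∀ k ∈ R, ∃ c ∈ C, g * k * g⁻¹ = c * k
  A_R : ∀ a ∈ A, ∀ k ∈ R, ∃ g ∈ P, ∃ c ∈ C, a * k * a⁻¹ = g * c * k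

end Cfsg.Agent.StdRank2.UFive
end

-- part: StdRank2/UFour/SeedOdd
section
prune_inst 0x4000000000800002006000000000000000000000000400000020000400000020000000004000000000000000000000000004000000000000000000001000008000000000000000010000084000000000000000000000000000000000000000000000
set_option linter.all false
open scoped Cfsg.Agent.FastGrp

-- part: StdRank2/UFour/SeedField
section
/-!
# Field lemmas for the seed of `U₄(q)`, `U₅(q)`

`V` is an `F`-space of dimension at most one (`U₄`: `V = 0`, `U₅`: `V = F`). An additive map of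
`F × V × F` (the coordinates of `Q₁/Z`) commuting with the torus of the Levi factor and acting trivially on
the two outer parts is `(s, v, y) ↦ (s, l v, y)`.
-/

set_option autoImplicit false

namespace Cfsg.Agent.StdRank2.UFour.SeedField

variable {F : Type*} [Field F] [CharP F 2] (B : Bar F)

theorem exists_good (h : ∃ k : B.K, k ≠ 0 ∧ k ≠ 1) : ∃ u : F, u ≠ 0 ∧ u ≠ 1 ∧ u * u + u + 1 ≠ 0 := by
  obtain ⟨k, hk0, hk1⟩ := h
  have h2 : ∀ a : F, a + a = 0 := fun a => CharTwo.add_self_eq_zero a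
  have hk0' : (k : F) ≠ 0 := fun h => hk0 (Subtype.ext h)
  have hk1' : (k : F) ≠ 1 := fun h => hk1 (Subtype.ext h)
  by_cases hk : (k : F) * k + k + 1 = 0
  · obtain ⟨u, hu⟩ := B.ne
    have huK : u ∉ B.K := fun h => hu h
    refine ⟨u, ?_, ?_, ?_⟩
    · rintro rfl; exact huK (zero_mem _)
    · rintro rfl; exact huK (one_mem _)
    · intro h
      have h3 : (u + k) * (u + k + 1) = 0 := by
        linear_combination h + hk + h2 (u * k) - h2 1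
      rcases mul_eq_zero.1 h3 with h4 | h4
      · apply huK
        have : u = k := by linear_combination h4 - h2 (k : F)
        rw [this]; exact k.2
      · apply huK
        have : u = ((k + 1 : B.K) : F) := by
          change u = (k : F) + 1
          linear_combination h4 - h2 (k : F) - h2 1
        rw [this]; exact (k + 1 : B.K).2
  · exact ⟨k, hk0', hk1', hk⟩

/-- A map with `g (μ x) = (bar μ)⁻¹ g x` is zero. -/
theorem inv_semi (hK : ∃ k : B.K, k ≠ 0 ∧ k ≠ 1) {g : F → F} (hg : ∀ x y, g (x + y) = g x + g y)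
    (h : ∀ μ : F, μ ≠ 0 → ∀ x, g (μ * x) = (B.s μ)⁻¹ * g x) (x : F) : g x = 0 := by
  obtain ⟨u, hu0, hu1, hu⟩ := exists_good B hK
  have h2 : ∀ a : F, a + a = 0 := fun a => CharTwo.add_self_eq_zero a
  have hs0 : B.s u ≠ 0 := (map_ne_zero_iff B.s B.s.injective).2 hu0
  have hu1' : u + 1 ≠ 0 := fun h => hu1 (by linear_combination h - h2 1)
  have e1 := h _ hs0 x
  rw [B.invol] at e1
  have hs1 : B.s u + 1 ≠ 0 := by
    intro h3
    have h4 : B.s (u + 1) = 0 := by rw [map_add, map_one]; exact h3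
    exact hu1' ((map_eq_zero_iff B.s B.s.injective).1 h4)
  have e2 := h _ hs1 x
  rw [map_add, B.invol, map_one, add_mul, one_mul, hg, e1] at e2
  have e3 : (u * u + u + 1) * g x = 0 := by
    have e4 : (u + 1) * u * (u⁻¹ * g x + g x) = (u + 1) * u * ((u + 1)⁻¹ * g x) := by rw [e2]
    have e5 : u * u⁻¹ = 1 := mul_inv_cancel₀ hu0
    have e6 : (u + 1) * (u + 1)⁻¹ = 1 := mul_inv_cancel₀ hu1'
    linear_combination e4 - (u + 1) * g x * e5 + u * g x * e6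
  rcases mul_eq_zero.1 e3 with h3 | h3
  · exact absurd h3 hu
  · exact h3

variable {V : Type*} [AddCommGroup V] [Module F V]

include B in
/-- An additive map commuting with all `μ / bar μ` is linear. -/
theorem linear {f : V → V} (hf : ∀ x y, f (x + y) = f x + f y) {chi : F → F}
    (hchi : ∀ μ, μ ≠ 0 → chi μ = B.s μ / μ ∨ chi μ = μ / B.s μ)
    (h : ∀ μ, μ ≠ 0 → ∀ w, f (chi μ • w) = chi μ • f w) (a : F) (w : V) : f (a • w) = a • f w := by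
  have h2 : ∀ a : F, a + a = 0 := fun a => CharTwo.add_self_eq_zero a
  have f0 : f 0 = 0 := by
    have := hf 0 0
    rw [add_zero] at this
    exact left_eq_add.1 this
  have hs0 : ∀ μ : F, μ ≠ 0 → B.s μ ≠ 0 := fun μ hμ => (map_ne_zero_iff B.s B.s.injective).2 hμ
  -- the subfield of the scalars commuting with `f`
  let R : F → Prop := fun a => ∀ w, f (a • w) = a • f w
  have radd : ∀ a b, R a → R b → R (a + b) := by
    intro a b ha hb w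
    rw [add_smul, hf, ha w, hb w, add_smul]
  have rmul : ∀ a b, R a → R b → R (a * b) := by
    intro a b ha hb w
    rw [mul_smul, ha, hb, mul_smul]
  have rone : R 1 := fun w => by rw [one_smul, one_smul]
  have rinv : ∀ a, R a → R a⁻¹ := by
    intro a ha w
    by_cases h0 : a = 0
    · rw [h0, inv_zero, zero_smul, zero_smul, f0]
    · have h1 := ha (a⁻¹ • w)
      rw [smul_smul, mul_inv_cancel₀ h0, one_smul] at h1
      rw [h1, smul_smul, inv_mul_cancel₀ h0, one_smul]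
  have rq : ∀ μ, μ ≠ 0 → R (μ / B.s μ) := by
    intro μ hμ
    have h1 : R (chi μ) := h μ hμ
    rcases hchi μ hμ with h3 | h3
    · have h4 := rinv _ h1
      rw [h3, inv_div] at h4
      exact h4
    · rwa [h3] at h1
  -- elements outside `K`
  have rout : ∀ x : F, B.s x ≠ x → R (B.s x) := by
    intro x hx
    have hx0 : x ≠ 0 := by rintro rfl; exact hx (map_zero _)
    have hx1 : x + 1 ≠ 0 := by
      intro h3
      apply hx
      have : x = 1 := by linear_combination h3 - h2 1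
      rw [this, map_one]
    have hs1 := hs0 _ hx1
    have hsx := hs0 _ hx0
    have r1 := rq x hx0
    have r2 := rq (x + 1) hx1
    rw [map_add, map_one] at r2 hs1
    have hd : x / B.s x + (x + 1) / (B.s x + 1) ≠ 0 := by
      intro h3
      apply hx
      rw [div_add_div _ _ hsx hs1, div_eq_zero_iff] at h3
      rcases h3 with h3 | h3
      · linear_combination h3 - h2 x - h2 (x * B.s x)
      · exact absurd h3 (mul_ne_zero hsx hs1)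
    have r3 : R (((x + 1) / (B.s x + 1) + 1) * (x / B.s x + (x + 1) / (B.s x + 1))⁻¹) :=
      rmul _ _ (radd _ _ r2 rone) (rinv _ (radd _ _ r1 r2))
    have e : ((x + 1) / (B.s x + 1) + 1) * (x / B.s x + (x + 1) / (B.s x + 1))⁻¹ = B.s x := by
      rw [mul_inv_eq_iff_eq_mul₀ hd, mul_add, mul_div_cancel₀ _ hsx]
      have e1 : (B.s x + 1) * (B.s x + 1)⁻¹ = 1 := mul_inv_cancel₀ hs1
      rw [div_eq_mul_inv]
      linear_combination (x + 1) * e1 + h2 1 - h2 (B.s x * (x + 1) * (B.s x + 1)⁻¹)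
    rwa [e] at r3
  have rout' : ∀ x : F, B.s x ≠ x → R x := by
    intro x hx
    have h3 := rout (B.s x) (by rw [B.invol]; exact fun h => hx h.symm)
    rwa [B.invol] at h3
  obtain ⟨y, hy⟩ := B.ne
  have ry := rout' y hy
  by_cases ha : B.s a = a
  · have h3 : R (a + y) := by
      apply rout'
      rw [map_add, ha]
      exact fun h => hy (add_left_cancel h)
    have h4 := radd _ _ h3 ry
    rw [add_assoc, h2, add_zero] at h4
    exact h4 w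
  · exact rout' a ha w

theorem V_add_self (F : Type*) [Field F] [CharP F 2] {V : Type*} [AddCommGroup V] [Module F V]
    (w : V) : w + w = 0 := by
  have h1 := two_smul F w
  rw [← h1, CharTwo.two_eq_zero, zero_smul]

/-- **The shape of an equivariant map of `Q₁/Z`**. -/
theorem diag (hK : ∃ k : B.K, k ≠ 0 ∧ k ≠ 1) {chi : F → F}
    (hchi : ∀ μ, μ ≠ 0 → chi μ = B.s μ / μ ∨ chi μ = μ / B.s μ)
    (Φ : F × V × F → F × V × F) (hadd : ∀ p q, Φ (p + q) = Φ p + Φ q)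
    (hequiv : ∀ μ, μ ≠ 0 → ∀ p, Φ (μ * p.1, chi μ • p.2.1, (B.s μ)⁻¹ * p.2.2) =
      (μ * (Φ p).1, chi μ • (Φ p).2.1, (B.s μ)⁻¹ * (Φ p).2.2))
    (ha : ∀ s, (Φ (s, 0, 0)).1 = s) (hc : ∀ y, (Φ (0, 0, y)).2.2 = y) (hinj : ∀ p, Φ p = 0 → p = 0)
    (hV : ∃ e : V, ∀ w, ∃ a : F, w = a • e) :
    ∃ l : F, l ≠ 0 ∧ ∀ p, Φ p = (p.1, l • p.2.1, p.2.2) := by
  have h2 : ∀ a : F, a + a = 0 := fun a => CharTwo.add_self_eq_zero a
  have hV2 : ∀ w : V, w + w = 0 := V_add_self F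
  obtain ⟨k, hk0, hk1⟩ := hK
  have hk0' : (k : F) ≠ 0 := fun h => hk0 (Subtype.ext h)
  have hk1' : (k : F) + 1 ≠ 0 := fun h => hk1 (Subtype.ext (by
    change (k : F) = 1
    linear_combination h - h2 1))
  have hki' : (k : F)⁻¹ + 1 ≠ 0 := by
    intro h
    apply hk1'
    have e : (k : F) * (k : F)⁻¹ = 1 := mul_inv_cancel₀ hk0'
    linear_combination (k : F) * h - e
  have hks : B.s (k : F) = k := k.2
  have chik : chi (k : F) = 1 := by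
    rcases hchi _ hk0' with h | h
    · rw [h, hks, div_self hk0']
    · rw [h, hks, div_self hk0']
  have equivk := hequiv (k : F) hk0'
  simp only [chik, hks, one_smul] at equivk
  -- the first part
  have p1 : ∀ s, Φ (s, 0, 0) = (s, 0, 0) := by
    intro s
    have a2 : ∀ s, (Φ (s, 0, 0)).2.1 = 0 := by
      intro s
      have h3 : ∀ s, (Φ ((k : F) * s, 0, 0)).2.1 = (Φ (s, 0, 0)).2.1 := by
        intro s
        have := equivk (s, 0, 0)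
        simp only [mul_zero] at this
        rw [this]
      have h4 := hadd ((k : F) * (((k : F) + 1)⁻¹ * s), 0, 0) (((k : F) + 1)⁻¹ * s, 0, 0)
      have e : (((k : F) * (((k : F) + 1)⁻¹ * s), (0 : V), (0 : F)) : F × V × F) +
          (((k : F) + 1)⁻¹ * s, 0, 0) = (s, 0, 0) := by
        refine Prod.ext ?_ (Prod.ext ?_ ?_)
        · change (k : F) * (((k : F) + 1)⁻¹ * s) + ((k : F) + 1)⁻¹ * s = s
          have e1 : ((k : F) + 1) * ((k : F) + 1)⁻¹ = 1 := mul_inv_cancel₀ hk1'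
          linear_combination s * e1
        · simp
        · simp
      rw [e] at h4
      rw [h4]
      change (Φ ((k : F) * (((k : F) + 1)⁻¹ * s), 0, 0)).2.1 + (Φ (((k : F) + 1)⁻¹ * s, 0, 0)).2.1 = 0
      rw [h3, hV2]
    have a3 : ∀ s, (Φ (s, 0, 0)).2.2 = 0 := by
      refine inv_semi B ⟨k, hk0, hk1⟩ (g := fun s => (Φ (s, 0, 0)).2.2) ?_ ?_
      · intro x y
        have := hadd (x, 0, 0) (y, 0, 0)
        have e : ((x, 0, 0) : F × V × F) + (y, 0, 0) = (x + y, 0, 0) := by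
          refine Prod.ext rfl (Prod.ext ?_ ?_) <;> simp
        rw [e] at this
        change (Φ (x + y, 0, 0)).2.2 = (Φ (x, 0, 0)).2.2 + (Φ (y, 0, 0)).2.2
        rw [this]; rfl
      · intro μ hμ x
        have := hequiv μ hμ (x, 0, 0)
        simp only [mul_zero, smul_zero] at this
        change (Φ (μ * x, 0, 0)).2.2 = (B.s μ)⁻¹ * (Φ (x, 0, 0)).2.2
        rw [this]
    exact Prod.ext (ha s) (Prod.ext (a2 s) (a3 s))
  -- the third part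
  have p3 : ∀ y, Φ (0, 0, y) = (0, 0, y) := by
    intro y
    have a1 : ∀ y, (Φ (0, 0, y)).1 = 0 := by
      refine inv_semi B ⟨k, hk0, hk1⟩ (g := fun y => (Φ (0, 0, y)).1) ?_ ?_
      · intro x y
        have := hadd (0, 0, x) (0, 0, y)
        have e : ((0, 0, x) : F × V × F) + (0, 0, y) = (0, 0, x + y) := by
          refine Prod.ext ?_ (Prod.ext ?_ rfl) <;> simp
        rw [e] at this
        change (Φ (0, 0, x + y)).1 = (Φ (0, 0, x)).1 + (Φ (0, 0, y)).1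
        rw [this]; rfl
      · intro μ hμ x
        have hs : B.s μ ≠ 0 := (map_ne_zero_iff B.s B.s.injective).2 hμ
        have := hequiv (B.s μ)⁻¹ (inv_ne_zero hs) (0, 0, x)
        simp only [mul_zero, smul_zero, map_inv₀, B.invol, inv_inv] at this
        change (Φ (0, 0, μ * x)).1 = (B.s μ)⁻¹ * (Φ (0, 0, x)).1
        rw [this]
    have a2 : ∀ y, (Φ (0, 0, y)).2.1 = 0 := by
      intro s
      have h3 : ∀ s, (Φ (0, 0, (k : F)⁻¹ * s)).2.1 = (Φ (0, 0, s)).2.1 := by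
        intro s
        have := equivk (0, 0, s)
        simp only [mul_zero] at this
        rw [this]
      have h4 := hadd (0, 0, (k : F)⁻¹ * (((k : F)⁻¹ + 1)⁻¹ * s)) (0, 0, ((k : F)⁻¹ + 1)⁻¹ * s)
      have e : (((0 : F), (0 : V), (k : F)⁻¹ * (((k : F)⁻¹ + 1)⁻¹ * s)) : F × V × F) +
          (0, 0, ((k : F)⁻¹ + 1)⁻¹ * s) = (0, 0, s) := by
        refine Prod.ext ?_ (Prod.ext ?_ ?_)
        · simp
        · simp
        · change (k : F)⁻¹ * (((k : F)⁻¹ + 1)⁻¹ * s) + ((k : F)⁻¹ + 1)⁻¹ * s = s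
          have e1 : ((k : F)⁻¹ + 1) * ((k : F)⁻¹ + 1)⁻¹ = 1 := mul_inv_cancel₀ hki'
          linear_combination s * e1
      rw [e] at h4
      rw [h4]
      change (Φ (0, 0, (k : F)⁻¹ * (((k : F)⁻¹ + 1)⁻¹ * s))).2.1 +
        (Φ (0, 0, ((k : F)⁻¹ + 1)⁻¹ * s)).2.1 = 0
      rw [h3, hV2]
    exact Prod.ext (a1 y) (Prod.ext (a2 y) (hc y))
  -- the middle part
  have p2 : ∀ v, Φ (0, v, 0) = (0, (Φ (0, v, 0)).2.1, 0) := by
    intro v
    have := equivk (0, v, 0)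
    simp only [mul_zero] at this
    have e1 := congrArg Prod.fst this
    have e3 := congrArg (fun p => p.2.2) this
    simp only at e1 e3
    refine Prod.ext ?_ (Prod.ext rfl ?_)
    · change (Φ (0, v, 0)).1 = 0
      have : ((k : F) + 1) * (Φ (0, v, 0)).1 = 0 := by
        linear_combination h2 (Φ (0, v, 0)).1 - e1
      exact (mul_eq_zero.1 this).resolve_left hk1'
    · change (Φ (0, v, 0)).2.2 = 0
      have : ((k : F)⁻¹ + 1) * (Φ (0, v, 0)).2.2 = 0 := by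
        linear_combination h2 (Φ (0, v, 0)).2.2 - e3
      exact (mul_eq_zero.1 this).resolve_left hki'
  have lin : ∀ (a : F) (w : V), (Φ (0, a • w, 0)).2.1 = a • (Φ (0, w, 0)).2.1 := by
    refine linear B (f := fun w => (Φ (0, w, 0)).2.1) ?_ hchi ?_
    · intro x y
      have := hadd (0, x, 0) (0, y, 0)
      have e : ((0, x, 0) : F × V × F) + (0, y, 0) = (0, x + y, 0) := by
        refine Prod.ext ?_ (Prod.ext rfl ?_) <;> simp
      rw [e] at this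
      change (Φ (0, x + y, 0)).2.1 = (Φ (0, x, 0)).2.1 + (Φ (0, y, 0)).2.1
      rw [this]; rfl
    · intro μ hμ w
      have := hequiv μ hμ (0, w, 0)
      simp only [mul_zero] at this
      change (Φ (0, chi μ • w, 0)).2.1 = chi μ • (Φ (0, w, 0)).2.1
      rw [this]
  have split : ∀ p, Φ p = Φ (p.1, 0, 0) + Φ (0, p.2.1, 0) + Φ (0, 0, p.2.2) := by
    intro p
    rw [← hadd, ← hadd]
    congr 1
    refine Prod.ext ?_ (Prod.ext ?_ ?_) <;> simp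
  obtain ⟨e, he⟩ := hV
  by_cases he0 : e = 0
  · have hV0 : ∀ w : V, w = 0 := by
      intro w
      obtain ⟨a, ha⟩ := he w
      rw [ha, he0, smul_zero]
    refine ⟨1, one_ne_zero, fun p => ?_⟩
    rw [split, p1, p3, p2]
    refine Prod.ext ?_ (Prod.ext ?_ ?_)
    · simp
    · exact (hV0 _).trans (hV0 _).symm
    · simp
  · obtain ⟨l, hl⟩ := he (Φ (0, e, 0)).2.1
    refine ⟨l, ?_, fun p => ?_⟩
    · rintro rfl
      rw [zero_smul] at hl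
      have h3 := p2 e
      rw [hl] at h3
      have h4 := hinj _ h3
      exact he0 (congrArg (fun p => p.2.1) h4)
    · obtain ⟨a, ha⟩ := he p.2.1
      rw [split, p1, p3, p2, ha, lin, hl]
      refine Prod.ext ?_ (Prod.ext ?_ ?_)
      · simp
      · simp [smul_smul, mul_comm]
      · simp

end Cfsg.Agent.StdRank2.UFour.SeedField
end

-- part: StdRank2/UFour/Seed
section
/-!
# The seed of the growth for `U₄(q)` and `U₅(q)`, `q ≥ 4` even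

`SeedEnv E V`: `P = Q₁ L` (a normal subgroup of the centraliser of `⟨t⟩ X_z` generated by elements of odd order),
`Q₁ = O₂(P)`, `U` a Sylow 2-subgroup of `P`, the torus `Hp` of `N_P(U) = U Hp`; coordinates `(pa, pv, pc) : Q₁/Z → F × V × F` with `V = 0` (`U₄`) or `V = F`
(`U₅`).

`SeedEnv.exists_seed`: an element `n` normalising `P` with `n t n⁻¹ = z t ≠ t`, `z ∈ X_z`, gives a `Seed E`.

Proof. We may take `n` in `N(U) ∩ N(Hp)`. It acts on `X_z` semilinearly, so that `m = n h n⁻¹ h⁻¹ h'` (`h, h'` in the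
torus, trivial on `X_a`) centralises `X_z`, `Hp` and `X_a` modulo `C(X_c)`. By weights `m` acts on `Q₁/Z` as
`(1, l, 1)`, so an odd power of `m` centralises `Q₁/Z`, then `Q₁`, then `P`.
-/

set_option autoImplicit false
set_option linter.unusedSectionVars false

namespace Cfsg.Agent.StdRank2.UFour.Seeding

open Subgroup
open Cfsg.Agent.StdEven.Syl

variable {F : Type*} [Field F] [CharP F 2] {B : Bar F} {G : Type*} [Group G]

/-- weights of an element of the torus of the Levi factor: `μ` on `X_a`, `bar μ⁻¹` on `X_c`, `chi μ` on `V`. -/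
structure Wt {V : Type*} [AddCommGroup V] [Module F V] (E : WEnv B G) (xv : V → G) (chi : F → F)
    (k : G) (μ : F) : Prop where
  a : ∀ s, k * E.xa s * k⁻¹ = E.xa (μ * s)
  c : ∀ y, k * E.xc y * k⁻¹ = E.xc ((B.s μ)⁻¹ * y)
  v : ∀ v, ∃ x, k * xv v * k⁻¹ = E.xz x * xv (chi μ • v)

/-- The data of `C(t)` needed for the seed. -/
structure SeedEnv (E : WEnv B G) (V : Type*) [AddCommGroup V] [Module F V] where
  P : Subgroup G
  Q1 : Subgroup G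
  U : Subgroup G
  Hp : Subgroup G
  nb : G
  chi : F → F
  xv : V → G
  pa : G → F
  pv : G → V
  pc : G → F
  chi_eq : ∀ μ, μ ≠ 0 → chi μ = B.s μ / μ ∨ chi μ = μ / B.s μ
  V_gen : ∃ e : V, ∀ w, ∃ a : F, w = a • e
  P_odd : P ≤ closure {g | g ∈ P ∧ ∃ m, Odd m ∧ g ^ m = 1}
  P_t : ∀ g ∈ P, E.t * g = g * E.t
  P_z : ∀ g ∈ P, ∀ x, E.xz x * g = g * E.xz x
  T_P : ∀ k ∈ E.T, ∀ g ∈ P, k * g * k⁻¹ ∈ P
  cent_P : ∀ c, c * E.t = E.t * c → (∀ g ∈ P, c * g = g * c) →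
    ∃ x, c = E.xz x ∨ c = E.t * E.xz x
  U_syl : IsSyl U P
  nb_mem : nb ∈ P
  U_inf : ∀ g ∈ U, nb⁻¹ * g * nb ∈ U → g ∈ Q1
  Q1_le : Q1 ≤ U
  Q1_P : ∀ p ∈ P, ∀ g ∈ Q1, p * g * p⁻¹ ∈ Q1
  T_U : ∀ k ∈ E.T, ∀ g ∈ U, k * g * k⁻¹ ∈ U
  U_form : ∀ g ∈ U, ∃ q ∈ E.Q, ∃ s, g = q * E.xa s
  Q_le : E.Q ≤ U
  a_mem : ∀ s, E.xa s ∈ Q1
  c_mem : ∀ y, E.xc y ∈ Q1
  v_mem : ∀ v, xv v ∈ Q1
  v_Q : ∀ v, xv v ∈ E.Q
  D_char : ∀ g ∈ Q1, (∀ u ∈ U, ∃ x, g * u * g⁻¹ = E.xz x * u) → ∃ x y, g = E.xz x * E.xc y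
  cent_Q1 : ∀ g ∈ P, (∀ x ∈ Q1, g * x = x * g) → ∃ x, g = E.xz x
  Hp_T : Hp ≤ E.T
  Hp_P : Hp ≤ P
  Hp_act : ∀ k ∈ Hp, ∃ μ, μ ≠ 0 ∧ Wt E xv chi k μ
  Hp_onto : ∀ μ, μ ≠ 0 → ∃ k ∈ Hp, Wt E xv chi k μ
  borel : ∀ g ∈ P, (∀ u ∈ U, g * u * g⁻¹ ∈ U) → ∃ u ∈ U, ∃ k ∈ Hp, g = u * k
  pa_mul : ∀ g ∈ Q1, ∀ k ∈ Q1, pa (g * k) = pa g + pa k
  pv_mul : ∀ g ∈ Q1, ∀ k ∈ Q1, pv (g * k) = pv g + pv k
  pc_mul : ∀ g ∈ Q1, ∀ k ∈ Q1, pc (g * k) = pc g + pc k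
  ker : ∀ g ∈ Q1, pa g = 0 → pv g = 0 → pc g = 0 → ∃ x, g = E.xz x
  pa_z : ∀ x, pa (E.xz x) = 0
  pv_z : ∀ x, pv (E.xz x) = 0
  pc_z : ∀ x, pc (E.xz x) = 0
  pa_a : ∀ s, pa (E.xa s) = s
  pv_a : ∀ s, pv (E.xa s) = 0
  pc_a : ∀ s, pc (E.xa s) = 0
  pa_v : ∀ v, pa (xv v) = 0
  pv_v : ∀ v, pv (xv v) = v
  pc_v : ∀ v, pc (xv v) = 0
  pa_c : ∀ y, pa (E.xc y) = 0
  pv_c : ∀ y, pv (E.xc y) = 0
  pc_c : ∀ y, pc (E.xc y) = y

namespace SeedEnv

variable {E : WEnv B G} {V : Type*} [AddCommGroup V] [Module F V] (S : SeedEnv E V)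

/-! ### The trace form and the root group `Z` -/

theorem tr_nondeg {s : F} (h : ∀ y, B.tr (s * B.s y) = 0) : s = 0 := by
  by_contra hs
  obtain ⟨x, hx⟩ := B.tr_form_surj hs 1
  have h1 := h x
  rw [← B.tr_s, map_mul, B.invol, mul_comm, hx] at h1
  exact one_ne_zero h1

theorem xz_inj {x y : B.K} (h : E.xz x = E.xz y) : x = y := by
  have h1 : E.w (x, 0, 0) = E.w (y, 0, 0) := by rw [E.w_z, E.w_z, h]
  exact congrArg Prod.fst (E.w_injective h1)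

theorem K_ne (E : WEnv B G) : ∃ k : B.K, k ≠ 0 ∧ k ≠ 1 := ⟨E.lam, E.lam.ne_zero, E.lam_ne⟩

theorem z_mem (x : B.K) : E.xz x ∈ S.U := S.Q_le (E.z_mem x)

theorem U_le : S.U ≤ S.P := S.U_syl.le

theorem Q1_le_P : S.Q1 ≤ S.P := S.Q1_le.trans S.U_le

theorem z_mem_P (x : B.K) : E.xz x ∈ S.P := S.U_le (S.z_mem x)

theorem z_mem_Q1 (x : B.K) : E.xz x ∈ S.Q1 := by
  apply S.U_inf _ (S.z_mem x)
  have h1 : S.nb⁻¹ * E.xz x * S.nb = E.xz x := by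
    rw [mul_assoc, S.P_z _ S.nb_mem, ← mul_assoc, inv_mul_cancel, one_mul]
  rw [h1]; exact S.z_mem x

/-! ### Coordinates -/

/-- the coordinates of an element of `Q₁`. -/
def co (g : G) : F × V × F := (S.pa g, S.pv g, S.pc g)

/-- the standard element with given coordinates. -/
def st (p : F × V × F) : G := E.xa p.1 * S.xv p.2.1 * E.xc p.2.2

theorem st_mem (p : F × V × F) : S.st p ∈ S.Q1 :=
  mul_mem (mul_mem (S.a_mem _) (S.v_mem _)) (S.c_mem _)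

theorem co_mul {g k : G} (hg : g ∈ S.Q1) (hk : k ∈ S.Q1) : S.co (g * k) = S.co g + S.co k := by
  unfold co
  rw [S.pa_mul _ hg _ hk, S.pv_mul _ hg _ hk, S.pc_mul _ hg _ hk]
  rfl

theorem co_z (x : B.K) : S.co (E.xz x) = 0 := by
  unfold co; rw [S.pa_z, S.pv_z, S.pc_z]; rfl

theorem co_one : S.co 1 = 0 := by rw [← E.xz_zero, S.co_z]

theorem co_st (p : F × V × F) : S.co (S.st p) = p := by
  unfold st
  rw [S.co_mul (mul_mem (S.a_mem _) (S.v_mem _)) (S.c_mem _), S.co_mul (S.a_mem _) (S.v_mem _)]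
  unfold co
  rw [S.pa_a, S.pv_a, S.pc_a, S.pa_v, S.pv_v, S.pc_v, S.pa_c, S.pv_c, S.pc_c]
  refine Prod.ext ?_ (Prod.ext ?_ ?_) <;> simp

theorem co_inv {g : G} (hg : g ∈ S.Q1) : S.co g⁻¹ = - S.co g := by
  have h := S.co_mul (inv_mem hg) hg
  rw [inv_mul_cancel, S.co_one] at h
  exact eq_neg_of_add_eq_zero_left h.symm

theorem ker' {g : G} (hg : g ∈ S.Q1) (h : S.co g = 0) : ∃ x, g = E.xz x :=
  S.ker g hg (congrArg Prod.fst h) (congrArg (fun p => p.2.1) h) (congrArg (fun p => p.2.2) h)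

theorem eq_of_co {g k : G} (hg : g ∈ S.Q1) (hk : k ∈ S.Q1) (h : S.co g = S.co k) :
    ∃ x, g = E.xz x * k := by
  obtain ⟨x, hx⟩ := S.ker' (mul_mem hg (inv_mem hk)) (by
    rw [S.co_mul hg (inv_mem hk), S.co_inv hk, h, add_neg_cancel])
  exact ⟨x, by rw [← hx]; group⟩

theorem form {g : G} (hg : g ∈ S.Q1) : ∃ x, g = E.xz x * S.st (S.co g) :=
  S.eq_of_co hg (S.st_mem _) (S.co_st _).symm

theorem co_z_mul (x : B.K) {g : G} (hg : g ∈ S.Q1) : S.co (E.xz x * g) = S.co g := by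
  rw [S.co_mul (S.z_mem_Q1 x) hg, S.co_z, zero_add]

/-- conjugation of `X_c` by an element of `Q X_a`. -/
theorem conj_c_form {q : G} (hq : q ∈ E.Q) (s y : F) :
    (q * E.xa s) * E.xc y * (q * E.xa s)⁻¹ = E.xz (B.tr (s * B.s y)) * E.xc y := by
  have e : (q * E.xa s) * E.xc y * (q * E.xa s)⁻¹ = q * (E.xa s * E.xc y * (E.xa s)⁻¹) * q⁻¹ := by
    group
  rw [e, E.a_c, ← mul_assoc, ← E.z_Q _ q hq, mul_assoc (E.xz _), ← E.c_Q _ q hq]
  group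

/-- conjugation of `X_c` by an element of `Q₁`. -/
theorem conj_c {g : G} (hg : g ∈ S.Q1) (y : F) :
    g * E.xc y * g⁻¹ = E.xz (B.tr (S.pa g * B.s y)) * E.xc y := by
  obtain ⟨q, hq, s, rfl⟩ := S.U_form _ (S.Q1_le hg)
  rw [conj_c_form hq]
  congr 3
  -- the coordinate of `q * xa s`
  have hqm : q ∈ S.Q1 := by
    have := mul_mem hg (inv_mem (S.a_mem s))
    rwa [mul_inv_cancel_right] at this
  have h1 : S.pa q = 0 := by
    apply tr_nondeg (B := B)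
    intro y
    obtain ⟨x, hx⟩ := S.form hqm
    have h2 : q * E.xc y * q⁻¹ = E.xc y := by rw [← E.c_Q y q hq]; group
    have h3 : E.xz x * S.st (S.co q) =
        (E.xz x * (E.xa (S.pa q) * S.xv (S.pv q) * (E.xa (S.pa q))⁻¹)) *
          (E.xa (S.pa q) * E.xc (S.pc q) * (E.xa (S.pa q))⁻¹) * E.xa (S.pa q) := by
      unfold st co; group
    -- use conj on the explicit form
    have h4 : q * E.xc y * q⁻¹ = E.xz x * (E.xa (S.pa q) * (S.xv (S.pv q) * (E.xc (S.pc q) *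
        E.xc y * (E.xc (S.pc q))⁻¹) * (S.xv (S.pv q))⁻¹) * (E.xa (S.pa q))⁻¹) * (E.xz x)⁻¹ := by
      conv_lhs => rw [hx]
      unfold st co; group
    have h5 : E.xc (S.pc q) * E.xc y * (E.xc (S.pc q))⁻¹ = E.xc y := by
      rw [← E.c_Q y _ (E.c_mem _)]; group
    have h6 : S.xv (S.pv q) * E.xc y * (S.xv (S.pv q))⁻¹ = E.xc y := by
      rw [← E.c_Q y _ (S.v_Q _)]; group
    rw [h5, h6, E.a_c, h2] at h4
    have h7 : E.xz x * (E.xz (B.tr (S.pa q * B.s y)) * E.xc y) * (E.xz x)⁻¹ =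
        E.xz (B.tr (S.pa q * B.s y)) * E.xc y := by
      rw [← mul_assoc, ← E.xz_add, add_comm, E.xz_add, mul_assoc (E.xz _), E.z_c]; group
    rw [h7] at h4
    have h8 : E.xz (B.tr (S.pa q * B.s y)) = E.xz 0 := by
      rw [E.xz_zero]
      exact (left_eq_mul.1 (show E.xc y = E.xc y * E.xz (B.tr (S.pa q * B.s y)) by
        rw [← E.z_c]; exact h4))
    exact xz_inj h8
  rw [S.pa_mul _ hqm _ (S.a_mem s), h1, S.pa_a, zero_add]

theorem pa_eq_zero {g : G} (hg : g ∈ S.Q1) (h : ∀ y, g * E.xc y = E.xc y * g) : S.pa g = 0 := by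
  apply tr_nondeg (B := B)
  intro y
  have h1 := S.conj_c hg y
  rw [h y, mul_inv_cancel_right] at h1
  have h2 : E.xz (B.tr (S.pa g * B.s y)) = E.xz 0 := by
    rw [E.xz_zero]; exact right_eq_mul.1 h1
  exact xz_inj h2

theorem comm_c {g : G} (hg : g ∈ S.Q1) (h : S.pa g = 0) (y : F) : g * E.xc y = E.xc y * g := by
  have h1 := S.conj_c hg y
  have h2 : B.tr (S.pa g * B.s y) = 0 := by rw [h, zero_mul, B.tr_zero]
  rw [h2, E.xz_zero, one_mul] at h1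
  exact mul_inv_eq_iff_eq_mul.1 h1

/-! ### The normaliser `N(P) ∩ N(U) ∩ N(Hp)` -/

/-- The elements normalising `P`, `U` and `Hp`. -/
def N : Subgroup G :=
  normalizer (S.P : Set G) ⊓ normalizer (S.U : Set G) ⊓ normalizer (S.Hp : Set G)

variable {S}

theorem N_P {n : G} (hn : n ∈ S.N) {g : G} (hg : g ∈ S.P) : n * g * n⁻¹ ∈ S.P :=
  conj_mem_of_mem_normalizer hn.1.1 hg

theorem N_U {n : G} (hn : n ∈ S.N) {g : G} (hg : g ∈ S.U) : n * g * n⁻¹ ∈ S.U :=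
  conj_mem_of_mem_normalizer hn.1.2 hg

theorem N_H {n : G} (hn : n ∈ S.N) {g : G} (hg : g ∈ S.Hp) : n * g * n⁻¹ ∈ S.Hp :=
  conj_mem_of_mem_normalizer hn.2 hg

theorem N_P' {n : G} (hn : n ∈ S.N) {g : G} (hg : g ∈ S.P) : n⁻¹ * g * n ∈ S.P :=
  conj_inv_mem_of_mem_normalizer hn.1.1 hg

theorem N_U' {n : G} (hn : n ∈ S.N) {g : G} (hg : g ∈ S.U) : n⁻¹ * g * n ∈ S.U :=
  conj_inv_mem_of_mem_normalizer hn.1.2 hg

theorem N_Q1 {n : G} (hn : n ∈ S.N) {g : G} (hg : g ∈ S.Q1) : n * g * n⁻¹ ∈ S.Q1 := by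
  apply S.U_inf _ (N_U hn (S.Q1_le hg))
  have h1 := S.Q1_P _ (N_P' hn (inv_mem S.nb_mem)) _ hg
  have h2 := N_U hn (S.Q1_le h1)
  have e : n * (n⁻¹ * S.nb⁻¹ * n * g * (n⁻¹ * S.nb⁻¹ * n)⁻¹) * n⁻¹ =
      S.nb⁻¹ * (n * g * n⁻¹) * S.nb := by group
  rwa [e] at h2

theorem N_Q1' {n : G} (hn : n ∈ S.N) {g : G} (hg : g ∈ S.Q1) : n⁻¹ * g * n ∈ S.Q1 := by
  have := N_Q1 (inv_mem hn) hg
  rwa [inv_inv] at this

theorem N_z {n : G} (hn : n ∈ S.N) (x : B.K) : ∃ y, n * E.xz x * n⁻¹ = E.xz y := by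
  apply S.cent_Q1 _ (N_P hn (S.z_mem_P x))
  intro g hg
  have h1 := S.P_z _ (S.Q1_le_P (N_Q1' hn hg)) x
  calc n * E.xz x * n⁻¹ * g = n * (E.xz x * (n⁻¹ * g * n)) * n⁻¹ := by group
    _ = g * (n * E.xz x * n⁻¹) := by rw [h1]; group

theorem c_form {q : G} (hq : q ∈ E.Q) (s y : F) :
    E.xc y * (q * E.xa s) * (E.xc y)⁻¹ = E.xz (B.tr (s * B.s y)) * (q * E.xa s) := by
  have h1 := conj_c_form (E := E) hq s y
  have h2 : (q * E.xa s) * E.xc y = E.xz (B.tr (s * B.s y)) * E.xc y * (q * E.xa s) :=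
    mul_inv_eq_iff_eq_mul.1 h1
  have h3 : E.xc y * (q * E.xa s) = E.xz (B.tr (s * B.s y)) * ((q * E.xa s) * E.xc y) := by
    rw [h2]
    calc E.xc y * (q * E.xa s) = E.xz (B.tr (s * B.s y)) * E.xz (B.tr (s * B.s y)) *
          (E.xc y * (q * E.xa s)) := by rw [E.xz_sq, one_mul]
      _ = _ := by group
  rw [h3]; group

theorem N_c {n : G} (hn : n ∈ S.N) (y : F) : ∃ x y', n * E.xc y * n⁻¹ = E.xz x * E.xc y' := by
  apply S.D_char _ (N_Q1 hn (S.c_mem y))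
  intro u hu
  obtain ⟨q, hq, s, h1⟩ := S.U_form _ (N_U' hn hu)
  obtain ⟨x, hx⟩ := N_z hn (B.tr (s * B.s y))
  refine ⟨x, ?_⟩
  have h2 := c_form (E := E) hq s y
  rw [← h1] at h2
  calc n * E.xc y * n⁻¹ * u * (n * E.xc y * n⁻¹)⁻¹
      = n * (E.xc y * (n⁻¹ * u * n) * (E.xc y)⁻¹) * n⁻¹ := by group
    _ = (n * E.xz (B.tr (s * B.s y)) * n⁻¹) * u := by rw [h2]; group
    _ = E.xz x * u := by rw [hx]

theorem N_pa {n : G} (hn : n ∈ S.N) {g : G} (hg : g ∈ S.Q1) (h : S.pa g = 0) :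
    S.pa (n * g * n⁻¹) = 0 := by
  apply S.pa_eq_zero (N_Q1 hn hg)
  intro y
  obtain ⟨x, y', h1⟩ := N_c (inv_mem hn) y
  rw [inv_inv] at h1
  have h2 : g * (E.xz x * E.xc y') = (E.xz x * E.xc y') * g := by
    rw [← mul_assoc, ← S.P_z _ (S.Q1_le_P hg), mul_assoc, S.comm_c hg h, mul_assoc]
  rw [← h1] at h2
  calc n * g * n⁻¹ * E.xc y = n * (g * (n⁻¹ * E.xc y * n)) * n⁻¹ := by group
    _ = E.xc y * (n * g * n⁻¹) := by rw [h2]; group

theorem N_pa_congr {n : G} (hn : n ∈ S.N) {g k : G} (hg : g ∈ S.Q1) (hk : k ∈ S.Q1)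
    (h : S.pa g = S.pa k) : S.pa (n * g * n⁻¹) = S.pa (n * k * n⁻¹) := by
  have h1 : S.pa (g * k⁻¹) = 0 := by
    have h3 := congrArg Prod.fst (S.co_inv hk)
    have h4 : S.pa k⁻¹ = - S.pa k := h3
    rw [S.pa_mul _ hg _ (inv_mem hk), h4, h, add_neg_cancel]
  have h2 := N_pa hn (mul_mem hg (inv_mem hk)) h1
  have e : n * g * n⁻¹ = (n * (g * k⁻¹) * n⁻¹) * (n * k * n⁻¹) := by group
  rw [e, S.pa_mul _ (N_Q1 hn (mul_mem hg (inv_mem hk))) _ (N_Q1 hn hk), h2, zero_add]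

/-- the basic relation between the actions on `X_a`, `X_c`, `Z`. -/
theorem N_rel {n : G} (hn : n ∈ S.N) {s y y' : F} {x z : B.K}
    (hy : n * E.xc y * n⁻¹ = E.xz x * E.xc y') (hz : n * E.xz (B.tr (s * B.s y)) * n⁻¹ = E.xz z) :
    z = B.tr (S.pa (n * E.xa s * n⁻¹) * B.s y') := by
  have h1 := S.conj_c (N_Q1 hn (S.a_mem s)) y'
  have h2 := E.a_c s y
  have h3 : n * E.xa s * n⁻¹ * (E.xz x * E.xc y') * (n * E.xa s * n⁻¹)⁻¹ =
      E.xz z * (E.xz x * E.xc y') := by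
    rw [← hy, ← hz]
    calc n * E.xa s * n⁻¹ * (n * E.xc y * n⁻¹) * (n * E.xa s * n⁻¹)⁻¹
        = n * (E.xa s * E.xc y * (E.xa s)⁻¹) * n⁻¹ := by group
      _ = _ := by rw [h2]; group
  have h4 : n * E.xa s * n⁻¹ * (E.xz x * E.xc y') * (n * E.xa s * n⁻¹)⁻¹ =
      E.xz x * (n * E.xa s * n⁻¹ * E.xc y' * (n * E.xa s * n⁻¹)⁻¹) := by
    have h5 := S.P_z _ (S.Q1_le_P (N_Q1 hn (S.a_mem s))) x
    rw [← mul_assoc (n * E.xa s * n⁻¹), ← h5]; group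
  rw [h4, h1] at h3
  have h6 : E.xz (B.tr (S.pa (n * E.xa s * n⁻¹) * B.s y')) * (E.xz x * E.xc y') =
      E.xz z * (E.xz x * E.xc y') := by
    rw [← h3, ← mul_assoc, ← mul_assoc, ← E.xz_add, ← E.xz_add, add_comm]
  exact (xz_inj (mul_right_cancel h6)).symm

end SeedEnv

end Cfsg.Agent.StdRank2.UFour.Seeding
end

-- part: StdRank2/UFour/SeedMove
section
/-!
# The seed, part 2: an element `m` centralising `X_z` and the torus `Hp`, and moving `t`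
-/

set_option autoImplicit false
set_option linter.unusedSectionVars false

namespace Cfsg.Agent.StdRank2.UFour.SeedMove

open Subgroup
open scoped Pointwise
open Cfsg.Agent.StdEven.Syl
open Cfsg.Agent.StdRank2.UFour.Seeding Cfsg.Agent.StdRank2.UFour.Seeding.SeedEnv

variable {F : Type*} [Field F] [CharP F 2] {B : Bar F} {G : Type*} [Group G]
variable {E : WEnv B G} {V : Type*} [AddCommGroup V] [Module F V] (S : SeedEnv E V)

/-! ### Choosing `n` in the normaliser of `U` and `Hp` -/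

theorem odd_of_pow {H : Subgroup G} [Finite G] (h : ∀ g ∈ H, ∃ m, Odd m ∧ g ^ m = 1) :
    Odd (Nat.card H) := by
  by_contra hcon
  rw [Nat.not_odd_iff_even] at hcon
  have : Fact (Nat.Prime 2) := ⟨Nat.prime_two⟩
  obtain ⟨x, hx⟩ := exists_prime_orderOf_dvd_card' (G := H) 2 hcon.two_dvd
  obtain ⟨m, hm, h1⟩ := h x.1 x.2
  have h2 : x ^ m = 1 := Subtype.ext h1
  have h3 := orderOf_dvd_of_pow_eq_one h2
  rw [hx] at h3
  rw [← Nat.not_even_iff_odd] at hm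
  exact hm (even_iff_two_dvd.2 h3)

theorem exists_mul_mem_N [Finite G] {n₀ : G} (hn : ∀ g ∈ S.P, n₀ * g * n₀⁻¹ ∈ S.P) :
    ∃ p ∈ S.P, p * n₀ ∈ S.N := by
  have : Fact (Nat.Prime 2) := ⟨Nat.prime_two⟩
  have hn₀ : n₀ ∈ normalizer (S.P : Set G) := mem_normalizer_of_conj_le hn
  -- Sylow
  obtain ⟨p, hp, hpU⟩ := S.U_syl.exists_conj (X := S.U.map (MulAut.conj n₀).toMonoidHom)
    (isPGroup_map S.U_syl.two n₀) (by
      rintro _ ⟨x, hx, rfl⟩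
      exact hn x (S.U_le hx))
  have hpP : p ∈ normalizer (S.P : Set G) := Subgroup.le_normalizer hp
  have h1P : p * n₀ ∈ normalizer (S.P : Set G) := mul_mem hpP hn₀
  have h1U : p * n₀ ∈ normalizer (S.U : Set G) := by
    apply mem_normalizer_of_conj_le
    intro x hx
    have := hpU _ (conj_mem_map n₀ hx)
    have e : p * n₀ * x * (p * n₀)⁻¹ = p * (n₀ * x * n₀⁻¹) * p⁻¹ := by group
    rwa [e]
  have hex : ∃ n₁, n₁ = p * n₀ := ⟨_, rfl⟩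
  obtain ⟨n₁, hn₁⟩ := hex
  rw [← hn₁] at h1P h1U
  clear hpU hpP hn₀
  -- the Borel subgroup of `P`
  let B1 : Subgroup G := S.P ⊓ normalizer (S.U : Set G)
  have hUB : S.U ≤ B1 := le_inf S.U_le Subgroup.le_normalizer
  have hHU : S.Hp ≤ normalizer (S.U : Set G) := fun k hk =>
    mem_normalizer_of_conj_le (S.T_U k (S.Hp_T hk))
  have hHB : S.Hp ≤ B1 := le_inf S.Hp_P hHU
  let N' : Subgroup B1 := S.U.subgroupOf B1
  have : N'.Normal := by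
    constructor
    rintro ⟨x, hx⟩ hx' ⟨g, hg⟩
    rw [mem_subgroupOf] at hx' ⊢
    exact conj_mem_of_mem_normalizer hg.2 hx'
  let H : Subgroup B1 := S.Hp.subgroupOf B1
  have hK1 : S.Hp.map (MulAut.conj n₁).toMonoidHom ≤ B1 := by
    rintro _ ⟨k, hk, rfl⟩
    refine ⟨conj_mem_of_mem_normalizer h1P (S.Hp_P hk), ?_⟩
    have h3 : n₁ * k * n₁⁻¹ ∈ normalizer (S.U : Set G) := mul_mem (mul_mem h1U (hHU hk)) (inv_mem h1U)
    exact h3
  let K : Subgroup B1 := (S.Hp.map (MulAut.conj n₁).toMonoidHom).subgroupOf B1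
  have hodd : Odd (Nat.card S.Hp) := odd_of_pow fun g hg => E.T_odd g (S.Hp_T hg)
  have hN'2 : IsPGroup 2 N' := S.U_syl.two.comap_subtype
  have cardH : Nat.card H = Nat.card S.Hp := Nat.card_congr (Subgroup.subgroupOfEquivOfLe hHB).toEquiv
  have cardK : Nat.card K = Nat.card S.Hp := by
    rw [Nat.card_congr (Subgroup.subgroupOfEquivOfLe hK1).toEquiv]
    exact (Nat.card_congr (S.Hp.equivMapOfInjective (MulAut.conj n₁).toMonoidHom
      (MulAut.conj n₁).injective).toEquiv).symm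
  have hcop0 : (Nat.card N').Coprime (Nat.card S.Hp) := by
    obtain ⟨k, hk⟩ := IsPGroup.iff_card.1 hN'2
    rw [hk]
    exact Nat.Coprime.pow_left k (Nat.coprime_two_left.2 hodd)
  have hH : IsComplement' N' H := by
    apply Subgroup.isComplement'_of_disjoint_and_mul_eq_univ
    · rw [disjoint_iff, eq_bot_iff]
      intro x hx
      have h3 : Nat.card (N' ⊓ H : Subgroup B1) = 1 := by
        apply Nat.eq_one_of_dvd_coprimes hcop0
        · exact Subgroup.card_dvd_of_le inf_le_left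
        · rw [← cardH]; exact Subgroup.card_dvd_of_le inf_le_right
      have h4 : (N' ⊓ H : Subgroup B1) = ⊥ := Subgroup.card_eq_one.1 h3
      rwa [h4] at hx
    · apply Set.eq_univ_of_forall
      rintro ⟨x, hx⟩
      obtain ⟨u, hu, k, hk, e⟩ := S.borel x hx.1 (fun u hu => conj_mem_of_mem_normalizer hx.2 hu)
      exact ⟨⟨u, hUB hu⟩, mem_subgroupOf.2 hu, ⟨k, hHB hk⟩, mem_subgroupOf.2 hk, Subtype.ext e.symm⟩
  have hind : Nat.card S.Hp = N'.index := by rw [← cardH]; exact hH.card_right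
  have hcop : (Nat.card N').Coprime N'.index := by rw [← hind]; exact hcop0
  have hK : IsComplement' N' K :=
    Cfsg.Agent.Solvable.SchurZassenhausConj.isComplement'_of_card_eq_index N' K hcop (by
      rw [cardK, hind])
  have hsolv : Group.IsSolvable N' := by
    have : Group.IsNilpotent N' := hN'2.isNilpotent
    infer_instance
  obtain ⟨⟨g, hg⟩, hgK⟩ := Cfsg.Agent.Solvable.SchurZassenhausConj.conj_of_solvable N' hcop (Or.inl hsolv)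
    K H hK hH
  have hgU : g ∈ normalizer (S.U : Set G) := hg.2
  have hgP : g ∈ normalizer (S.P : Set G) := Subgroup.le_normalizer hg.1
  refine ⟨g * p, mul_mem hg.1 hp, ?_⟩
  rw [mul_assoc, ← hn₁]
  refine ⟨⟨mul_mem hgP h1P, mul_mem hgU h1U⟩, ?_⟩
  apply mem_normalizer_of_conj_le
  intro k hk
  have h2 : (⟨n₁ * k * n₁⁻¹, hK1 (conj_mem_map n₁ hk)⟩ : B1) ∈ K :=
    mem_subgroupOf.2 (conj_mem_map n₁ hk)
  have h3 : MulAut.conj (⟨g, hg⟩ : B1) • (⟨n₁ * k * n₁⁻¹, hK1 (conj_mem_map n₁ hk)⟩ : B1) ∈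
      MulAut.conj (⟨g, hg⟩ : B1) • K := Subgroup.smul_mem_pointwise_smul _ _ _ h2
  rw [hgK] at h3
  have h4 := mem_subgroupOf.1 h3
  have e : g * n₁ * k * (g * n₁)⁻¹ = g * (n₁ * k * n₁⁻¹) * g⁻¹ := by group
  rw [e]
  exact h4

theorem exists_mem_N [Finite G] {n₀ : G} (hn : ∀ g ∈ S.P, n₀ * g * n₀⁻¹ ∈ S.P) {c : B.K}
    (ht : n₀ * E.t * n₀⁻¹ = E.xz c * E.t) : ∃ n ∈ S.N, n * E.t * n⁻¹ = E.xz c * E.t := by
  -- elements of `P` fix `t` and `Z`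
  have fixP : ∀ p ∈ S.P, p * (E.xz c * E.t) * p⁻¹ = E.xz c * E.t := by
    intro p hp
    rw [← mul_assoc, ← S.P_z _ hp, mul_assoc (E.xz c), ← S.P_t _ hp]; group
  obtain ⟨p, hp, hpn⟩ := exists_mul_mem_N S hn
  refine ⟨p * n₀, hpn, ?_⟩
  have e : (p * n₀) * E.t * (p * n₀)⁻¹ = p * (n₀ * E.t * n₀⁻¹) * p⁻¹ := by group
  rw [e, ht, fixP p hp]

/-! ### Elements of `T` -/

theorem T_le_N [Finite G] : E.T ≤ S.N := by
  intro k hk
  refine ⟨⟨mem_normalizer_of_conj_le (S.T_P k hk), mem_normalizer_of_conj_le (S.T_U k hk)⟩,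
    mem_normalizer_of_conj_le fun g hg => ?_⟩
  rw [E.T_comm k hk g (S.Hp_T hg), mul_inv_cancel_right]
  exact hg

theorem Q1_Z_of {g : G} (hg : g ∈ S.Q1) (x : B.K) : E.xz x * g = g * E.xz x :=
  S.P_z _ (S.Q1_le_P hg) x

/-- the torus elements `h 1 ν` act trivially on the first coordinate. -/
theorem pa_h [Finite G] (ν : B.Kˣ) {g : G} (hg : g ∈ S.Q1) :
    S.pa (E.h 1 ν * g * (E.h 1 ν)⁻¹) = S.pa g := by
  have hN : E.h 1 ν ∈ S.N := T_le_N S (E.h_mem 1 ν)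
  rw [N_pa_congr hN hg (S.a_mem (S.pa g)) (S.pa_a _).symm, E.h_a, S.pa_a]
  simp

/-! ### Semilinearity -/

theorem zeta_add {n : G} {f : B.K → B.K} (hf : ∀ x, n * E.xz x * n⁻¹ = E.xz (f x)) (x y : B.K) :
    f (x + y) = f x + f y := by
  apply xz_inj (E := E)
  rw [← hf, E.xz_add, E.xz_add, ← hf, ← hf]; group

/-- the action of `n ∈ N` on `X_a` is semilinear for the torus. -/
theorem tau {n : G} (hn : n ∈ S.N) {μ : F} (hμ : μ ≠ 0) : ∃ τ : F, τ ≠ 0 ∧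
    ∀ s, S.pa (n * E.xa (μ * s) * n⁻¹) = τ * S.pa (n * E.xa s * n⁻¹) := by
  obtain ⟨k, hk, hw⟩ := S.Hp_onto μ hμ
  obtain ⟨τ, hτ, hw'⟩ := S.Hp_act _ (N_H hn hk)
  refine ⟨τ, hτ, fun s => ?_⟩
  rw [← hw.a]
  have e : n * (k * E.xa s * k⁻¹) * n⁻¹ = (n * k * n⁻¹) * (n * E.xa s * n⁻¹) * (n * k * n⁻¹)⁻¹ := by
    group
  rw [e]
  obtain ⟨x, hx⟩ := S.form (N_Q1 hn (S.a_mem s))
  set g := n * E.xa s * n⁻¹ with hg
  have hgm : g ∈ S.Q1 := N_Q1 hn (S.a_mem s)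
  set k' := n * k * n⁻¹ with hk'
  have hk'H : k' ∈ S.Hp := N_H hn hk
  have hz : k' * E.xz x * k'⁻¹ = E.xz x := by
    rw [← S.P_z _ (S.Hp_P hk'H)]; group
  obtain ⟨x1, hx1⟩ := hw'.v (S.pv g)
  have e2 : k' * g * k'⁻¹ = E.xz x * (E.xa (τ * S.pa g) * (E.xz x1 * S.xv (S.chi τ • S.pv g)) *
      E.xc ((B.s τ)⁻¹ * S.pc g)) := by
    rw [← hw'.a, ← hw'.c, ← hx1, ← hz]
    conv_lhs => rw [hx]
    unfold st co
    group
  rw [e2]
  have m1 := S.a_mem (τ * S.pa g)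
  have m2 := S.z_mem_Q1 x1
  have m3 := S.v_mem (S.chi τ • S.pv g)
  have m4 := S.c_mem ((B.s τ)⁻¹ * S.pc g)
  rw [S.pa_mul _ (S.z_mem_Q1 x) _ (mul_mem (mul_mem m1 (mul_mem m2 m3)) m4),
    S.pa_mul _ (mul_mem m1 (mul_mem m2 m3)) _ m4, S.pa_mul _ m1 _ (mul_mem m2 m3),
    S.pa_mul _ m2 _ m3, S.pa_z, S.pa_z, S.pa_v, S.pa_c, S.pa_a]
  ring

/-- an element of `N` trivial on `Z` and on the first coordinate is trivial on `X_c` modulo `Z`. -/
theorem triv_c {m : G} (hm : m ∈ S.N) (hmz : ∀ x, m * E.xz x * m⁻¹ = E.xz x)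
    (hma : ∀ g ∈ S.Q1, S.pa (m * g * m⁻¹) = S.pa g) (y : F) :
    ∃ x, m * E.xc y * m⁻¹ = E.xz x * E.xc y := by
  obtain ⟨x, y', hy⟩ := N_c hm y
  refine ⟨x, ?_⟩
  have hyy : y' = y := by
    have h5 : ∀ s, B.tr (s * B.s y) = B.tr (s * B.s y') := by
      intro s
      have h6 := N_rel hm (s := s) hy (hmz _)
      rwa [hma _ (S.a_mem s), S.pa_a] at h6
    have h7 : y + y' = 0 := by
      apply tr_nondeg (B := B)
      intro s
      rw [← B.tr_s, map_mul, B.invol, mul_comm, map_add, mul_add, B.tr_add, h5, B.K_add_self]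
    have h8 : y' + y' = 0 := CharTwo.add_self_eq_zero y'
    linear_combination h8 - h7
  rw [hy, hyy]

/-- `n ∈ N` acts semilinearly on `Z`, for the scalar `lam`. -/
theorem semi {n : G} (hn : n ∈ S.N) {f : B.K → B.K} (hf : ∀ x, n * E.xz x * n⁻¹ = E.xz (f x)) :
    ∃ l : B.K, l ≠ 0 ∧ ∀ x, f ((E.lam : B.K) * x) = l * f x := by
  have h2 : ∀ a : F, a + a = 0 := fun a => CharTwo.add_self_eq_zero a
  have f_inj : ∀ x, f x = 0 → x = 0 := by
    intro x hx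
    have h1 := hf x
    rw [hx, E.xz_zero, mul_inv_eq_one, mul_eq_left] at h1
    rw [← E.xz_zero] at h1
    exact xz_inj h1
  have f0 : f 0 = 0 := by
    have := zeta_add hf 0 0
    rw [add_zero] at this
    exact left_eq_add.1 this
  -- the actions on `X_a` and `X_c`
  let ν : F → F := fun s => S.pa (n * E.xa s * n⁻¹)
  choose x0 ga hga using fun y => N_c hn y
  have rel : ∀ s y, f (B.tr (s * B.s y)) = B.tr (ν s * B.s (ga y)) := fun s y =>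
    N_rel hn (hga y) (hf _)
  have ν_add : ∀ s s', ν (s + s') = ν s + ν s' := by
    intro s s'
    change S.pa (n * E.xa (s + s') * n⁻¹) = S.pa (n * E.xa s * n⁻¹) + S.pa (n * E.xa s' * n⁻¹)
    rw [← S.pa_mul _ (N_Q1 hn (S.a_mem s)) _ (N_Q1 hn (S.a_mem s')), E.xa_add]
    congr 1; group
  have hν : ∀ s, ν s = 0 → s = 0 := by
    intro s hs
    apply tr_nondeg (B := B)
    intro y
    apply f_inj
    rw [rel, hs, zero_mul, B.tr_zero]
  -- the torus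
  have hτ : ∀ μ : F, μ ≠ 0 → ∃ τ : F, τ ≠ 0 ∧ ∀ s, ν (μ * s) = τ * ν s := fun μ hμ => tau S hn hμ
  -- `e = ν 1 · bar (ga 1)` is in `K`
  have hν1 : ν 1 ≠ 0 := fun h => one_ne_zero (hν 1 h)
  have hg1 : ga 1 ≠ 0 := by
    intro h
    obtain ⟨x, hx⟩ := B.tr_surj 1
    have h1 := rel x 1
    rw [map_one, mul_one, hx, h, map_zero, mul_zero, B.tr_zero] at h1
    exact one_ne_zero (f_inj _ h1)
  have hgs : B.s (ga 1) ≠ 0 := (map_ne_zero_iff B.s B.s.injective).2 hg1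
  have trK : ∀ k : B.K, B.tr (ν k * B.s (ga 1)) = 0 := by
    intro k
    rw [← rel, map_one, mul_one, B.tr_K, f0]
  have tr0 : ∀ x : F, B.tr x = 0 → x ∈ B.K := by
    intro x hx
    have h1 : x + B.s x = 0 := congrArg Subtype.val hx
    rw [B.mem_K]
    linear_combination h1 - h2 x
  obtain ⟨τ, hτ0, hτl⟩ := hτ (E.lam : B.K) (fun h => E.lam.ne_zero (Subtype.ext h))
  have he : ν 1 * B.s (ga 1) ∈ B.K := tr0 _ (by
    have := trK 1
    simpa using this)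
  have hτK : τ ∈ B.K := by
    have h1 := trK (E.lam : B.K)
    have h3 : ν ((E.lam : B.K) : F) = τ * ν 1 := by
      have := hτl 1
      rwa [mul_one] at this
    rw [h3] at h1
    have h4 := tr0 _ h1
    have h5 : τ = (τ * ν 1 * B.s (ga 1)) * (ν 1 * B.s (ga 1))⁻¹ := by
      field_simp
    rw [h5]
    exact mul_mem h4 (inv_mem he)
  refine ⟨⟨τ, hτK⟩, fun h => hτ0 (congrArg Subtype.val h), fun x => ?_⟩
  obtain ⟨s, rfl⟩ := B.tr_surj x
  have h6 : (E.lam : B.K) * B.tr s = B.tr (((E.lam : B.K) : F) * s * B.s 1) := by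
    rw [map_one, mul_one, B.tr_K_mul]
  have h7 : B.tr s = B.tr (s * B.s 1) := by rw [map_one, mul_one]
  rw [h6, rel, hτl]
  conv_rhs => rw [h7, rel]
  rw [mul_assoc]
  exact B.tr_K_mul _ ⟨τ, hτK⟩

/-- **The element `m`.** -/
theorem exists_m [Finite G] {n : G} (hn : n ∈ S.N) {c : B.K} (hc : c ≠ 0)
    (ht : n * E.t * n⁻¹ = E.xz c * E.t) :
    ∃ m ∈ S.N, (∀ k ∈ S.Hp, m * k = k * m) ∧ (∀ x, m * E.xz x = E.xz x * m) ∧
      (∀ g ∈ S.Q1, S.pa (m * g * m⁻¹) = S.pa g) ∧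
      (∀ y, ∃ x, m * E.xc y * m⁻¹ = E.xz x * E.xc y) ∧
      ∃ d, d ≠ 0 ∧ m * E.t * m⁻¹ = E.xz d * E.t := by
  choose f hf using fun x => N_z hn x
  choose f' hf' using fun x => N_z (inv_mem hn) x
  simp only [inv_inv] at hf'
  obtain ⟨l, hl, hfl⟩ := semi S hn hf
  have fadd := zeta_add hf
  have f_inj : ∀ x, f x = 0 → x = 0 := by
    intro x hx
    have h1 := hf x
    rw [hx, E.xz_zero, mul_inv_eq_one, mul_eq_left] at h1
    rw [← E.xz_zero] at h1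
    exact xz_inj h1
  have ff' : ∀ x, f (f' x) = x := by
    intro x
    apply xz_inj (E := E)
    rw [← hf, ← hf']; group
  set h := E.h 1 E.lam with hh
  have hhT : h ∈ E.T := E.h_mem _ _
  have hz : ∀ x, h * E.xz x * h⁻¹ = E.xz ((E.lam : B.K) * x) := by
    intro x
    rw [hh, E.h_z]; simp [B.nm_one]
  -- the correcting element
  let ν : B.Kˣ := E.lam * (Units.mk0 l hl)⁻¹
  set h' := E.h 1 ν with hh'
  have hh'T : h' ∈ E.T := E.h_mem _ _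
  have hz' : ∀ x, h' * E.xz x * h'⁻¹ = E.xz ((E.lam : B.K) * l⁻¹ * x) := by
    intro x
    rw [hh', E.h_z]; simp [B.nm_one, ν]
  have hinvN : h ∈ S.N := T_le_N S hhT
  have hinvN' : h' ∈ S.N := T_le_N S hh'T
  have hmN : n * h * n⁻¹ * h⁻¹ * h' ∈ S.N :=
    mul_mem (mul_mem (mul_mem (mul_mem hn hinvN) (inv_mem hn)) (inv_mem hinvN)) hinvN'
  -- conjugation formulas for `h⁻¹`
  have hzi : ∀ x, h⁻¹ * E.xz x * h = E.xz ((E.lam : B.K)⁻¹ * x) := by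
    intro x
    have h1 := hz ((E.lam : B.K)⁻¹ * x)
    rw [← mul_assoc, mul_inv_cancel₀ E.lam.ne_zero, one_mul] at h1
    rw [← h1]; group
  have hmz : ∀ x, (n * h * n⁻¹ * h⁻¹ * h') * E.xz x * (n * h * n⁻¹ * h⁻¹ * h')⁻¹ = E.xz x := by
    intro x
    have e : (n * h * n⁻¹ * h⁻¹ * h') * E.xz x * (n * h * n⁻¹ * h⁻¹ * h')⁻¹ =
        n * (h * (n⁻¹ * (h⁻¹ * (h' * E.xz x * h'⁻¹) * h) * n) * h⁻¹) * n⁻¹ := by group
    rw [e, hz', hzi, hf', hz, hf, hfl, ff']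
    congr 1
    have := E.lam.ne_zero
    field_simp
  have hma : ∀ g ∈ S.Q1,
      S.pa ((n * h * n⁻¹ * h⁻¹ * h') * g * (n * h * n⁻¹ * h⁻¹ * h')⁻¹) = S.pa g := by
    intro g hg
    have e : (n * h * n⁻¹ * h⁻¹ * h') * g * (n * h * n⁻¹ * h⁻¹ * h')⁻¹ =
        n * (h * (n⁻¹ * (h⁻¹ * (h' * g * h'⁻¹) * h) * n) * h⁻¹) * n⁻¹ := by group
    rw [e]
    have m1 : h' * g * h'⁻¹ ∈ S.Q1 := N_Q1 hinvN' hg
    have m2 : h⁻¹ * (h' * g * h'⁻¹) * h ∈ S.Q1 := N_Q1' hinvN m1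
    have m3 : n⁻¹ * (h⁻¹ * (h' * g * h'⁻¹) * h) * n ∈ S.Q1 := N_Q1' hn m2
    have p1 : S.pa (h' * g * h'⁻¹) = S.pa g := pa_h S ν hg
    have p2 : S.pa (h⁻¹ * (h' * g * h'⁻¹) * h) = S.pa g := by
      have h5 := pa_h S E.lam m2
      rw [← hh] at h5
      have e2 : h * (h⁻¹ * (h' * g * h'⁻¹) * h) * h⁻¹ = h' * g * h'⁻¹ := by group
      rw [e2, p1] at h5
      exact h5.symm
    have p3 := pa_h S E.lam m3
    rw [← hh] at p3
    rw [N_pa_congr hn (N_Q1 hinvN m3) m3 p3, ← p2]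
    congr 1; group
  refine ⟨n * h * n⁻¹ * h⁻¹ * h', hmN, ?_, ?_, hma, ?_, ?_⟩
  · intro k hk
    have hkT := S.Hp_T hk
    have c1 : h' * k = k * h' := E.T_comm _ hh'T _ hkT
    have c2 : h⁻¹ * k = k * h⁻¹ := E.T_comm _ (inv_mem hhT) _ hkT
    have hk' : n⁻¹ * k * n ∈ S.Hp := by
      have := N_H (inv_mem hn) hk
      rwa [inv_inv] at this
    have c3 : h * (n⁻¹ * k * n) = (n⁻¹ * k * n) * h := E.T_comm _ hhT _ (S.Hp_T hk')
    calc n * h * n⁻¹ * h⁻¹ * h' * k = n * h * n⁻¹ * h⁻¹ * (h' * k) := by group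
      _ = n * h * n⁻¹ * (h⁻¹ * k) * h' := by rw [c1]; group
      _ = n * (h * (n⁻¹ * k * n)) * n⁻¹ * h⁻¹ * h' := by rw [c2]; group
      _ = k * (n * h * n⁻¹ * h⁻¹ * h') := by rw [c3]; group
  · intro x
    exact mul_inv_eq_iff_eq_mul.1 (hmz x)
  · exact triv_c S hmN hmz hma
  · -- `t`
    have t1 : h' * E.t * h'⁻¹ = E.t := by rw [← E.T_t _ hh'T]; group
    have t2 : h⁻¹ * E.t * h = E.t := by
      have := E.T_t _ hhT
      rw [mul_assoc, this]; group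
    have t3 : n⁻¹ * E.t * n = E.xz (f' c) * E.t := by
      have h5 := hf' c
      have h6 : n⁻¹ * (E.xz c * E.t) * n = E.t := by rw [← ht]; group
      have h7 : n⁻¹ * (E.xz c * E.t) * n = (n⁻¹ * E.xz c * n) * (n⁻¹ * E.t * n) := by group
      rw [h7, h5] at h6
      calc n⁻¹ * E.t * n = E.xz (f' c) * (E.xz (f' c) * (n⁻¹ * E.t * n)) := by
            rw [← mul_assoc, E.xz_sq, one_mul]
        _ = _ := by rw [h6]
    have hf'c : f' c ≠ 0 := by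
      intro h5
      apply hc
      rw [← ff' c, h5]
      have := fadd 0 0
      rw [add_zero] at this
      exact left_eq_add.1 this
    have t4 : h * (E.xz (f' c) * E.t) * h⁻¹ = E.xz ((E.lam : B.K) * f' c) * E.t := by
      have : h * (E.xz (f' c) * E.t) * h⁻¹ = (h * E.xz (f' c) * h⁻¹) * (h * E.t * h⁻¹) := by group
      rw [this, hz, ← E.T_t _ hhT]; group
    have t5 : n * (E.xz ((E.lam : B.K) * f' c) * E.t) * n⁻¹ = E.xz (l * c + c) * E.t := by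
      have : n * (E.xz ((E.lam : B.K) * f' c) * E.t) * n⁻¹ =
          (n * E.xz ((E.lam : B.K) * f' c) * n⁻¹) * (n * E.t * n⁻¹) := by group
      rw [this, hf, hfl, ff', ht, ← mul_assoc, ← E.xz_add]
    refine ⟨l * c + c, ?_, ?_⟩
    · intro h5
      have h6 : f ((E.lam : B.K) * f' c + f' c) = 0 := by
        rw [fadd, hfl, ff', h5]
      have h7 := f_inj _ h6
      have h8 : ((E.lam : B.K) + 1) * f' c = 0 := by linear_combination h7
      rcases mul_eq_zero.1 h8 with h9 | h9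
      · apply E.lam_ne
        have h10 : (1 : B.K) + 1 = 0 := B.K_add_self 1
        linear_combination h9 - h10
      · exact hf'c h9
    · have e : (n * h * n⁻¹ * h⁻¹ * h') * E.t * (n * h * n⁻¹ * h⁻¹ * h')⁻¹ =
          n * (h * (n⁻¹ * (h⁻¹ * (h' * E.t * h'⁻¹) * h) * n) * h⁻¹) * n⁻¹ := by group
      rw [e, t1, t2, t3, t4, t5]

end Cfsg.Agent.StdRank2.UFour.SeedMove
end

-- part: StdRank2/UFour/SeedEnd
section
/-!
# The seed, part 3: `m` centralises `P`, and the seed of the growth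

`exists_seed`: from an element normalising `P` and moving `t` to `z t`, `z ∈ X_z`.
`normP_of_perfect`: the subgroup `P` is normalised by `N(⟨t⟩ X_z)` if it contains all perfect subgroups of
`C(⟨t⟩ X_z)`.
-/

set_option autoImplicit false
set_option linter.unusedSectionVars false

namespace Cfsg.Agent.StdRank2.UFour.SeedEnd

open Subgroup
open Cfsg.Agent.StdEven.Syl
open Cfsg.Agent.StdRank2.UFour.Seeding Cfsg.Agent.StdRank2.UFour.Seeding.SeedEnv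
open Cfsg.Agent.StdRank2.UFour.SeedMove

variable {F : Type*} [Field F] [CharP F 2] {B : Bar F} {G : Type*} [Group G]
variable {E : WEnv B G} {V : Type*} [AddCommGroup V] [Module F V] (S : SeedEnv E V)

/-! ### The action of an element of `N` on the coordinates -/

/-- the action of `Hp` on the coordinates. -/
theorem co_conj_H {k : G} (hk : k ∈ S.Hp) {μ : F} (hw : Wt E S.xv S.chi k μ) {g : G} (hg : g ∈ S.Q1) :
    S.co (k * g * k⁻¹) =
      (μ * (S.co g).1, S.chi μ • (S.co g).2.1, (B.s μ)⁻¹ * (S.co g).2.2) := by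
  obtain ⟨x, hx⟩ := S.form hg
  obtain ⟨x1, hx1⟩ := hw.v (S.pv g)
  have hz : k * E.xz x * k⁻¹ = E.xz x := by
    rw [← S.P_z _ (S.Hp_P hk)]; group
  have m1 := S.a_mem (μ * S.pa g)
  have m3 := S.v_mem (S.chi μ • S.pv g)
  have e2 : k * g * k⁻¹ = E.xz x * (E.xz x1 * S.st (μ * S.pa g, S.chi μ • S.pv g, (B.s μ)⁻¹ * S.pc g)) := by
    have e3 : k * g * k⁻¹ = E.xz x * (E.xa (μ * S.pa g) * (E.xz x1 * S.xv (S.chi μ • S.pv g)) *
        E.xc ((B.s μ)⁻¹ * S.pc g)) := by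
      rw [← hw.a, ← hw.c, ← hx1]
      conv_rhs => rw [← hz]
      conv_lhs => rw [hx]
      unfold st co
      group
    rw [e3]
    unfold st
    rw [← mul_assoc (E.xa _), ← Q1_Z_of S m1 x1]
    simp only [mul_assoc]
  rw [e2, S.co_z_mul _ (mul_mem (S.z_mem_Q1 _) (S.st_mem _)), S.co_z_mul _ (S.st_mem _), S.co_st]
  rfl

theorem exists_odd [Finite F] (E : WEnv B G) : Odd (Nat.card F - 1) := by
  have : Fact (Nat.Prime 2) := ⟨Nat.prime_two⟩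
  have := Fintype.ofFinite F
  obtain ⟨n, hp, hn⟩ := FiniteField.card F 2
  rw [Nat.card_eq_fintype_card, hn]
  have h1 : Even (2 ^ (n : ℕ)) := (Nat.even_pow.2 ⟨even_two, n.pos.ne'⟩)
  have h2 : 1 ≤ 2 ^ (n : ℕ) := Nat.one_le_two_pow
  exact Nat.Even.sub_odd h2 h1 odd_one

/-- The centralising power of `m`. -/
theorem exists_central [Finite G] [Finite F] {m : G} (hm : m ∈ S.N) (hH : ∀ k ∈ S.Hp, m * k = k * m)
    (hz : ∀ x, m * E.xz x = E.xz x * m) (ha : ∀ g ∈ S.Q1, S.pa (m * g * m⁻¹) = S.pa g)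
    (hc : ∀ y, ∃ x, m * E.xc y * m⁻¹ = E.xz x * E.xc y) {d : B.K}
    (ht : m * E.t * m⁻¹ = E.xz d * E.t) :
    ∃ m' ∈ S.N, (∀ k ∈ S.Hp, m' * k = k * m') ∧ (∀ x, m' * E.xz x = E.xz x * m') ∧
      (∀ g ∈ S.Q1, ∃ x, m' * g * m'⁻¹ = E.xz x * g) ∧ m' * E.t * m'⁻¹ = E.xz d * E.t := by
  have hmz : ∀ x, m * E.xz x * m⁻¹ = E.xz x := fun x => mul_inv_eq_iff_eq_mul.2 (hz x)
  -- the induced map of the coordinates
  let Φ : F × V × F → F × V × F := fun p => S.co (m * S.st p * m⁻¹)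
  have key : ∀ g ∈ S.Q1, S.co (m * g * m⁻¹) = Φ (S.co g) := by
    intro g hg
    obtain ⟨x, hx⟩ := S.form hg
    have e : m * g * m⁻¹ = E.xz x * (m * S.st (S.co g) * m⁻¹) := by
      conv_lhs => rw [hx]
      rw [← mul_assoc, hz]; group
    rw [e, S.co_z_mul _ (N_Q1 hm (S.st_mem _))]
  have hadd : ∀ p q, Φ (p + q) = Φ p + Φ q := by
    intro p q
    have h1 : S.co (S.st p * S.st q) = p + q := by
      rw [S.co_mul (S.st_mem p) (S.st_mem q), S.co_st, S.co_st]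
    rw [← h1, ← key _ (mul_mem (S.st_mem p) (S.st_mem q))]
    have e : m * (S.st p * S.st q) * m⁻¹ = (m * S.st p * m⁻¹) * (m * S.st q * m⁻¹) := by group
    rw [e, S.co_mul (N_Q1 hm (S.st_mem p)) (N_Q1 hm (S.st_mem q))]
  have hequiv : ∀ μ, μ ≠ 0 → ∀ p, Φ (μ * p.1, S.chi μ • p.2.1, (B.s μ)⁻¹ * p.2.2) =
      (μ * (Φ p).1, S.chi μ • (Φ p).2.1, (B.s μ)⁻¹ * (Φ p).2.2) := by
    intro μ hμ p
    obtain ⟨k, hk, hw⟩ := S.Hp_onto μ hμ
    have hkN : k ∈ S.N := T_le_N S (S.Hp_T hk)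
    have h1 := co_conj_H S hk hw (S.st_mem p)
    rw [S.co_st] at h1
    rw [← h1, ← key _ (N_Q1 hkN (S.st_mem p))]
    have e : m * (k * S.st p * k⁻¹) * m⁻¹ = k * (m * S.st p * m⁻¹) * k⁻¹ := by
      have h2 := hH k hk
      have h3 : k⁻¹ * m⁻¹ = m⁻¹ * k⁻¹ := by rw [← mul_inv_rev, h2, mul_inv_rev]
      calc m * (k * S.st p * k⁻¹) * m⁻¹ = (m * k) * S.st p * (k⁻¹ * m⁻¹) := by group
        _ = _ := by rw [h2, h3]; group
    rw [e]
    exact co_conj_H S hk hw (N_Q1 hm (S.st_mem p))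
  have ha' : ∀ s, (Φ (s, 0, 0)).1 = s := by
    intro s
    have h1 := ha _ (S.st_mem (s, 0, 0))
    have h2 : S.pa (S.st (s, 0, 0)) = s := congrArg Prod.fst (S.co_st (s, 0, 0))
    rw [h2] at h1
    exact h1
  have hc' : ∀ y, (Φ (0, 0, y)).2.2 = y := by
    intro y
    have h1 : S.co (E.xc y) = (0, 0, y) := by
      unfold co; rw [S.pa_c, S.pv_c, S.pc_c]
    obtain ⟨x, hx⟩ := hc y
    rw [← h1, ← key _ (S.c_mem y), hx, S.co_z_mul _ (S.c_mem y), h1]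
  have hinj : ∀ p, Φ p = 0 → p = 0 := by
    intro p hp
    obtain ⟨x, hx⟩ := S.ker' (N_Q1 hm (S.st_mem p)) hp
    have h1 : S.st p = E.xz x := by
      have : S.st p = m⁻¹ * E.xz x * m := by rw [← hx]; group
      rw [this, mul_assoc, ← hz, inv_mul_cancel_left]
    rw [← S.co_st p, h1, S.co_z]
  obtain ⟨l, hl, hΦ⟩ := SeedField.diag B (K_ne E) S.chi_eq Φ hadd hequiv ha' hc' hinj S.V_gen
  -- powers
  have hpow : ∀ (j : ℕ) (g : G), g ∈ S.Q1 → S.co (m ^ j * g * (m ^ j)⁻¹) =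
      ((S.co g).1, l ^ j • (S.co g).2.1, (S.co g).2.2) := by
    intro j
    induction j with
    | zero =>
      intro g _
      rw [pow_zero, pow_zero, one_smul, one_mul, inv_one, mul_one]
    | succ j ih =>
      intro g hg
      have e : m ^ (j + 1) * g * (m ^ (j + 1))⁻¹ = m * (m ^ j * g * (m ^ j)⁻¹) * m⁻¹ := by
        rw [pow_succ']; group
      rw [e, key _ (N_Q1 (pow_mem hm j) hg), ih g hg, hΦ, smul_smul, ← pow_succ']
  have hl1 : l ^ (Nat.card F - 1) = 1 := by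
    have := Fintype.ofFinite F
    rw [Nat.card_eq_fintype_card]
    exact FiniteField.pow_card_sub_one_eq_one l hl
  obtain ⟨r, hr⟩ := exists_odd (F := F) E
  refine ⟨m ^ (Nat.card F - 1), pow_mem hm _, ?_, ?_, ?_, ?_⟩
  · intro k hk
    exact (Commute.pow_left (hH k hk) _).eq
  · intro x
    exact (Commute.pow_left (hz x) _).eq
  · intro g hg
    refine S.eq_of_co (N_Q1 (pow_mem hm _) hg) hg ?_
    rw [hpow _ g hg, hl1, one_smul]
  · have h2 : m ^ 2 * E.t * (m ^ 2)⁻¹ = E.t := by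
      have e : m ^ 2 * E.t * (m ^ 2)⁻¹ = m * (m * E.t * m⁻¹) * m⁻¹ := by rw [pow_two]; group
      rw [e, ht]
      have e2 : m * (E.xz d * E.t) * m⁻¹ = (m * E.xz d * m⁻¹) * (m * E.t * m⁻¹) := by group
      rw [e2, hmz, ht, ← mul_assoc, E.xz_sq, one_mul]
    have h3 : ∀ j : ℕ, m ^ (2 * j) * E.t * (m ^ (2 * j))⁻¹ = E.t := by
      intro j
      rw [pow_mul]
      have h4 : Commute (m ^ 2) E.t := mul_inv_eq_iff_eq_mul.1 h2
      rw [(h4.pow_left j).eq]; group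
    rw [hr, pow_succ']
    have e : m * m ^ (2 * r) * E.t * (m * m ^ (2 * r))⁻¹ = m * (m ^ (2 * r) * E.t * (m ^ (2 * r))⁻¹) * m⁻¹ := by
      group
    rw [e, h3, ht]

/-- there is a torus element moving everything in `Q₁/Z`. -/
theorem exists_moving (B : Bar F) : ∃ μ : F, μ ≠ 0 ∧ μ ≠ 1 ∧ B.s μ ≠ μ := by
  obtain ⟨x, hx⟩ := B.ne
  refine ⟨x, ?_, ?_, hx⟩
  · rintro rfl; exact hx (map_zero _)
  · rintro rfl; exact hx (map_one _)

/-- `m'` centralises `Q₁`. -/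
theorem comm_Q1 [Finite G] {m : G} (hm : m ∈ S.N) (hH : ∀ k ∈ S.Hp, m * k = k * m)
    (hz : ∀ x, m * E.xz x = E.xz x * m) (hq : ∀ g ∈ S.Q1, ∃ x, m * g * m⁻¹ = E.xz x * g) :
    ∀ g ∈ S.Q1, m * g = g * m := by
  have h2 : ∀ a : F, a + a = 0 := fun a => CharTwo.add_self_eq_zero a
  have hV2 : ∀ w : V, w + w = 0 := SeedField.V_add_self F
  intro g hg
  obtain ⟨μ, hμ, hμ1, hμs⟩ := exists_moving B
  obtain ⟨k, hk, hw⟩ := S.Hp_onto μ hμ
  have hsμ : B.s μ ≠ 0 := (map_ne_zero_iff B.s B.s.injective).2 hμ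
  have n1 : μ + 1 ≠ 0 := fun h => hμ1 (by linear_combination h - h2 1)
  have n2 : S.chi μ + 1 ≠ 0 := by
    intro h
    have h3 : S.chi μ = 1 := by linear_combination h - h2 1
    rcases S.chi_eq μ hμ with h4 | h4
    · rw [h4, div_eq_one_iff_eq hμ] at h3
      exact hμs h3
    · rw [h4, div_eq_one_iff_eq hsμ] at h3
      exact hμs h3.symm
  have n3 : (B.s μ)⁻¹ + 1 ≠ 0 := by
    intro h
    have h3 : (B.s μ)⁻¹ = 1 := by linear_combination h - h2 1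
    have h4 : B.s μ = 1 := inv_eq_one.1 h3
    apply hμ1
    rw [← B.invol μ, h4, map_one]
  -- `g' = st (...)` with `k g' k⁻¹ = z g g'`
  let p : F × V × F := ((μ + 1)⁻¹ * (S.co g).1, (S.chi μ + 1)⁻¹ • (S.co g).2.1,
    ((B.s μ)⁻¹ + 1)⁻¹ * (S.co g).2.2)
  have hkN : k ∈ S.N := T_le_N S (S.Hp_T hk)
  have h3 : S.co (k * S.st p * k⁻¹) = S.co (g * S.st p) := by
    rw [co_conj_H S hk hw (S.st_mem p), S.co_mul hg (S.st_mem p), S.co_st]
    refine Prod.ext ?_ (Prod.ext ?_ ?_)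
    · change μ * ((μ + 1)⁻¹ * (S.co g).1) = (S.co g).1 + (μ + 1)⁻¹ * (S.co g).1
      have e : (μ + 1) * (μ + 1)⁻¹ = 1 := mul_inv_cancel₀ n1
      linear_combination (S.co g).1 * e - h2 ((μ + 1)⁻¹ * (S.co g).1)
    · change S.chi μ • ((S.chi μ + 1)⁻¹ • (S.co g).2.1) =
        (S.co g).2.1 + (S.chi μ + 1)⁻¹ • (S.co g).2.1
      have e : (S.chi μ + 1) • ((S.chi μ + 1)⁻¹ • (S.co g).2.1) = (S.co g).2.1 := by
        rw [smul_smul, mul_inv_cancel₀ n2, one_smul]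
      rw [add_smul, one_smul] at e
      calc S.chi μ • ((S.chi μ + 1)⁻¹ • (S.co g).2.1)
          = (S.chi μ • ((S.chi μ + 1)⁻¹ • (S.co g).2.1) + (S.chi μ + 1)⁻¹ • (S.co g).2.1) +
            (S.chi μ + 1)⁻¹ • (S.co g).2.1 := by rw [add_assoc, hV2, add_zero]
        _ = _ := by rw [e]
    · change (B.s μ)⁻¹ * (((B.s μ)⁻¹ + 1)⁻¹ * (S.co g).2.2) =
        (S.co g).2.2 + ((B.s μ)⁻¹ + 1)⁻¹ * (S.co g).2.2
      have e : ((B.s μ)⁻¹ + 1) * ((B.s μ)⁻¹ + 1)⁻¹ = 1 := mul_inv_cancel₀ n3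
      linear_combination (S.co g).2.2 * e - h2 (((B.s μ)⁻¹ + 1)⁻¹ * (S.co g).2.2)
  obtain ⟨x, hx⟩ := S.eq_of_co (N_Q1 hkN (S.st_mem p)) (mul_mem hg (S.st_mem p)) h3
  -- `m` acts on `st p` by `z1`, on `g` by `z2`
  obtain ⟨z1, hz1⟩ := hq _ (S.st_mem p)
  obtain ⟨z2, hz2⟩ := hq g hg
  have c1 : m * (k * S.st p * k⁻¹) * m⁻¹ = E.xz z1 * (k * S.st p * k⁻¹) := by
    have h4 := hH k hk
    have h5 : k⁻¹ * m⁻¹ = m⁻¹ * k⁻¹ := by rw [← mul_inv_rev, h4, mul_inv_rev]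
    calc m * (k * S.st p * k⁻¹) * m⁻¹ = (m * k) * S.st p * (k⁻¹ * m⁻¹) := by group
      _ = k * (m * S.st p * m⁻¹) * k⁻¹ := by rw [h4, h5]; group
      _ = (k * E.xz z1) * S.st p * k⁻¹ := by rw [hz1]; group
      _ = _ := by rw [← S.P_z _ (S.Hp_P hk)]; group
  have c2 : m * (E.xz x * (g * S.st p)) * m⁻¹ = E.xz (z2 + z1) * (E.xz x * (g * S.st p)) := by
    calc m * (E.xz x * (g * S.st p)) * m⁻¹ = (m * E.xz x) * (g * S.st p) * m⁻¹ := by group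
      _ = E.xz x * (m * g * m⁻¹) * (m * S.st p * m⁻¹) := by rw [hz]; group
      _ = E.xz x * E.xz z2 * (g * E.xz z1) * S.st p := by rw [hz1, hz2]; group
      _ = (E.xz x * (E.xz z2 * E.xz z1)) * g * S.st p := by rw [← Q1_Z_of S hg z1]; group
      _ = ((E.xz z2 * E.xz z1) * E.xz x) * g * S.st p := by
          rw [← E.xz_add, ← E.xz_add, ← E.xz_add, add_comm x]
      _ = _ := by rw [E.xz_add]; group
  rw [hx, c2] at c1
  have h6 := mul_right_cancel c1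
  have h7 := xz_inj h6
  have h8 : z2 = 0 := by linear_combination h7
  rw [h8, E.xz_zero, one_mul] at hz2
  exact mul_inv_eq_iff_eq_mul.1 hz2

/-- an element normalising `P` and centralising `Q₁` centralises `P`. -/
theorem comm_P {m : G} (hP : ∀ g ∈ S.P, m * g * m⁻¹ ∈ S.P) (hQ : ∀ g ∈ S.Q1, m * g = g * m) :
    ∀ g ∈ S.P, m * g = g * m := by
  have h1 : ∀ p ∈ S.P, ∃ x, m * p * m⁻¹ * p⁻¹ = E.xz x := by
    intro p hp
    apply S.cent_Q1 _ (mul_mem (hP p hp) (inv_mem hp))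
    intro g hg
    have h2 : p⁻¹ * g * p ∈ S.Q1 := by
      have := S.Q1_P _ (inv_mem hp) _ hg
      rwa [inv_inv] at this
    have h3 := hQ _ h2
    have h4 : m⁻¹ * (p⁻¹ * g * p) = (p⁻¹ * g * p) * m⁻¹ := by
      calc m⁻¹ * (p⁻¹ * g * p) = m⁻¹ * ((p⁻¹ * g * p) * m) * m⁻¹ := by group
        _ = _ := by rw [← h3]; group
    calc m * p * m⁻¹ * p⁻¹ * g = m * p * (m⁻¹ * (p⁻¹ * g * p)) * p⁻¹ := by group
      _ = (m * g) * p * m⁻¹ * p⁻¹ := by rw [h4]; group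
      _ = _ := by rw [hQ g hg]; group
  have h2 : S.P ≤ centralizer ({m} : Set G) := by
    refine S.P_odd.trans ?_
    rw [Subgroup.closure_le]
    rintro g ⟨hg, k, hk, hgk⟩
    obtain ⟨x, hx⟩ := h1 g hg
    have e : m * g * m⁻¹ = E.xz x * g := by rw [← hx]; group
    have h3 : (m * g * m⁻¹) ^ k = 1 := by rw [conj_pow, hgk, mul_one, mul_inv_cancel]
    have hc : Commute (E.xz x) g := S.P_z g hg x
    rw [e, hc.mul_pow, hgk, mul_one] at h3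
    obtain ⟨r, rfl⟩ := hk
    have h4 : E.xz x = 1 := by
      rw [pow_succ, pow_mul, pow_two, E.xz_sq, one_pow, one_mul] at h3
      exact h3
    rw [h4, one_mul] at e
    rw [SetLike.mem_coe, mem_centralizer_singleton_iff]
    exact (mul_inv_eq_iff_eq_mul.1 e).symm
  intro g hg
  exact (mem_centralizer_singleton_iff.1 (h2 hg)).symm

/-- **The seed.** -/
theorem exists_seed' [Finite G] [Finite F] {n₀ : G} (hn : ∀ g ∈ S.P, n₀ * g * n₀⁻¹ ∈ S.P) {c : B.K}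
    (hc : c ≠ 0) (ht : n₀ * E.t * n₀⁻¹ = E.xz c * E.t) :
    ∃ Sd : Seed E, ∀ y ∈ Sd.Y, ∀ g ∈ S.P, y * g = g * y := by
  obtain ⟨n, hn1, hn2⟩ := exists_mem_N S hn ht
  obtain ⟨m, hm, hH, hz, ha, hcc, d, hd, hmt⟩ := exists_m S hn1 hc hn2
  obtain ⟨m', hm', hH', hz', hq', hmt'⟩ := exists_central S hm hH hz ha hcc hmt
  have hP' := comm_P S (fun g hg => N_P hm' hg) (comm_Q1 S hm' hH' hz' hq')
  have fixz : ∀ p ∈ S.P, ∀ x, p * E.xz x * p⁻¹ = E.xz x := by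
    intro p hp x
    rw [← S.P_z p hp]; group
  let Y : Subgroup G :=
    { carrier := {y | (∀ g ∈ S.P, y * g = g * y) ∧ ∃ c, y * E.t * y⁻¹ = E.xz c * E.t}
      mul_mem' := by
        rintro a b ⟨ha1, ca, ha2⟩ ⟨hb1, cb, hb2⟩
        refine ⟨fun g hg => by rw [mul_assoc, hb1 g hg, ← mul_assoc, ha1 g hg, mul_assoc],
          cb + ca, ?_⟩
        have e : a * b * E.t * (a * b)⁻¹ = a * (b * E.t * b⁻¹) * a⁻¹ := by group
        rw [e, hb2]
        have e2 : a * (E.xz cb * E.t) * a⁻¹ = (a * E.xz cb) * a⁻¹ * (a * E.t * a⁻¹) := by group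
        rw [e2, ha2, ha1 _ (S.z_mem_P cb), mul_inv_cancel_right, ← mul_assoc, ← E.xz_add]
      one_mem' := ⟨fun g _ => by group, 0, by rw [E.xz_zero]; group⟩
      inv_mem' := by
        rintro a ⟨ha1, ca, ha2⟩
        have h1 : ∀ g ∈ S.P, a⁻¹ * g = g * a⁻¹ := by
          intro g hg
          calc a⁻¹ * g = a⁻¹ * (g * a) * a⁻¹ := by group
            _ = g * a⁻¹ := by rw [← ha1 g hg]; group
        refine ⟨h1, ca, ?_⟩
        have h2 : a⁻¹ * (E.xz ca * E.t) * a = E.t := by rw [← ha2]; group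
        have h3 : a⁻¹ * (E.xz ca * E.t) * a = (a⁻¹ * E.xz ca) * a * (a⁻¹ * E.t * a) := by group
        rw [h3, h1 _ (S.z_mem_P ca), inv_mul_cancel_right] at h2
        calc a⁻¹ * E.t * a⁻¹⁻¹ = E.xz ca * (E.xz ca * (a⁻¹ * E.t * a)) := by
              rw [← mul_assoc (E.xz ca), E.xz_sq, one_mul, inv_inv]
          _ = _ := by rw [h2] }
  have hYT : ∀ g ∈ E.T, ∀ y ∈ Y, g * y * g⁻¹ ∈ Y := by
    rintro g hg y ⟨hy1, cy, hy2⟩
    constructor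
    · intro p hp
      have h1 : g⁻¹ * p * g ∈ S.P := by
        have := S.T_P _ (inv_mem hg) p hp
        rwa [inv_inv] at this
      have h2 := hy1 _ h1
      calc g * y * g⁻¹ * p = g * (y * (g⁻¹ * p * g)) * g⁻¹ := by group
        _ = _ := by rw [h2]; group
    · have h1 := E.T_t g hg
      have h2 : g⁻¹ * E.t = E.t * g⁻¹ := (E.T_t _ (inv_mem hg)).symm
      obtain ⟨μ, ν, -, -, -, hz⟩ := E.T_act g hg
      refine ⟨B.nm μ * ν * cy, ?_⟩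
      calc g * y * g⁻¹ * E.t * (g * y * g⁻¹)⁻¹ = g * y * (g⁻¹ * E.t) * g * y⁻¹ * g⁻¹ := by group
        _ = g * (y * E.t * y⁻¹) * g⁻¹ := by rw [h2]; group
        _ = (g * E.xz cy * g⁻¹) * (g * E.t) * g⁻¹ := by rw [hy2]; group
        _ = _ := by rw [hz, ← h1]; group
  refine ⟨{
    Y := Y
    t_mem := ⟨fun g hg => S.P_t g hg, 0, by rw [E.xz_zero]; group⟩
    z_mem := fun x => ⟨fun g hg => S.P_z g hg x, 0, by rw [← E.t_z, E.xz_zero]; group⟩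
    Q_comm := fun y hy g hg => hy.1 g (S.U_le (S.Q_le hg))
    a_comm := fun y hy s => hy.1 _ (S.Q1_le_P (S.a_mem s))
    conj_t := fun y hy => hy.2
    onto := ?_
    cent := fun y hy hyt => S.cent_P y hyt hy.1
    conj_T := hYT }, fun y hy g hg => hy.1 g hg⟩
  intro e
  by_cases he : e = 0
  · exact ⟨1, one_mem _, by rw [he, E.xz_zero]; group⟩
  · have hmY : m' ∈ Y := ⟨hP', d, hmt'⟩
    let ν : B.Kˣ := Units.mk0 (e * d⁻¹) (mul_ne_zero he (inv_ne_zero hd))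
    refine ⟨_, hYT _ (E.h_mem 1 ν) _ hmY, ?_⟩
    have h1 := E.T_t _ (E.h_mem 1 ν)
    have h2 : (E.h 1 ν)⁻¹ * E.t = E.t * (E.h 1 ν)⁻¹ := (E.T_t _ (inv_mem (E.h_mem 1 ν))).symm
    calc E.h 1 ν * m' * (E.h 1 ν)⁻¹ * E.t * (E.h 1 ν * m' * (E.h 1 ν)⁻¹)⁻¹
        = E.h 1 ν * m' * ((E.h 1 ν)⁻¹ * E.t) * E.h 1 ν * m'⁻¹ * (E.h 1 ν)⁻¹ := by group
      _ = E.h 1 ν * (m' * E.t * m'⁻¹) * (E.h 1 ν)⁻¹ := by rw [h2]; group
      _ = (E.h 1 ν * E.xz d * (E.h 1 ν)⁻¹) * (E.h 1 ν * E.t) * (E.h 1 ν)⁻¹ := by rw [hmt']; group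
      _ = E.xz (B.nm ((1 : Fˣ) : F) * ν * d) * E.t := by rw [E.h_z, ← h1]; group
      _ = E.xz e * E.t := by
          congr 2
          rw [Units.val_one, B.nm_one, one_mul]
          change e * d⁻¹ * d = e
          rw [mul_assoc, inv_mul_cancel₀ hd, mul_one]

/-- If `P` contains all perfect subgroups centralising `⟨t⟩ X_z`, it is normalised by `N(⟨t⟩ X_z)`. -/
theorem normP_of_perfect (hperf : ⁅S.P, S.P⁆ = S.P)
    (h : ∀ R : Subgroup G, ⁅R, R⁆ = R → (∀ g ∈ R, E.t * g = g * E.t) →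
      (∀ g ∈ R, ∀ x, E.xz x * g = g * E.xz x) → R ≤ S.P)
    {n : G} (hn1 : ∃ x, n⁻¹ * E.t * n = E.xz x ∨ n⁻¹ * E.t * n = E.xz x * E.t)
    (hn2 : ∀ y, ∃ x, n⁻¹ * E.xz y * n = E.xz x ∨ n⁻¹ * E.xz y * n = E.xz x * E.t) :
    ∀ g ∈ S.P, n * g * n⁻¹ ∈ S.P := by
  have comm : ∀ a : G, (∃ x, n⁻¹ * a * n = E.xz x ∨ n⁻¹ * a * n = E.xz x * E.t) →
      ∀ g ∈ S.P, a * (n * g * n⁻¹) = (n * g * n⁻¹) * a := by
    rintro a ⟨x, hx⟩ g hg
    have h1 : (n⁻¹ * a * n) * g = g * (n⁻¹ * a * n) := by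
      rcases hx with hx | hx
      · rw [hx, S.P_z g hg]
      · rw [hx, mul_assoc, S.P_t g hg, ← mul_assoc, S.P_z g hg, mul_assoc]
    calc a * (n * g * n⁻¹) = n * ((n⁻¹ * a * n) * g) * n⁻¹ := by group
      _ = _ := by rw [h1]; group
  have h1 := h (S.P.map (MulAut.conj n).toMonoidHom) (by
    rw [← Subgroup.map_commutator, hperf]) (by
    rintro _ ⟨g, hg, rfl⟩
    exact comm _ hn1 g hg) (by
    rintro _ ⟨g, hg, rfl⟩ y
    exact comm _ (hn2 y) g hg)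
  intro g hg
  exact h1 (conj_mem_map n hg)

end Cfsg.Agent.StdRank2.UFour.SeedEnd
end

-- part: StdRank2/UFour/SeedPre
section
/-!
# The seed, part 4: the group `P = ⟨U, n_b, Hp⟩` from its rank one relations

`Pre E V`: `U = Q X_a`, `Q₁ ⊴ ⟨U, nb, Hp⟩`, `U = Q₁ Xβ`, for `r ∈ Xβ`, `r ≠ 1`: `nb r nb ∈ U Hp nb U`.
`Pre.toSeedEnv`: then `P = U Hp ∪ U Hp nb U` and all fields of `SeedEnv` hold.
-/

set_option autoImplicit false
set_option linter.unusedSectionVars false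

namespace Cfsg.Agent.StdRank2.UFour.SeedPre

open Subgroup
open Cfsg.Agent.StdEven.Syl
open Cfsg.Agent.StdRank2.UFour.Seeding Cfsg.Agent.StdRank2.UFour.SeedMove

variable {F : Type*} [Field F] [CharP F 2] {B : Bar F} {G : Type*} [Group G]

/-- the group `Q X_a`. -/
def UU (E : WEnv B G) : Subgroup G where
  carrier := {g | ∃ q ∈ E.Q, ∃ s, g = q * E.xa s}
  mul_mem' := by
    rintro _ _ ⟨q, hq, s, rfl⟩ ⟨r, hr, x, rfl⟩
    refine ⟨q * (E.xa s * r * (E.xa s)⁻¹), mul_mem hq (E.xa_Q s r hr), s + x, ?_⟩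
    rw [E.xa_add]; group
  one_mem' := ⟨1, one_mem _, 0, by rw [E.xa_zero, mul_one]⟩
  inv_mem' := by
    rintro _ ⟨q, hq, s, rfl⟩
    have h1 : (E.xa s)⁻¹ = E.xa s := WEnv.inv_of_sq (E.xa_sq s)
    refine ⟨E.xa s * q⁻¹ * (E.xa s)⁻¹, E.xa_Q s _ (inv_mem hq), s, ?_⟩
    rw [mul_inv_rev, inv_mul_cancel_right]
    exact congrArg (· * q⁻¹) h1

theorem mem_UU {E : WEnv B G} {g : G} : g ∈ UU E ↔ ∃ q ∈ E.Q, ∃ s, g = q * E.xa s := Iff.rfl

theorem Q_le (E : WEnv B G) : E.Q ≤ UU E := fun q hq => ⟨q, hq, 0, by rw [E.xa_zero, mul_one]⟩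

theorem a_mem (E : WEnv B G) (s : F) : E.xa s ∈ UU E := ⟨1, one_mem _, s, (one_mul _).symm⟩

theorem a_Q {E : WEnv B G} {s : F} (h : E.xa s ∈ E.Q) : s = 0 := by
  apply SeedEnv.tr_nondeg (B := B)
  intro y
  have h1 := E.a_c s y
  rw [← E.c_Q y _ h, mul_inv_cancel_right] at h1
  have h2 : E.xz (B.tr (s * B.s y)) = E.xz 0 := by rw [E.xz_zero]; exact right_eq_mul.1 h1
  exact SeedEnv.xz_inj h2

theorem a_coord {E : WEnv B G} {q q' : G} (hq : q ∈ E.Q) (hq' : q' ∈ E.Q) {s s' : F}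
    (h : q * E.xa s = q' * E.xa s') : s = s' := by
  have h1 : E.xa (s + s') ∈ E.Q := by
    have h2 : E.xa (s + s') = q⁻¹ * q' := by
      have h3 : E.xa s = q⁻¹ * q' * E.xa s' := by rw [mul_assoc, ← h]; group
      rw [E.xa_add, h3, mul_assoc, E.xa_sq, mul_one]
    rw [h2]; exact mul_mem (inv_mem hq) hq'
  have h2 := a_Q h1
  have h3 : s' + s' = 0 := CharTwo.add_self_eq_zero s'
  linear_combination h2 - h3

theorem Q_conj {E : WEnv B G} {u q : G} (hu : u ∈ UU E) (hq : q ∈ E.Q) : u * q * u⁻¹ ∈ E.Q := by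
  obtain ⟨r, hr, s, rfl⟩ := hu
  have e : r * E.xa s * q * (r * E.xa s)⁻¹ = r * (E.xa s * q * (E.xa s)⁻¹) * r⁻¹ := by group
  rw [e]
  exact mul_mem (mul_mem hr (E.xa_Q s q hq)) (inv_mem hr)

/-- The a-coordinate is invariant under conjugation by `U`. -/
theorem a_conj {E : WEnv B G} {u : G} (hu : u ∈ UU E) (s : F) : ∃ q ∈ E.Q, u * E.xa s * u⁻¹ = q * E.xa s := by
  obtain ⟨r, hr, x, rfl⟩ := hu
  refine ⟨r * (E.xa s * r⁻¹ * (E.xa s)⁻¹), mul_mem hr (E.xa_Q s _ (inv_mem hr)), ?_⟩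
  have h1 : E.xa x * E.xa s * (E.xa x)⁻¹ = E.xa s := by
    rw [← E.xa_add, add_comm, E.xa_add]; group
  calc r * E.xa x * E.xa s * (r * E.xa x)⁻¹ = r * (E.xa x * E.xa s * (E.xa x)⁻¹) * r⁻¹ := by group
    _ = _ := by rw [h1]; group

/-- The primitive data. -/
structure Pre (E : WEnv B G) (V : Type*) [AddCommGroup V] [Module F V] where
  Q1 : Subgroup G
  Hp : Subgroup G
  nb : G
  Xβ : Set G
  chi : F → F
  xv : V → G
  pa : G → F
  pv : G → V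
  pc : G → F
  chi_eq : ∀ μ, μ ≠ 0 → chi μ = B.s μ / μ ∨ chi μ = μ / B.s μ
  V_gen : ∃ e : V, ∀ w, ∃ a : F, w = a • e
  -- `nb`
  nb_sq : nb * nb = 1
  t_nb : E.t * nb = nb * E.t
  nb_z : ∀ x, nb * E.xz x * nb⁻¹ = E.xz x
  nb_c : ∀ x, nb * E.xc x * nb⁻¹ = E.xa x
  nb_T : ∀ g, g ∈ E.T → nb * g * nb⁻¹ ∈ E.T
  nb_Q1 : ∀ g ∈ Q1, nb * g * nb⁻¹ ∈ Q1
  nb_gen : nb ∈ closure ((UU E : Set G) ∪ {g | ∃ u ∈ UU E, g = nb * u * nb⁻¹})
  -- `Hp`
  Hp_T : Hp ≤ E.T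
  Hp_z : ∀ k ∈ Hp, ∀ x, k * E.xz x * k⁻¹ = E.xz x
  nb_Hp : ∀ k ∈ Hp, nb * k * nb⁻¹ ∈ Hp
  Hp_act : ∀ k ∈ Hp, ∃ μ, μ ≠ 0 ∧ Wt E xv chi k μ
  Hp_onto : ∀ μ, μ ≠ 0 → ∃ k ∈ Hp, Wt E xv chi k μ
  Hp_faith : ∀ k ∈ Hp, (∀ s, k * E.xa s * k⁻¹ = E.xa s) → k = 1
  -- `Q₁`
  Q1_le : Q1 ≤ UU E
  U_Q1 : ∀ u ∈ UU E, ∀ g ∈ Q1, u * g * u⁻¹ ∈ Q1
  Hp_Q1 : ∀ k ∈ Hp, ∀ g ∈ Q1, k * g * k⁻¹ ∈ Q1
  b_not : E.xb 1 ∉ Q1
  a_mem : ∀ s, E.xa s ∈ Q1
  c_mem : ∀ y, E.xc y ∈ Q1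
  v_mem : ∀ v, xv v ∈ Q1
  v_Q : ∀ v, xv v ∈ E.Q
  U_split : ∀ g ∈ UU E, ∃ g1 ∈ Q1, ∃ r ∈ Xβ, g = g1 * r
  Xβ_U : ∀ r ∈ Xβ, r ∈ UU E
  rank1 : ∀ r ∈ Xβ, r = 1 ∨ ∃ u ∈ UU E, ∃ k ∈ Hp, ∃ u' ∈ UU E, nb * r * nb = u * k * nb * u'
  U_two : IsPGroup 2 (UU E)
  U_gen : UU E ≤ closure {g | ∃ k ∈ Hp, ∃ u ∈ UU E, g = k * u * k⁻¹ * u⁻¹}
  D_char : ∀ g ∈ Q1, (∀ u ∈ UU E, ∃ x, g * u * g⁻¹ = E.xz x * u) → ∃ x y, g = E.xz x * E.xc y
  cent_U : ∀ g ∈ UU E, (∀ x ∈ Q1, g * x = x * g) → ∃ x, g = E.xz x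
  cent_t : ∀ c, c * E.t = E.t * c → (∀ g ∈ Q1, c * g = g * c) → ∃ g ∈ Q1, c = g ∨ c = E.t * g
  -- coordinates
  pa_mul : ∀ g ∈ Q1, ∀ k ∈ Q1, pa (g * k) = pa g + pa k
  pv_mul : ∀ g ∈ Q1, ∀ k ∈ Q1, pv (g * k) = pv g + pv k
  pc_mul : ∀ g ∈ Q1, ∀ k ∈ Q1, pc (g * k) = pc g + pc k
  ker : ∀ g ∈ Q1, pa g = 0 → pv g = 0 → pc g = 0 → ∃ x, g = E.xz x
  pa_z : ∀ x, pa (E.xz x) = 0
  pv_z : ∀ x, pv (E.xz x) = 0
  pc_z : ∀ x, pc (E.xz x) = 0
  pa_a : ∀ s, pa (E.xa s) = s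
  pv_a : ∀ s, pv (E.xa s) = 0
  pc_a : ∀ s, pc (E.xa s) = 0
  pa_v : ∀ v, pa (xv v) = 0
  pv_v : ∀ v, pv (xv v) = v
  pc_v : ∀ v, pc (xv v) = 0
  pa_c : ∀ y, pa (E.xc y) = 0
  pv_c : ∀ y, pv (E.xc y) = 0
  pc_c : ∀ y, pc (E.xc y) = y

namespace Pre

variable {E : WEnv B G} {V : Type*} [AddCommGroup V] [Module F V] (S : Pre E V)

/-- The generators of `P`. -/
def genP : Set G := (UU E : Set G) ∪ {g | ∃ u ∈ UU E, g = S.nb * u * S.nb⁻¹} ∪ S.Hp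

/-- The group `P`. -/
def P : Subgroup G := closure S.genP

theorem nb_inv : S.nb⁻¹ = S.nb := WEnv.inv_of_sq S.nb_sq

theorem U_le : UU E ≤ S.P := fun _ hu => subset_closure (Or.inl (Or.inl hu))

theorem nU_le {u : G} (hu : u ∈ UU E) : S.nb * u * S.nb⁻¹ ∈ S.P :=
  subset_closure (Or.inl (Or.inr ⟨u, hu, rfl⟩))

theorem Hp_le : S.Hp ≤ S.P := fun _ hu => subset_closure (Or.inr hu)

theorem nb_mem : S.nb ∈ S.P :=
  (closure_mono (fun _ hg => Or.inl hg) : closure ((UU E : Set G) ∪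
    {g | ∃ u ∈ UU E, g = S.nb * u * S.nb⁻¹}) ≤ S.P) S.nb_gen

theorem T_U {k : G} (hk : k ∈ E.T) {u : G} (hu : u ∈ UU E) : k * u * k⁻¹ ∈ UU E := by
  obtain ⟨q, hq, s, rfl⟩ := hu
  obtain ⟨μ, ν, ha, -, -, -⟩ := E.T_act k hk
  refine ⟨k * q * k⁻¹, (E.T_Q k hk q).1 hq, μ * s, ?_⟩
  rw [← ha]; group

theorem T_P {k : G} (hk : k ∈ E.T) {g : G} (hg : g ∈ S.P) : k * g * k⁻¹ ∈ S.P := by
  have h1 : S.P ≤ S.P.comap (MulAut.conj k).toMonoidHom := by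
    unfold P
    rw [Subgroup.closure_le]
    rintro g ((hg | ⟨u, hu, rfl⟩) | hg)
    · exact S.U_le (T_U hk hg)
    · have hk' : S.nb⁻¹ * k * S.nb ∈ E.T := by
        have := S.nb_T k hk
        rwa [S.nb_inv] at this ⊢
      have h2 := S.nU_le (T_U hk' hu)
      have e : S.nb * (S.nb⁻¹ * k * S.nb * u * (S.nb⁻¹ * k * S.nb)⁻¹) * S.nb⁻¹ =
          k * (S.nb * u * S.nb⁻¹) * k⁻¹ := by group
      rw [e] at h2
      exact h2
    · have h2 : k * g * k⁻¹ = g := by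
        rw [E.T_comm k hk g (S.Hp_T hg), mul_inv_cancel_right]
      change k * g * k⁻¹ ∈ S.P
      rw [h2]
      exact S.Hp_le hg
  exact h1 hg

theorem P_t {g : G} (hg : g ∈ S.P) : E.t * g = g * E.t := by
  have hU : ∀ u ∈ UU E, E.t * u = u * E.t := by
    rintro _ ⟨q, hq, s, rfl⟩
    rw [← mul_assoc, E.t_Q q hq, mul_assoc, E.t_a, mul_assoc]
  have h1 : S.P ≤ centralizer ({E.t} : Set G) := by
    unfold P
    rw [Subgroup.closure_le]
    rintro g ((hg | ⟨u, hu, rfl⟩) | hg)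
    · exact mem_centralizer_singleton_iff.2 (hU g hg).symm
    · refine mem_centralizer_singleton_iff.2 ?_
      have h2 := S.t_nb
      have h3 : E.t * S.nb⁻¹ = S.nb⁻¹ * E.t := by rw [S.nb_inv, h2]
      calc S.nb * u * S.nb⁻¹ * E.t = S.nb * (u * E.t) * S.nb⁻¹ := by
            rw [mul_assoc, ← h3]; group
        _ = E.t * (S.nb * u * S.nb⁻¹) := by rw [← hU u hu, ← mul_assoc, ← h2]; group
    · exact mem_centralizer_singleton_iff.2 (E.T_t g (S.Hp_T hg)).symm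
  exact (mem_centralizer_singleton_iff.1 (h1 hg)).symm

theorem P_z {g : G} (hg : g ∈ S.P) (x : B.K) : E.xz x * g = g * E.xz x := by
  have hU : ∀ u ∈ UU E, E.xz x * u = u * E.xz x := by
    rintro _ ⟨q, hq, s, rfl⟩
    rw [← mul_assoc, E.z_Q x q hq, mul_assoc, E.z_a, mul_assoc]
  have h1 : S.P ≤ centralizer ({E.xz x} : Set G) := by
    unfold P
    rw [Subgroup.closure_le]
    rintro g ((hg | ⟨u, hu, rfl⟩) | hg)
    · exact mem_centralizer_singleton_iff.2 (hU g hg).symm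
    · refine mem_centralizer_singleton_iff.2 ?_
      have h2 : S.nb * E.xz x = E.xz x * S.nb := mul_inv_eq_iff_eq_mul.1 (S.nb_z x)
      have h3 : E.xz x * S.nb⁻¹ = S.nb⁻¹ * E.xz x := by rw [S.nb_inv, h2]
      calc S.nb * u * S.nb⁻¹ * E.xz x = S.nb * (u * E.xz x) * S.nb⁻¹ := by
            rw [mul_assoc, ← h3]; group
        _ = E.xz x * (S.nb * u * S.nb⁻¹) := by rw [← hU u hu, ← mul_assoc, h2]; group
    · exact mem_centralizer_singleton_iff.2 (mul_inv_eq_iff_eq_mul.1 (S.Hp_z g hg x))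
  exact (mem_centralizer_singleton_iff.1 (h1 hg)).symm

/-- `k` moved through `nb`. -/
theorem nb_k {k : G} (hk : k ∈ S.Hp) : ∃ k' ∈ S.Hp, S.nb * k = k' * S.nb :=
  ⟨_, S.nb_Hp k hk, by group⟩

/-- **Bruhat decomposition of `P`.** -/
theorem bruhat {g : G} (hg : g ∈ S.P) :
    (∃ u ∈ UU E, ∃ k ∈ S.Hp, g = u * k) ∨
      ∃ u ∈ UU E, ∃ k ∈ S.Hp, ∃ u' ∈ UU E, g = u * k * S.nb * u' := by
  -- the set is closed under left multiplication by `U`, `Hp`, `nb`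
  let X : G → Prop := fun g => (∃ u ∈ UU E, ∃ k ∈ S.Hp, g = u * k) ∨
      ∃ u ∈ UU E, ∃ k ∈ S.Hp, ∃ u' ∈ UU E, g = u * k * S.nb * u'
  have hU : ∀ u ∈ UU E, ∀ g, X g → X (u * g) := by
    rintro u hu _ (⟨v, hv, k, hk, rfl⟩ | ⟨v, hv, k, hk, v', hv', rfl⟩)
    · exact Or.inl ⟨u * v, mul_mem hu hv, k, hk, by group⟩
    · exact Or.inr ⟨u * v, mul_mem hu hv, k, hk, v', hv', by group⟩
  have hH : ∀ l ∈ S.Hp, ∀ g, X g → X (l * g) := by
    rintro l hl _ (⟨v, hv, k, hk, rfl⟩ | ⟨v, hv, k, hk, v', hv', rfl⟩)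
    · exact Or.inl ⟨l * v * l⁻¹, T_U (S.Hp_T hl) hv, l * k, mul_mem hl hk, by group⟩
    · exact Or.inr ⟨l * v * l⁻¹, T_U (S.Hp_T hl) hv, l * k, mul_mem hl hk, v', hv', by group⟩
  have hn : ∀ g, X g → X (S.nb * g) := by
    rintro _ (⟨v, hv, k, hk, rfl⟩ | ⟨v, hv, k, hk, v', hv', rfl⟩)
    · obtain ⟨k', hk', e⟩ := S.nb_k hk
      have hk1 : k⁻¹ ∈ E.T := inv_mem (S.Hp_T hk)
      refine Or.inr ⟨1, one_mem _, k', hk', k⁻¹ * v * k⁻¹⁻¹, T_U hk1 hv, ?_⟩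
      rw [one_mul, ← e]; group
    · obtain ⟨k', hk', e⟩ := S.nb_k hk
      have hk1 : k⁻¹ ∈ E.T := inv_mem (S.Hp_T hk)
      obtain ⟨g1, hg1, r, hr, e2⟩ := S.U_split _ (T_U hk1 hv)
      have e3 : S.nb * (v * k * S.nb * v') = k' * ((S.nb * g1 * S.nb⁻¹) * ((S.nb * r * S.nb) * v')) := by
        calc S.nb * (v * k * S.nb * v') = (S.nb * k) * (k⁻¹ * v * k⁻¹⁻¹) * S.nb * v' := by group
          _ = _ := by rw [e, e2]; group
      rw [e3]
      apply hH _ hk'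
      apply hU _ (S.Q1_le (S.nb_Q1 g1 hg1))
      rcases S.rank1 r hr with h1 | ⟨a, ha, l, hl, b, hb, h1⟩
      · rw [h1, mul_one, S.nb_sq, one_mul]
        exact Or.inl ⟨v', hv', 1, one_mem _, (mul_one _).symm⟩
      · rw [h1]
        exact Or.inr ⟨a, ha, l, hl, b * v', mul_mem hb hv', by group⟩
  have hninv : S.nb⁻¹ = S.nb := S.nb_inv
  have h1 : X 1 := Or.inl ⟨1, one_mem _, 1, one_mem _, by group⟩
  -- left multiplication by generators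
  refine Subgroup.closure_induction_left (p := fun g _ => X g) h1 ?_ ?_ hg
  · rintro x ((hx | ⟨u, hu, rfl⟩) | hx) y hy hXy
    · exact hU x hx _ hXy
    · rw [mul_assoc, mul_assoc, hninv]
      exact hn _ (hU u hu _ (hn _ hXy))
    · exact hH x hx _ hXy
  · rintro x ((hx | ⟨u, hu, rfl⟩) | hx) y hy hXy
    · exact hU _ (inv_mem hx) _ hXy
    · have e : (S.nb * u * S.nb⁻¹)⁻¹ * y = S.nb * (u⁻¹ * (S.nb * y)) := by
        rw [mul_inv_rev, mul_inv_rev, inv_inv, hninv]; group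
      rw [e]
      exact hn _ (hU _ (inv_mem hu) _ (hn _ hXy))
    · exact hH _ (inv_mem hx) _ hXy

/-- `nb` is not in `U Hp`. -/
theorem nb_not {u k : G} (hu : u ∈ UU E) (hk : k ∈ S.Hp) : S.nb ≠ u * k := by
  intro h
  -- `nb x_c(1) nb⁻¹ = x_a(1)`
  have h1 := S.nb_c 1
  rw [h] at h1
  obtain ⟨μ, hμ, hw⟩ := S.Hp_act k hk
  have h2 : u * k * E.xc 1 * (u * k)⁻¹ = u * (k * E.xc 1 * k⁻¹) * u⁻¹ := by group
  rw [h2, hw.c] at h1
  have h3 : E.xa 1 ∈ E.Q := by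
    rw [← h1]; exact Q_conj hu (E.c_mem _)
  exact one_ne_zero (a_Q h3)

theorem U_inf {g : G} (hg : g ∈ UU E) (h : S.nb⁻¹ * g * S.nb ∈ UU E) : g ∈ S.Q1 := by
  obtain ⟨g1, hg1, r, hr, rfl⟩ := S.U_split g hg
  rcases S.rank1 r hr with h1 | ⟨a, ha, l, hl, b, hb, h1⟩
  · rw [h1, mul_one]; exact hg1
  · exfalso
    have h2 : S.nb * r * S.nb ∈ UU E := by
      have h3 : S.nb * r * S.nb = (S.nb * g1 * S.nb⁻¹)⁻¹ * (S.nb⁻¹ * (g1 * r) * S.nb) := by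
        rw [S.nb_inv]
        have : S.nb * g1 * S.nb * (S.nb * (g1⁻¹ * (g1 * r)) * S.nb) =
          S.nb * g1 * (S.nb * S.nb) * (g1⁻¹ * (g1 * r)) * S.nb := by group
        calc S.nb * r * S.nb = S.nb * g1⁻¹ * (S.nb * S.nb) * (g1 * r) * S.nb := by
              rw [S.nb_sq]; group
          _ = (S.nb * g1 * S.nb⁻¹)⁻¹ * (S.nb * (g1 * r) * S.nb) := by
              rw [mul_inv_rev, mul_inv_rev, inv_inv, S.nb_inv]; group
          _ = _ := by rw [S.nb_inv]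
      rw [h3]
      exact mul_mem (inv_mem (S.Q1_le (S.nb_Q1 g1 hg1))) h
    rw [h1] at h2
    -- `nb ∈ U Hp`
    have hl' : l⁻¹ ∈ E.T := inv_mem (S.Hp_T hl)
    have h4 : S.nb = (l⁻¹ * (a⁻¹ * (a * l * S.nb * b) * b⁻¹) * l⁻¹⁻¹) * l⁻¹ := by group
    exact S.nb_not (T_U hl' (mul_mem (mul_mem (inv_mem ha) h2) (inv_mem hb))) (inv_mem hl) h4

theorem borel {g : G} (hg : g ∈ S.P) (h : ∀ u ∈ UU E, g * u * g⁻¹ ∈ UU E) [Finite G] :
    ∃ u ∈ UU E, ∃ k ∈ S.Hp, g = u * k := by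
  rcases S.bruhat hg with h1 | ⟨u, hu, k, hk, u', hu', rfl⟩
  · exact h1
  · exfalso
    -- `nb` normalises `U`
    have h2 : S.nb * E.xb 1 * S.nb⁻¹ ∈ UU E := by
      have hv : u'⁻¹ * E.xb 1 * u'⁻¹⁻¹ ∈ UU E :=
        mul_mem (mul_mem (inv_mem hu') (Q_le E (E.b_mem 1))) (inv_mem (inv_mem hu'))
      have h3 := h _ hv
      have hk' : k⁻¹ ∈ E.T := inv_mem (S.Hp_T hk)
      have h4 : k⁻¹ * (u⁻¹ * (u * k * S.nb * u' * (u'⁻¹ * E.xb 1 * u'⁻¹⁻¹) * (u * k * S.nb * u')⁻¹) * u) *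
          k⁻¹⁻¹ ∈ UU E := T_U hk' (mul_mem (mul_mem (inv_mem hu) h3) hu)
      have e : k⁻¹ * (u⁻¹ * (u * k * S.nb * u' * (u'⁻¹ * E.xb 1 * u'⁻¹⁻¹) * (u * k * S.nb * u')⁻¹) * u) *
          k⁻¹⁻¹ = S.nb * E.xb 1 * S.nb⁻¹ := by group
      rwa [e] at h4
    apply S.b_not
    apply S.U_inf (Q_le E (E.b_mem 1))
    rw [S.nb_inv] at h2 ⊢
    exact h2

theorem U_syl [Finite G] : IsSyl (UU E) S.P := by
  have : Fact (Nat.Prime 2) := ⟨Nat.prime_two⟩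
  refine ⟨S.U_le, S.U_two, fun X hX hXP hUX => ?_⟩
  by_contra hne
  have hlt : UU E < X := lt_of_le_of_ne hUX (Ne.symm hne)
  -- the normaliser condition
  have hnil : Group.IsNilpotent X := hX.isNilpotent
  have hlt' : (UU E).subgroupOf X < ⊤ := by
    rw [lt_top_iff_ne_top]
    intro h
    rw [Subgroup.subgroupOf_eq_top] at h
    exact absurd h (not_le_of_gt hlt)
  have h1 := normalizerCondition_of_isNilpotent _ hlt'
  obtain ⟨g, hg, hgU⟩ := SetLike.exists_of_lt h1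
  have hgn : ∀ u ∈ UU E, (g : G) * u * (g : G)⁻¹ ∈ UU E := by
    intro u hu
    have h2 : (⟨u, hUX hu⟩ : X) ∈ (UU E).subgroupOf X := mem_subgroupOf.2 hu
    have h3 := (mem_normalizer_iff.1 hg _).1 h2
    exact mem_subgroupOf.1 h3
  obtain ⟨u, hu, k, hk, e⟩ := S.borel (hXP g.2) hgn
  apply hgU
  rw [mem_subgroupOf]
  have hkX : k ∈ X := by
    have : k = u⁻¹ * g := by rw [e]; group
    rw [this]; exact mul_mem (inv_mem (hUX hu)) g.2
  obtain ⟨m, hm, hkm⟩ := E.T_odd k (S.Hp_T hk)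
  obtain ⟨r, hr⟩ := hX ⟨k, hkX⟩
  have hr' : k ^ 2 ^ r = 1 := congrArg Subtype.val hr
  have hk1 : k = 1 := by
    have h2 : orderOf k ∣ Nat.gcd m (2 ^ r) :=
      Nat.dvd_gcd (orderOf_dvd_of_pow_eq_one hkm) (orderOf_dvd_of_pow_eq_one hr')
    have h3 : Nat.gcd m (2 ^ r) = 1 := Nat.Coprime.pow_right r (Nat.coprime_two_right.2 hm)
    rw [h3, Nat.dvd_one, orderOf_eq_one_iff] at h2
    exact h2
  rw [e, hk1, mul_one]
  exact hu

theorem P_odd : S.P ≤ closure {g | g ∈ S.P ∧ ∃ m, Odd m ∧ g ^ m = 1} := by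
  set C := closure {g | g ∈ S.P ∧ ∃ m, Odd m ∧ g ^ m = 1} with hC
  have conj_pow_one : ∀ (a b : G) (m : ℕ), b ^ m = 1 → (a * b * a⁻¹) ^ m = 1 := by
    intro a b m h
    rw [conj_pow, h, mul_one, mul_inv_cancel]
  have hU0 : ∀ n ∈ S.P, ∀ u ∈ UU E, n * u * n⁻¹ ∈ C := by
    intro n hnP u hu
    have h1 : UU E ≤ C.comap (MulAut.conj n).toMonoidHom := by
      refine S.U_gen.trans ?_
      rw [Subgroup.closure_le]
      rintro _ ⟨k, hk, v, hv, rfl⟩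
      change n * (k * v * k⁻¹ * v⁻¹) * n⁻¹ ∈ C
      obtain ⟨m, hm, hkm⟩ := E.T_odd k (S.Hp_T hk)
      have e : n * (k * v * k⁻¹ * v⁻¹) * n⁻¹ = (n * k * n⁻¹) * ((n * v) * k⁻¹ * (n * v)⁻¹) := by group
      rw [e]
      refine mul_mem (subset_closure ⟨mul_mem (mul_mem hnP (S.Hp_le hk)) (inv_mem hnP), m, hm, ?_⟩)
        (subset_closure ⟨mul_mem (mul_mem (mul_mem hnP (S.U_le hv)) (inv_mem (S.Hp_le hk)))
          (inv_mem (mul_mem hnP (S.U_le hv))), m, hm, ?_⟩)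
      · exact conj_pow_one _ _ _ hkm
      · exact conj_pow_one _ _ _ (by rw [inv_pow, hkm, inv_one])
    exact h1 hu
  unfold P
  rw [Subgroup.closure_le]
  rintro g ((hg | ⟨u, hu, rfl⟩) | hg)
  · have := hU0 1 (one_mem _) g hg
    rwa [one_mul, inv_one, mul_one] at this
  · exact hU0 _ S.nb_mem u hu
  · obtain ⟨m, hm, hkm⟩ := E.T_odd g (S.Hp_T hg)
    exact subset_closure ⟨S.Hp_le hg, m, hm, hkm⟩

theorem Q1_P {p : G} (hp : p ∈ S.P) {g : G} (hg : g ∈ S.Q1) [Finite G] : p * g * p⁻¹ ∈ S.Q1 := by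
  have h1 : S.P ≤ normalizer (S.Q1 : Set G) := by
    unfold P
    rw [Subgroup.closure_le]
    have hn : S.nb ∈ normalizer (S.Q1 : Set G) := mem_normalizer_of_conj_le S.nb_Q1
    rintro x ((hx | ⟨u, hu, rfl⟩) | hx)
    · exact mem_normalizer_of_conj_le (S.U_Q1 x hx)
    · exact mul_mem (mul_mem hn (mem_normalizer_of_conj_le (S.U_Q1 u hu))) (inv_mem hn)
    · exact mem_normalizer_of_conj_le (S.Hp_Q1 x hx)
  exact conj_mem_of_mem_normalizer (h1 hp) hg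

theorem cent_Q1 {g : G} (hg : g ∈ S.P) (h : ∀ x ∈ S.Q1, g * x = x * g) : ∃ x, g = E.xz x := by
  rcases S.bruhat hg with ⟨u, hu, k, hk, rfl⟩ | ⟨u, hu, k, hk, u', hu', rfl⟩
  · obtain ⟨μ, hμ, hw⟩ := S.Hp_act k hk
    have hk1 : ∀ s, E.xa (μ * s) = E.xa s := by
      intro s
      have h1 := h _ (S.a_mem s)
      have h2 : u * (k * E.xa s * k⁻¹) * u⁻¹ = E.xa s := by
        calc u * (k * E.xa s * k⁻¹) * u⁻¹ = (u * k * E.xa s) * (u * k)⁻¹ := by group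
          _ = _ := by rw [h1]; group
      rw [hw.a] at h2
      obtain ⟨q, hq, h3⟩ := a_conj hu (μ * s)
      rw [h3] at h2
      have h4 := a_coord hq (one_mem E.Q) (h2.trans (one_mul _).symm)
      rw [h4]
    have hkk : k = 1 := S.Hp_faith k hk (fun s => by rw [hw.a, hk1])
    rw [hkk, mul_one] at h ⊢
    exact S.cent_U u hu h
  · exfalso
    obtain ⟨μ, hμ, hw⟩ := S.Hp_act k hk
    have h1 := h _ (S.c_mem 1)
    have h2 : u * k * S.nb * (u' * E.xc 1 * u'⁻¹) * (u * k * S.nb)⁻¹ = E.xc 1 := by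
      calc u * k * S.nb * (u' * E.xc 1 * u'⁻¹) * (u * k * S.nb)⁻¹ =
          (u * k * S.nb * u' * E.xc 1) * (u * k * S.nb * u')⁻¹ := by group
        _ = _ := by rw [h1]; group
    obtain ⟨q, hq, s, rfl⟩ := hu'
    rw [SeedEnv.conj_c_form hq] at h2
    have h3 : u * k * S.nb * (E.xz (B.tr (s * B.s 1)) * E.xc 1) * (u * k * S.nb)⁻¹ =
        u * ((k * (S.nb * E.xz (B.tr (s * B.s 1)) * S.nb⁻¹) * k⁻¹) *
          (k * (S.nb * E.xc 1 * S.nb⁻¹) * k⁻¹)) * u⁻¹ := by group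
    rw [h3, S.nb_z, S.nb_c, S.Hp_z k hk, hw.a] at h2
    have h4 : E.xz (B.tr (s * B.s 1)) * E.xa (μ * 1) = u⁻¹ * E.xc 1 * u⁻¹⁻¹ := by
      rw [← h2]; group
    have h5 : E.xz (B.tr (s * B.s 1)) * E.xa (μ * 1) ∈ E.Q := by
      rw [h4]; exact Q_conj (inv_mem hu) (E.c_mem 1)
    have h6 : E.xa (μ * 1) ∈ E.Q := by
      have := mul_mem (inv_mem (E.z_mem (B.tr (s * B.s 1)))) h5
      rwa [inv_mul_cancel_left] at this
    have h7 := a_Q h6
    rw [mul_one] at h7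
    exact hμ h7

/-- **The `SeedEnv` of the primitive data.** -/
def toSeedEnv [Finite G] : SeedEnv E V where
  P := S.P
  Q1 := S.Q1
  U := UU E
  Hp := S.Hp
  nb := S.nb
  chi := S.chi
  xv := S.xv
  pa := S.pa
  pv := S.pv
  pc := S.pc
  chi_eq := S.chi_eq
  V_gen := S.V_gen
  P_odd := S.P_odd
  P_t := fun _ hg => S.P_t hg
  P_z := fun _ hg x => S.P_z hg x
  T_P := fun _ hk _ hg => S.T_P hk hg
  cent_P := by
    intro c hc h
    have hQ : ∀ g ∈ S.Q1, c * g = g * c := fun g hg => h g (S.U_le (S.Q1_le hg))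
    obtain ⟨g, hg, h1⟩ := S.cent_t c hc hQ
    have h2 : ∀ x ∈ S.Q1, g * x = x * g := by
      intro x hx
      rcases h1 with h1 | h1
      · rw [← h1]; exact hQ x hx
      · have h3 : g = E.t * c := by rw [h1, ← mul_assoc, E.t_sq, one_mul]
        rw [h3, mul_assoc, hQ x hx, ← mul_assoc, S.P_t (S.U_le (S.Q1_le hx)), mul_assoc]
    obtain ⟨x, hx⟩ := S.cent_U g (S.Q1_le hg) h2
    exact ⟨x, by rw [← hx]; exact h1⟩
  U_syl := S.U_syl
  nb_mem := S.nb_mem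
  U_inf := fun _ hg h => S.U_inf hg h
  Q1_le := S.Q1_le
  Q1_P := fun _ hp _ hg => S.Q1_P hp hg
  T_U := fun _ hk _ hu => T_U hk hu
  U_form := fun _ hg => hg
  Q_le := Q_le E
  a_mem := S.a_mem
  c_mem := S.c_mem
  v_mem := S.v_mem
  v_Q := S.v_Q
  D_char := S.D_char
  cent_Q1 := fun _ hg h => S.cent_Q1 hg h
  Hp_T := S.Hp_T
  Hp_P := S.Hp_le
  Hp_act := S.Hp_act
  Hp_onto := S.Hp_onto
  borel := fun _ hg h => S.borel hg h
  pa_mul := S.pa_mul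
  pv_mul := S.pv_mul
  pc_mul := S.pc_mul
  ker := S.ker
  pa_z := S.pa_z
  pv_z := S.pv_z
  pc_z := S.pc_z
  pa_a := S.pa_a
  pv_a := S.pv_a
  pc_a := S.pc_a
  pa_v := S.pa_v
  pv_v := S.pv_v
  pc_v := S.pc_v
  pa_c := S.pa_c
  pv_c := S.pv_c
  pc_c := S.pc_c

end Pre

end Cfsg.Agent.StdRank2.UFour.SeedPre
end

-- part: StdRank2/UFour/SeedOdd
section
/-!
# The seed, part 5: the odd elements of `C(⟨t⟩ X_z)` (type `U₄(q)`)

`odd_mem`: if `P` is normal in `C(⟨t⟩ X_z)` and the elements of `N` which centralise `⟨t⟩ X_z` and are trivial on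
`X_a` modulo `C(X_c)` are in `⟨t⟩ P`, then the elements of odd order of `C(⟨t⟩ X_z)` are in `P`; so `N(⟨t⟩ X_z)`
normalises `P`.
-/

set_option autoImplicit false
set_option linter.unusedSectionVars false

namespace Cfsg.Agent.StdRank2.UFour.SeedOdd

open Subgroup
open Cfsg.Agent.StdEven.Syl
open Cfsg.Agent.StdRank2.UFour.Seeding Cfsg.Agent.StdRank2.UFour.Seeding.SeedEnv
open Cfsg.Agent.StdRank2.UFour.SeedMove

variable {F : Type*} [Field F] [CharP F 2] {B : Bar F} {G : Type*} [Group G]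

/-- the group `⟨t⟩ X_z`. -/
def TZ (E : WEnv B G) : Subgroup G where
  carrier := {g | ∃ x, g = E.xz x ∨ g = E.xz x * E.t}
  mul_mem' := by
    rintro _ _ ⟨x, rfl | rfl⟩ ⟨y, rfl | rfl⟩
    · exact ⟨x + y, Or.inl (by rw [E.xz_add])⟩
    · exact ⟨x + y, Or.inr (by rw [E.xz_add]; group)⟩
    · refine ⟨x + y, Or.inr ?_⟩
      rw [E.xz_add, mul_assoc, E.t_z]; group
    · refine ⟨x + y, Or.inl ?_⟩
      have h1 := E.t_z y
      rw [E.xz_add, mul_assoc, ← mul_assoc E.t, h1, mul_assoc (E.xz y), E.t_sq, mul_one]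
  one_mem' := ⟨0, Or.inl E.xz_zero.symm⟩
  inv_mem' := by
    rintro _ ⟨x, rfl | rfl⟩
    · exact ⟨x, Or.inl (WEnv.inv_of_sq (E.xz_sq x))⟩
    · refine ⟨x, Or.inr ?_⟩
      rw [mul_inv_rev, E.t_inv, WEnv.inv_of_sq (E.xz_sq x), E.t_z]

theorem t_mem (E : WEnv B G) : E.t ∈ TZ E := ⟨0, Or.inr (by rw [E.xz_zero, one_mul])⟩

theorem z_mem' (E : WEnv B G) (x : B.K) : E.xz x ∈ TZ E := ⟨x, Or.inl rfl⟩

variable {E : WEnv B G} {V : Type*} [AddCommGroup V] [Module F V] (S : SeedEnv E V)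

/-- The square of an element of `N` centralising `Z` acts as a scalar on `X_a`. -/
theorem scalar {n : G} (hn : n ∈ S.N) (hz : ∀ x, n * E.xz x * n⁻¹ = E.xz x) :
    ∃ a : F, a ≠ 0 ∧ ∀ g ∈ S.Q1, S.pa (n * (n * g * n⁻¹) * n⁻¹) = a * S.pa g := by
  have h2 : ∀ a : F, a + a = 0 := fun a => CharTwo.add_self_eq_zero a
  let ν : F → F := fun s => S.pa (n * E.xa s * n⁻¹)
  have hν : ∀ g ∈ S.Q1, S.pa (n * g * n⁻¹) = ν (S.pa g) := fun g hg =>
    N_pa_congr hn hg (S.a_mem _) (S.pa_a _).symm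
  choose x0 ga hga using fun y => N_c hn y
  have rel : ∀ s y, B.tr (s * B.s y) = B.tr (ν s * B.s (ga y)) := fun s y =>
    N_rel hn (hga y) (hz _)
  have ν_add : ∀ s s', ν (s + s') = ν s + ν s' := by
    intro s s'
    change S.pa (n * E.xa (s + s') * n⁻¹) = S.pa (n * E.xa s * n⁻¹) + S.pa (n * E.xa s' * n⁻¹)
    rw [← S.pa_mul _ (N_Q1 hn (S.a_mem s)) _ (N_Q1 hn (S.a_mem s')), E.xa_add]
    congr 1; group
  have hν0 : ∀ s, ν s = 0 → s = 0 := by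
    intro s hs
    apply tr_nondeg (B := B)
    intro y
    rw [rel, hs, zero_mul, B.tr_zero]
  have hτ : ∀ μ : F, μ ≠ 0 → ∃ τ : F, τ ≠ 0 ∧ ∀ s, ν (μ * s) = τ * ν s := fun μ hμ => tau S hn hμ
  have ha : ν 1 ≠ 0 := fun h => one_ne_zero (hν0 1 h)
  -- the automorphism `σ`
  let σ : F → F := fun x => ν x * (ν 1)⁻¹
  have hνσ : ∀ x, ν x = σ x * ν 1 := by
    intro x
    change ν x = ν x * (ν 1)⁻¹ * ν 1
    rw [mul_assoc, inv_mul_cancel₀ ha, mul_one]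
  have σ_add : ∀ x y, σ (x + y) = σ x + σ y := by
    intro x y
    change ν (x + y) * (ν 1)⁻¹ = ν x * (ν 1)⁻¹ + ν y * (ν 1)⁻¹
    rw [ν_add, add_mul]
  have ν_zero : ν 0 = 0 := by
    have := ν_add 0 0
    rw [add_zero] at this
    exact left_eq_add.1 this
  have σ_mul : ∀ x y, σ (x * y) = σ x * σ y := by
    intro x y
    by_cases hx : x = 0
    · subst hx
      change ν (0 * y) * (ν 1)⁻¹ = ν 0 * (ν 1)⁻¹ * σ y
      rw [zero_mul, ν_zero]; ring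
    · obtain ⟨τ, hτ0, hτl⟩ := hτ x hx
      have e1 : σ x = τ := by
        change ν x * (ν 1)⁻¹ = τ
        have := hτl 1
        rw [mul_one] at this
        rw [this, mul_assoc, mul_inv_cancel₀ ha, mul_one]
      rw [e1]
      change ν (x * y) * (ν 1)⁻¹ = τ * (ν y * (ν 1)⁻¹)
      rw [hτl, mul_assoc]
  -- `σ` is trivial on `K`
  have tr0 : ∀ x : F, B.tr x = 0 → x ∈ B.K := by
    intro x hx
    have h1 : x + B.s x = 0 := congrArg Subtype.val hx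
    rw [B.mem_K]
    linear_combination h1 - h2 x
  have trK : ∀ k : B.K, B.tr (ν k * B.s (ga 1)) = 0 := by
    intro k
    rw [← rel, map_one, mul_one, B.tr_K]
  have he : ν 1 * B.s (ga 1) ∈ B.K := tr0 _ (by
    have := trK 1
    simpa using this)
  have hg1 : ga 1 ≠ 0 := by
    intro h
    obtain ⟨x, hx⟩ := B.tr_surj 1
    have h1 := rel x 1
    rw [map_one, mul_one, hx, h, map_zero, mul_zero, B.tr_zero] at h1
    exact one_ne_zero h1
  have hgs : B.s (ga 1) ≠ 0 := (map_ne_zero_iff B.s B.s.injective).2 hg1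
  have σ_K : ∀ k : B.K, σ k = k := by
    intro k
    by_cases hk : k = 0
    · subst hk
      change ν ((0 : B.K) : F) * (ν 1)⁻¹ = ((0 : B.K) : F)
      have : ((0 : B.K) : F) = 0 := rfl
      rw [this, ν_zero, zero_mul]
    have hk' : (k : F) ≠ 0 := fun h => hk (Subtype.ext h)
    obtain ⟨τ, hτ0, hτl⟩ := hτ k hk'
    have e1 : σ k = τ := by
      change ν k * (ν 1)⁻¹ = τ
      have := hτl 1
      rw [mul_one] at this
      rw [this, mul_assoc, mul_inv_cancel₀ ha, mul_one]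
    have hτK : τ ∈ B.K := by
      have h1 := trK k
      have h3 : ν (k : F) = τ * ν 1 := by
        have := hτl 1
        rwa [mul_one] at this
      rw [h3] at h1
      have h4 := tr0 _ h1
      have h5 : τ = (τ * ν 1 * B.s (ga 1)) * (ν 1 * B.s (ga 1))⁻¹ := by
        field_simp
      rw [h5]
      exact mul_mem h4 (inv_mem he)
    obtain ⟨s, hs⟩ := B.tr_surj 1
    have h6 := rel (k * s) 1
    rw [hτl, map_one, mul_one, B.tr_K_mul, hs, mul_one, mul_assoc] at h6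
    have h7 : B.tr (τ * (ν s * B.s (ga 1))) = (⟨τ, hτK⟩ : B.K) * B.tr (ν s * B.s (ga 1)) :=
      B.tr_K_mul _ ⟨τ, hτK⟩
    rw [h7, ← rel, map_one, mul_one, hs, mul_one] at h6
    rw [e1, h6]
  have σσ : ∀ x, σ (σ x) = x := by
    intro x
    have h3 : x * x + ((B.tr x : B.K) : F) * x + ((B.nm x : B.K) : F) = 0 := by
      rw [B.coe_tr, B.coe_nm]
      linear_combination h2 (x * x) + h2 (x * B.s x)
    have h4 := congrArg σ h3
    rw [σ_add, σ_add, σ_mul, σ_mul, σ_K, σ_K] at h4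
    have σ0 : σ 0 = 0 := σ_K 0
    rw [σ0, B.coe_tr, B.coe_nm] at h4
    have h5 : (σ x + x) * (σ x + B.s x) = 0 := by linear_combination h4
    rcases mul_eq_zero.1 h5 with h6 | h6
    · have h7 : σ x = x := by linear_combination h6 - h2 x
      rw [h7, h7]
    · have h7 : σ x = B.s x := by linear_combination h6 - h2 (B.s x)
      have h8 : B.s x = x + ((B.tr x : B.K) : F) := by
        rw [B.coe_tr]; linear_combination -(h2 x)
      rw [h7]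
      conv_lhs => rw [h8]
      rw [σ_add, σ_K, h7, B.coe_tr]
      linear_combination h2 (B.s x)
  refine ⟨σ (ν 1) * ν 1, ?_, fun g hg => ?_⟩
  · apply mul_ne_zero _ ha
    intro h
    have := σσ (ν 1)
    rw [h, show σ 0 = 0 from σ_K 0] at this
    exact ha this.symm
  · rw [hν _ (N_Q1 hn hg), hν _ hg, hνσ, hνσ (S.pa g), σ_mul, σσ]
    ring

/-- the elements of odd order of `C(⟨t⟩ Z)` are in `P`. -/
theorem odd_mem [Finite G]
    (normP : ∀ c, c * E.t = E.t * c → (∀ x, c * E.xz x = E.xz x * c) → ∀ g ∈ S.P, c * g * c⁻¹ ∈ S.P)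
    (hcent : ∀ m ∈ S.N, m * E.t = E.t * m → (∀ x, m * E.xz x = E.xz x * m) →
      (∀ g ∈ S.Q1, S.pa (m * g * m⁻¹) = S.pa g) →
      (∀ y, ∃ x, m * E.xc y * m⁻¹ = E.xz x * E.xc y) → m ∈ S.P ∨ E.t * m ∈ S.P)
    {g : G} {k : ℕ} (hk : Odd k) (hgk : g ^ k = 1) (hgt : g * E.t = E.t * g)
    (hgz : ∀ x, g * E.xz x = E.xz x * g) : g ∈ S.P := by
  obtain ⟨p, hp, hn⟩ := exists_mul_mem_N S (normP g hgt hgz)
  have hpt : p * E.t = E.t * p := (S.P_t p hp).symm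
  have hpz : ∀ x, p * E.xz x = E.xz x * p := fun x => (S.P_z p hp x).symm
  have hnt : (p * g) * E.t = E.t * (p * g) := by rw [mul_assoc, hgt, ← mul_assoc, hpt, mul_assoc]
  have hnz : ∀ x, (p * g) * E.xz x = E.xz x * (p * g) := fun x => by
    rw [mul_assoc, hgz, ← mul_assoc, hpz, mul_assoc]
  obtain ⟨a, ha, hsc⟩ := scalar S hn (fun x => mul_inv_eq_iff_eq_mul.2 (hnz x))
  obtain ⟨l, hl, hw⟩ := S.Hp_onto a⁻¹ (inv_ne_zero ha)
  have hlP : l ∈ S.P := S.Hp_P hl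
  have hlN : l ∈ S.N := T_le_N S (S.Hp_T hl)
  set n := p * g with hndef
  have hmN : l * (n * n) ∈ S.N := mul_mem hlN (mul_mem hn hn)
  have hlt : l * E.t = E.t * l := (S.P_t l hlP).symm
  have hlz : ∀ x, l * E.xz x = E.xz x * l := fun x => (S.P_z l hlP x).symm
  have hmt : l * (n * n) * E.t = E.t * (l * (n * n)) := by
    rw [mul_assoc, mul_assoc n, hnt, ← mul_assoc n, hnt, mul_assoc E.t n n, ← mul_assoc l, hlt]
    group
  have hmz : ∀ x, l * (n * n) * E.xz x = E.xz x * (l * (n * n)) := by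
    intro x
    rw [mul_assoc, mul_assoc n, hnz, ← mul_assoc n, hnz, mul_assoc (E.xz x) n n, ← mul_assoc l, hlz]
    group
  have hma : ∀ q ∈ S.Q1, S.pa (l * (n * n) * q * (l * (n * n))⁻¹) = S.pa q := by
    intro q hq
    have e : l * (n * n) * q * (l * (n * n))⁻¹ = l * (n * (n * q * n⁻¹) * n⁻¹) * l⁻¹ := by group
    have m1 : n * (n * q * n⁻¹) * n⁻¹ ∈ S.Q1 := N_Q1 hn (N_Q1 hn hq)
    have h1 := SeedEnd.co_conj_H S hl hw m1
    have h2 : S.pa (l * (n * (n * q * n⁻¹) * n⁻¹) * l⁻¹) = a⁻¹ * S.pa (n * (n * q * n⁻¹) * n⁻¹) :=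
      congrArg Prod.fst h1
    rw [e, h2, hsc q hq, ← mul_assoc, inv_mul_cancel₀ ha, one_mul]
  have hmc := triv_c S hmN (fun x => mul_inv_eq_iff_eq_mul.2 (hmz x)) hma
  have h1 := hcent _ hmN hmt hmz hma hmc
  -- `g * g ∈ ⟨t⟩ P`
  have hpg : g * p * g⁻¹ ∈ S.P := normP g hgt hgz p hp
  have e : g * g = (l * p * (g * p * g⁻¹))⁻¹ * (l * (n * n)) := by rw [hndef]; group
  have hq : l * p * (g * p * g⁻¹) ∈ S.P := mul_mem (mul_mem hlP hp) hpg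
  have h2 : g * g ∈ S.P ∨ E.t * (g * g) ∈ S.P := by
    rcases h1 with h1 | h1
    · left; rw [e]; exact mul_mem (inv_mem hq) h1
    · right
      rw [e, ← mul_assoc, S.P_t _ (inv_mem hq), mul_assoc]
      exact mul_mem (inv_mem hq) h1
  -- `g ∈ ⟨t⟩ P`
  obtain ⟨r, rfl⟩ := hk
  have e2 : g = (g * g) ^ (r + 1) := by
    have h3 : (g * g) ^ (r + 1) = g ^ (2 * r + 1) * g := by
      rw [← pow_two, ← pow_mul, ← pow_succ]; congr 1
    rw [h3, hgk, one_mul]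
  have htg : Commute E.t (g * g) := by
    have : Commute E.t g := hgt.symm
    exact this.mul_right this
  have h3 : g ∈ S.P ∨ E.t * g ∈ S.P := by
    rcases h2 with h2 | h2
    · left; rw [e2]; exact pow_mem h2 _
    · have h4 := pow_mem h2 (r + 1)
      rw [htg.mul_pow, ← e2] at h4
      rcases Nat.even_or_odd (r + 1) with ⟨c, hc⟩ | ⟨c, hc⟩
      · left
        rw [hc, ← two_mul, pow_mul, pow_two, E.t_sq, one_pow, one_mul] at h4
        exact h4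
      · right
        rw [hc, pow_succ, pow_mul, pow_two, E.t_sq, one_pow, one_mul] at h4
        exact h4
  rcases h3 with h3 | h3
  · exact h3
  · -- `t ∈ P`
    have h4 := pow_mem h3 (2 * r + 1)
    have hc : Commute E.t g := hgt.symm
    rw [hc.mul_pow, hgk, mul_one, pow_succ, pow_mul, pow_two, E.t_sq, one_pow, one_mul] at h4
    have h5 := mul_mem h4 h3
    rwa [← mul_assoc, E.t_sq, one_mul] at h5

/-- so `N(⟨t⟩ Z)` normalises `P`. -/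
theorem normP_of_odd [Finite G]
    (hodd : ∀ g : G, (∃ k, Odd k ∧ g ^ k = 1) → g * E.t = E.t * g →
      (∀ x, g * E.xz x = E.xz x * g) → g ∈ S.P)
    {n : G} (hn : n ∈ normalizer (TZ E : Set G)) : ∀ g ∈ S.P, n * g * n⁻¹ ∈ S.P := by
  have comm : ∀ a ∈ TZ E, ∀ g ∈ S.P, g * a = a * g := by
    rintro a ⟨x, rfl | rfl⟩ g hg
    · exact (S.P_z g hg x).symm
    · rw [← mul_assoc, ← S.P_z g hg x, mul_assoc, ← S.P_t g hg, mul_assoc]
  have comm' : ∀ a ∈ TZ E, ∀ g ∈ S.P, (n * g * n⁻¹) * a = a * (n * g * n⁻¹) := by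
    intro a ha g hg
    have h1 := comm _ (conj_inv_mem_of_mem_normalizer hn ha) g hg
    calc n * g * n⁻¹ * a = n * (g * (n⁻¹ * a * n)) * n⁻¹ := by group
      _ = _ := by rw [h1]; group
  have h1 : S.P ≤ S.P.comap (MulAut.conj n).toMonoidHom := by
    refine S.P_odd.trans ?_
    rw [Subgroup.closure_le]
    rintro g ⟨hg, k, hk, hgk⟩
    change n * g * n⁻¹ ∈ S.P
    refine hodd _ ⟨k, hk, ?_⟩ (comm' _ (t_mem E) g hg) (fun x => comm' _ (z_mem' E x) g hg)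
    rw [conj_pow, hgk, mul_one, mul_inv_cancel]
  exact fun g hg => h1 hg

end Cfsg.Agent.StdRank2.UFour.SeedOdd
end
end

-- part: StdRank2/UFive/Class
section
prune_inst 0x1000000022000800002504000000000000000000000000c00000000040400000620000000010000010081020000000011000000200000000000400000401000080000000400000000090000000000000000000000000000000000000000000000000000
set_option linter.all false
open scoped Cfsg.Agent.FastGrp

-- part: StdRank2/UFive/NOne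
section
/-!
# The group `N₁` over `Q₁` (type `U₅(q)`)

`N₁ = {n | [n, Ẑ] = 1, [n, Q₁] ≤ Ẑ, [n, t] ∈ Ẑ Q₁}`; `N₁ / Ẑ` is elementary abelian, the elements of `N₁` moving `t`
inside `Ẑ t` are in `Ẑ Q₁`.
-/

set_option autoImplicit false
set_option linter.unusedSectionVars false

namespace Cfsg.Agent.StdRank2.UFive

open Subgroup Cfsg.Agent.StdRank2.UFour

variable {F : Type*} [Field F] [CharP F 2] {B : Bar F} {G : Type*} [Group G]

section conj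

theorem cm (n a b : G) : n * (a * b) * n⁻¹ = (n * a * n⁻¹) * (n * b * n⁻¹) := by group

theorem mc (m n g : G) : (m * n) * g * (m * n)⁻¹ = m * (n * g * n⁻¹) * m⁻¹ := by group

theorem ci (n a : G) : n * a⁻¹ * n⁻¹ = (n * a * n⁻¹)⁻¹ := by group

theorem c1 (n : G) : n * 1 * n⁻¹ = 1 := by group

theorem conj_of_comm {n g : G} (h : n * g = g * n) : n * g * n⁻¹ = g := by rw [h]; group

theorem comm_of_conj {n g : G} (h : n * g * n⁻¹ = g) : n * g = g * n := mul_inv_eq_iff_eq_mul.1 h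

theorem comm_inv {n g : G} (h : n * g = g * n) : n⁻¹ * g = g * n⁻¹ := by
  calc n⁻¹ * g = n⁻¹ * (g * n) * n⁻¹ := by group
    _ = n⁻¹ * (n * g) * n⁻¹ := by rw [h]
    _ = g * n⁻¹ := by group

theorem comm_mul {n g h : G} (h1 : n * g = g * n) (h2 : n * h = h * n) : n * (g * h) = g * h * n := by
  rw [← mul_assoc, h1, mul_assoc, h2, mul_assoc]

end conj

namespace Env

variable (E : Env B G)

/-- elements of `Q₁` -/
def q1 (q : Tp B) (x s : F) : G := E.p1 q * E.xc x * E.xa s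

theorem p1_one : E.p1 1 = 1 := by
  have := E.p1_mul 1 1
  rw [mul_one] at this
  exact left_eq_mul.1 this

theorem p2_one : E.p2 1 = 1 := by
  have := E.p2_mul 1 1
  rw [mul_one] at this
  exact left_eq_mul.1 this

theorem p1_inv (q : Tp B) : (E.p1 q)⁻¹ = E.p1 q⁻¹ := by
  symm
  apply eq_inv_of_mul_eq_one_left
  rw [← E.p1_mul, inv_mul_cancel, p1_one]

theorem p2_inv (q : Tp B) : (E.p2 q)⁻¹ = E.p2 q⁻¹ := by
  symm
  apply eq_inv_of_mul_eq_one_left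
  rw [← E.p2_mul, inv_mul_cancel, p2_one]

theorem p1_memQ (q : Tp B) : E.p1 q ∈ E.Q := (E.mem_Q _).2 ⟨q, 0, 1, by
  rw [E.toWEnv.xc_zero, E.p2_one, mul_one, mul_one]⟩
theorem p2_memQ (q : Tp B) : E.p2 q ∈ E.Q := (E.mem_Q _).2 ⟨1, 0, q, by
  rw [E.toWEnv.xc_zero, E.p1_one, one_mul, one_mul]⟩

theorem c_1 (x : F) (q : Tp B) : E.xc x * E.p1 q = E.p1 q * E.xc x := E.c_Q x _ (E.p1_memQ q)
theorem c_2 (x : F) (q : Tp B) : E.xc x * E.p2 q = E.p2 q * E.xc x := E.c_Q x _ (E.p2_memQ q)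

theorem a_c' (s x : F) : E.xa s * E.xc x = E.xc x * E.p1 (Tp.ofK (B.tr (s * B.s x))) * E.xa s := by
  have h := E.a_c s x
  rw [← E.p1_K] at h
  rw [E.c_1, ← h]
  group

theorem q1_mul (q : Tp B) (x s : F) (q' : Tp B) (x' s' : F) :
    E.q1 q x s * E.q1 q' x' s' =
      E.q1 (q * q' * Tp.ofK (B.tr (s * B.s x'))) (x + x') (s + s') := by
  unfold q1
  calc E.p1 q * E.xc x * E.xa s * (E.p1 q' * E.xc x' * E.xa s')
      = E.p1 q * E.xc x * (E.xa s * E.p1 q') * E.xc x' * E.xa s' := by group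
    _ = E.p1 q * (E.xc x * E.p1 q') * (E.xa s * E.xc x') * E.xa s' := by rw [E.a_1]; group
    _ = E.p1 q * (E.p1 q' * E.xc x) * (E.xc x' * E.p1 (Tp.ofK (B.tr (s * B.s x'))) * E.xa s) *
        E.xa s' := by rw [E.a_c', E.c_1]
    _ = E.p1 q * E.p1 q' * (E.xc x * E.xc x' * E.p1 (Tp.ofK (B.tr (s * B.s x')))) *
        (E.xa s * E.xa s') := by group
    _ = E.p1 q * E.p1 q' * (E.xc (x + x') * E.p1 (Tp.ofK (B.tr (s * B.s x')))) *
        (E.xa s * E.xa s') := by rw [E.xc_add]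
    _ = _ := by
        rw [E.c_1, ← E.xa_add, ← mul_assoc, E.p1_mul, E.p1_mul]

/-- `Q₁` -/
def Q1 : Subgroup G where
  carrier := {g | ∃ q x s, g = E.q1 q x s}
  mul_mem' := by
    rintro _ _ ⟨q, x, s, rfl⟩ ⟨q', x', s', rfl⟩
    exact ⟨_, _, _, E.q1_mul _ _ _ _ _ _⟩
  one_mem' := ⟨1, 0, 0, by
    unfold q1; rw [E.p1_one, E.toWEnv.xc_zero, E.toWEnv.xa_zero]; simp⟩
  inv_mem' := by
    rintro _ ⟨q, x, s, rfl⟩
    refine ⟨q⁻¹ * Tp.ofK (B.tr (s * B.s x)), x, s, ?_⟩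
    rw [inv_eq_iff_mul_eq_one, q1_mul]
    have e1 : x + x = 0 := Bar.add_self x
    have e2 : s + s = 0 := Bar.add_self s
    rw [e1, e2]
    have e3 : q * (q⁻¹ * Tp.ofK (B.tr (s * B.s x))) * Tp.ofK (B.tr (s * B.s x)) = 1 := by
      have h1 : (Tp.ofK (B.tr (s * B.s x)) : Tp B) * Tp.ofK (B.tr (s * B.s x)) = 1 := by
        ext
        · simp
        · simp only [Bar.add_self, _root_.Cfsg.Agent.StdRank2.UFive.Tp.mul_c, _root_.Cfsg.Agent.StdRank2.UFive.Tp.ofK_c, _root_.Cfsg.Agent.StdRank2.UFour.Bar.coe_tr, _root_.map_mul, _root_.Cfsg.Agent.StdRank2.UFive.Tp.ofK_w, _root_.map_zero, _root_.MulZeroClass.mul_zero, _root_.Cfsg.Agent.StdRank2.UFive.Tp.one_c]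
      calc q * (q⁻¹ * Tp.ofK (B.tr (s * B.s x))) * Tp.ofK (B.tr (s * B.s x))
          = (q * q⁻¹) * (Tp.ofK (B.tr (s * B.s x)) * Tp.ofK (B.tr (s * B.s x))) := by group
        _ = 1 := by rw [h1, mul_inv_cancel, one_mul]
    rw [e3]
    unfold q1; rw [E.p1_one, E.toWEnv.xc_zero, E.toWEnv.xa_zero]; simp

theorem mem_Q1 {g : G} : g ∈ E.Q1 ↔ ∃ q x s, g = E.q1 q x s := Iff.rfl

theorem p1_mem1 (q : Tp B) : E.p1 q ∈ E.Q1 := ⟨q, 0, 0, by
  unfold q1; rw [E.toWEnv.xc_zero, E.toWEnv.xa_zero]; simp⟩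
theorem xc_mem1 (x : F) : E.xc x ∈ E.Q1 := ⟨1, x, 0, by
  unfold q1; rw [E.p1_one, E.toWEnv.xa_zero]; simp⟩
theorem xa_mem1 (s : F) : E.xa s ∈ E.Q1 := ⟨1, 0, s, by
  unfold q1; rw [E.p1_one, E.toWEnv.xc_zero]; simp⟩
theorem xz_mem1 (k : B.K) : E.xz k ∈ E.Q1 := by rw [← E.p1_K]; exact E.p1_mem1 _

theorem q1_conj {n : G} {q : Tp B} {x s : F} :
    n * E.q1 q x s * n⁻¹ = (n * E.p1 q * n⁻¹) * (n * E.xc x * n⁻¹) * (n * E.xa s * n⁻¹) := by
  unfold q1; group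

theorem t_1 (q : Tp B) : E.t * E.p1 q = E.p1 q * E.t := E.t_Q _ (E.p1_memQ q)
theorem t_2 (q : Tp B) : E.t * E.p2 q = E.p2 q * E.t := E.t_Q _ (E.p2_memQ q)

theorem t_Q1 {g : G} (hg : g ∈ E.Q1) : E.t * g = g * E.t := by
  obtain ⟨q, x, s, rfl⟩ := hg
  unfold q1
  exact comm_mul (comm_mul (E.t_1 q) (E.t_c x)) (E.t_a s)

/-- the product with `xz` is `p1` -/
theorem z_p1 (k : B.K) (q : Tp B) : E.xz k * E.p1 q = E.p1 (Tp.ofK k * q) := by
  rw [E.p1_mul, E.p1_K]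

theorem Q1_inj {q : Tp B} {x s : F} (h : E.q1 q x s = 1) : q = 1 ∧ x = 0 ∧ s = 0 := by
  have h1 : E.p1 q * E.xc x * E.p2 1 * E.xa s = 1 := by rw [E.p2_one, mul_one]; exact h
  obtain ⟨h2, h3, -, h4⟩ := E.u_inj _ _ _ _ h1
  exact ⟨h2, h3, h4⟩

theorem tr_ne {x : F} (hx : x ≠ 0) : ∃ s : F, B.tr (s * B.s x) ≠ 0 := by
  obtain ⟨s, hs⟩ := B.tr_form_surj hx 1
  exact ⟨s, by rw [hs]; exact one_ne_zero⟩

theorem xz_inj {k : B.K} (h : E.xz k = 1) : k = 0 := by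
  have h1 : E.q1 (Tp.ofK k) 0 0 = 1 := by
    unfold q1; rw [E.p1_K, E.toWEnv.xc_zero, E.toWEnv.xa_zero]; simpa using h
  have h2 := (E.Q1_inj h1).1
  have h3 := congrArg Tp.c h2
  exact Subtype.ext h3

theorem ofK_sq (k : B.K) : (Tp.ofK k : Tp B) * Tp.ofK k = 1 := by
  ext
  · simp
  · simp [Bar.add_self]

theorem q1_inv (q : Tp B) (x s : F) :
    (E.q1 q x s)⁻¹ = E.q1 (q⁻¹ * Tp.ofK (B.tr (s * B.s x))) x s := by
  rw [inv_eq_iff_mul_eq_one, q1_mul]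
  have e1 : x + x = 0 := Bar.add_self x
  have e2 : s + s = 0 := Bar.add_self s
  rw [e1, e2]
  have e3 : q * (q⁻¹ * Tp.ofK (B.tr (s * B.s x))) * Tp.ofK (B.tr (s * B.s x)) = 1 := by
    calc q * (q⁻¹ * Tp.ofK (B.tr (s * B.s x))) * Tp.ofK (B.tr (s * B.s x))
        = (q * q⁻¹) * (Tp.ofK (B.tr (s * B.s x)) * Tp.ofK (B.tr (s * B.s x))) := by group
      _ = 1 := by rw [ofK_sq, mul_inv_cancel, one_mul]
  rw [e3]
  unfold q1; rw [E.p1_one, E.toWEnv.xc_zero, E.toWEnv.xa_zero]; simp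

theorem q1_injective {q : Tp B} {x s : F} {q' : Tp B} {x' s' : F} (h : E.q1 q x s = E.q1 q' x' s') :
    q = q' ∧ x = x' ∧ s = s' := by
  have h1 : E.q1 q x s * (E.q1 q' x' s')⁻¹ = 1 := by rw [h]; group
  rw [q1_inv, q1_mul] at h1
  obtain ⟨h2, h3, h4⟩ := E.Q1_inj h1
  have h3' := Tp.eq_of h3
  have h4' := Tp.eq_of h4
  subst h3' h4'
  refine ⟨?_, rfl, rfl⟩
  have h5 : q * (q'⁻¹ * Tp.ofK (B.tr (s * B.s x))) * Tp.ofK (B.tr (s * B.s x)) = q * q'⁻¹ := by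
    rw [← mul_assoc, mul_assoc, ofK_sq, mul_one]
  rw [h5] at h2
  exact mul_inv_eq_one.1 h2

theorem exists_ofK {u v : Tp B} (h : u.w = v.w) : ∃ c, u = Tp.ofK c * v := by
  have h1 := u.ok
  have h2 := v.ok
  rw [h] at h1
  refine ⟨⟨u.c + v.c, ?_⟩, ?_⟩
  · rw [Bar.mem_K, map_add]
    have h3 : u.c + B.s u.c = v.c + B.s v.c := by rw [h1, h2]
    apply Tp.eq_of
    have h4 := Bar.add_self (v.c + B.s v.c)
    linear_combination h3 + h4
  · ext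
    · simpa using h
    · simp [add_assoc, Bar.add_self]

/-- commutators of `Q₁` are in `X_z` -/
theorem Q1_comm {g k : G} (hg : g ∈ E.Q1) (hk : k ∈ E.Q1) : ∃ c, k * g = E.xz c * (g * k) := by
  obtain ⟨q, x, a, rfl⟩ := hg
  obtain ⟨q', x', a', rfl⟩ := hk
  rw [q1_mul, q1_mul]
  obtain ⟨c, hc⟩ := exists_ofK (u := q' * q * Tp.ofK (B.tr (a' * B.s x)))
    (v := q * q' * Tp.ofK (B.tr (a * B.s x'))) (by simp [add_comm])
  refine ⟨c, ?_⟩
  rw [hc, add_comm x' x, add_comm a' a]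
  unfold q1
  rw [← E.z_p1]
  simp only [mul_assoc]

/-- squares of `Q₁` are in `X_z` -/
theorem Q1_sq {g : G} (hg : g ∈ E.Q1) : ∃ c, g * g = E.xz c := by
  obtain ⟨q, x, a, rfl⟩ := hg
  rw [q1_mul]
  obtain ⟨c, hc⟩ := exists_ofK (u := q * q * Tp.ofK (B.tr (a * B.s x)))
    (v := 1) (by simp [Bar.add_self])
  refine ⟨c, ?_⟩
  rw [hc, Bar.add_self, Bar.add_self]
  unfold q1
  rw [mul_one, E.p1_K, E.toWEnv.xc_zero, E.toWEnv.xa_zero, mul_one, mul_one]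

/-- `Z(Q₁) = X_z` -/
theorem center_Q1 {g : G} (hg : g ∈ E.Q1) (hc : ∀ k ∈ E.Q1, g * k = k * g) : ∃ k, g = E.xz k := by
  obtain ⟨q, x, s, rfl⟩ := hg
  have e1 : ∀ u, E.xa u = E.q1 1 0 u := fun u => by
    unfold q1; rw [E.p1_one, E.toWEnv.xc_zero]; simp
  have e2 : ∀ u, E.xc u = E.q1 1 u 0 := fun u => by
    unfold q1; rw [E.p1_one, E.toWEnv.xa_zero]; simp
  have e3 : ∀ r, E.p1 r = E.q1 r 0 0 := fun r => by
    unfold q1; rw [E.toWEnv.xc_zero, E.toWEnv.xa_zero]; simp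
  -- the `xc`-component
  have hx : x = 0 := by
    by_contra hx
    obtain ⟨u, hu⟩ := tr_ne (B := B) hx
    have h1 := hc _ (E.xa_mem1 u)
    rw [e1, q1_mul, q1_mul] at h1
    have h2 := congrArg Tp.c (E.q1_injective h1).1
    simp only [B.tr_zero, _root_.mul_one, _root_.map_zero, _root_.MulZeroClass.mul_zero, _root_.Cfsg.Agent.StdRank2.UFive.Tp.mul_c, _root_.Cfsg.Agent.StdRank2.UFive.Tp.ofK_c, _root_.ZeroMemClass.coe_zero, _root_.add_zero, _root_.Cfsg.Agent.StdRank2.UFive.Tp.ofK_w, _root_.MulZeroClass.zero_mul, _root_.one_mul, _root_.Cfsg.Agent.StdRank2.UFour.Bar.coe_tr, _root_.map_mul, _root_.left_eq_add] at h2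
    refine hu (Subtype.ext ?_)
    rw [Bar.coe_tr, map_mul]
    exact h2
  have hs : s = 0 := by
    by_contra hs
    obtain ⟨u, hu⟩ := tr_ne (B := B) hs
    have h1 := hc _ (E.xc_mem1 u)
    rw [e2, q1_mul, q1_mul] at h1
    have h2 := congrArg Tp.c (E.q1_injective h1).1
    simp only [B.tr_zero, _root_.mul_one, _root_.Cfsg.Agent.StdRank2.UFive.Tp.mul_c, _root_.Cfsg.Agent.StdRank2.UFive.Tp.ofK_c, _root_.Cfsg.Agent.StdRank2.UFour.Bar.coe_tr, _root_.map_mul, _root_.Cfsg.Agent.StdRank2.UFive.Tp.ofK_w, _root_.MulZeroClass.zero_mul, _root_.add_zero, _root_.one_mul, _root_.ZeroMemClass.coe_zero, _root_.add_eq_left] at h2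
    apply hu
    have h3 : B.tr (u * B.s s) = B.tr (s * B.s u) := by
      rw [← B.tr_s (s * B.s u), map_mul, B.invol, mul_comm]
    rw [h3]
    refine Subtype.ext ?_
    rw [Bar.coe_tr, map_mul]
    exact h2
  subst hx hs
  have hw : q.w = 0 := by
    by_contra hw
    obtain ⟨u, hu⟩ := tr_ne (B := B) hw
    obtain ⟨r, hr⟩ : ∃ r : Tp B, r.w = u := by
      obtain ⟨c, hc⟩ := B.tr_surj (B.nm u)
      exact ⟨⟨u, c, congrArg Subtype.val hc⟩, rfl⟩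
    have h1 := hc _ (E.p1_mem1 r)
    rw [e3, q1_mul, q1_mul] at h1
    have h2 := congrArg Tp.c (E.q1_injective h1).1
    simp only [B.tr_zero, _root_.map_zero, _root_.MulZeroClass.mul_zero, _root_.Cfsg.Agent.StdRank2.UFive.Tp.mul_c, _root_.Cfsg.Agent.StdRank2.UFive.Tp.ofK_c, _root_.ZeroMemClass.coe_zero, _root_.add_zero, _root_.Cfsg.Agent.StdRank2.UFive.Tp.ofK_w, _root_.Cfsg.Agent.StdRank2.UFive.Tp.mul_w, _root_.map_add, _root_.MulZeroClass.zero_mul] at h2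
    apply hu
    rw [← hr]
    apply Subtype.ext
    change r.w * B.s q.w + B.s (r.w * B.s q.w) = 0
    rw [map_mul, B.invol]
    have h3 : q.c + r.c + r.w * B.s q.w + (r.c + q.c + q.w * B.s r.w) = 0 := by
      rw [h2]; exact Bar.add_self _
    have h4 := Bar.add_self q.c
    have h5 := Bar.add_self r.c
    linear_combination h3 - h4 - h5
  refine ⟨⟨q.c, ?_⟩, ?_⟩
  · have h1 := q.ok
    rw [hw, zero_mul] at h1
    exact (Tp.eq_of h1).symm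
  · rw [← E.p1_K]
    unfold q1
    rw [E.toWEnv.xc_zero, E.toWEnv.xa_zero, mul_one, mul_one]
    congr 1
    ext
    · exact hw
    · rfl

end Env

/-! ### The group `N₁` -/

/-- the hypothesis that `nb` centralises `Ẑ` -/
def NbZ (E : Env B G) (W : WGrown E.toWEnv) : Prop := ∀ g ∈ W.Z, E.nb * g = g * E.nb

namespace NOne

variable {E : Env B G} (W : WGrown E.toWEnv)

theorem Z_Q1 {r g : G} (hr : r ∈ W.Z) (hg : g ∈ E.Q1) : r * g = g * r := by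
  obtain ⟨q, x, s, rfl⟩ := hg
  exact comm_mul (comm_mul (W.Z_Q r hr _ (E.p1_memQ q)) (W.Z_Q r hr _ (E.c_mem x))) (W.Z_a r hr s)

theorem Z_comm {r s : G} (hr : r ∈ W.Z) (hs : s ∈ W.Z) : r * s = s * r := by
  have h1 := W.rootZ.sq _ (W.Z.mul_mem hr hs)
  have h2 := W.rootZ.sq _ hr
  have h3 := W.rootZ.sq _ hs
  calc r * s = r * s * (s * s) * (r * r) := by rw [h2, h3]; group
    _ = r * (s * s) * (s * r) * r := by group
    _ = s * r := by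
        rw [h3, mul_one]
        calc r * (s * r) * r = (r * s) * (r * r) := by group
          _ = r * s := by rw [h2, mul_one]
          _ = (s * s) * (r * s) * (r * r) := by rw [h2, h3]; group
          _ = s * ((s * r) * (s * r)) * r := by group
          _ = s * r := by rw [W.rootZ.sq _ (W.Z.mul_mem hs hr), mul_one]

theorem Z_inv {r : G} (hr : r ∈ W.Z) : r⁻¹ = r := WEnv.inv_of_sq (W.rootZ.sq r hr)

theorem xz_mem (k : B.K) : E.xz k ∈ W.Z := W.rootZ.mem k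

/-- `t` does not centralise `Ẑ`. -/
theorem exists_not_comm : ∃ r ∈ W.Z, r * E.t ≠ E.t * r := by
  obtain ⟨r, hr, h⟩ := W.rootZ.onto 1
  refine ⟨r, hr, fun h1 => ?_⟩
  have h2 : E.xz 1 * E.t = E.t := by rw [← h, h1]; group
  have h3 : E.xz 1 = 1 := mul_eq_right.1 h2
  exact one_ne_zero (E.xz_inj h3)

/-- `N₁` -/
structure InN (n : G) : Prop where
  z : ∀ r ∈ W.Z, n * r = r * n
  q : ∀ g ∈ E.Q1, ∃ r ∈ W.Z, n * g * n⁻¹ = r * g
  t : ∃ r ∈ W.Z, ∃ g ∈ E.Q1, n * E.t * n⁻¹ = r * g * E.t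

variable {W}

theorem InN.mul {m n : G} (hm : InN W m) (hn : InN W n) : InN W (m * n) where
  z r hr := by rw [mul_assoc, hn.z r hr, ← mul_assoc, hm.z r hr, mul_assoc]
  q g hg := by
    obtain ⟨r, hr, h1⟩ := hn.q g hg
    obtain ⟨r', hr', h2⟩ := hm.q g hg
    refine ⟨r * r', W.Z.mul_mem hr hr', ?_⟩
    rw [mc, h1, cm, h2, conj_of_comm (hm.z r hr), mul_assoc]
  t := by
    obtain ⟨r, hr, g, hg, h1⟩ := hn.t
    obtain ⟨r', hr', g', hg', h2⟩ := hm.t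
    obtain ⟨r'', hr'', h3⟩ := hm.q g hg
    refine ⟨r * r'' * r', W.Z.mul_mem (W.Z.mul_mem hr hr'') hr', g * g', E.Q1.mul_mem hg hg', ?_⟩
    rw [mc, h1, cm, cm, h2, h3, conj_of_comm (hm.z r hr)]
    have h4 := Z_Q1 W hr' hg
    calc r * (r'' * g) * (r' * g' * E.t) = r * r'' * (g * r') * g' * E.t := by group
      _ = r * r'' * (r' * g) * g' * E.t := by rw [h4]
      _ = _ := by group

theorem InN.one : InN W (1 : G) where
  z r hr := by group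
  q g hg := ⟨1, W.Z.one_mem, by group⟩
  t := ⟨1, W.Z.one_mem, 1, E.Q1.one_mem, by group⟩

theorem InN.inv {n : G} (hn : InN W n) : InN W n⁻¹ where
  z r hr := comm_inv (hn.z r hr)
  q g hg := by
    obtain ⟨r, hr, h1⟩ := hn.q g hg
    refine ⟨r⁻¹, W.Z.inv_mem hr, ?_⟩
    have h2 := comm_inv (hn.z r hr)
    have h3 : g = n⁻¹ * r * n * (n⁻¹ * g * n) := by
      calc g = n⁻¹ * (n * g * n⁻¹) * n := by group
        _ = n⁻¹ * (r * g) * n := by rw [h1]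
        _ = _ := by group
    have h4 : n⁻¹ * r * n = r := by rw [h2]; group
    rw [h4] at h3
    rw [inv_inv]
    calc n⁻¹ * g * n = r⁻¹ * (r * (n⁻¹ * g * n)) := by group
      _ = r⁻¹ * g := by rw [← h3]
  t := by
    obtain ⟨r, hr, g, hg, h1⟩ := hn.t
    obtain ⟨r', hr', h2⟩ := hn.q g hg
    have h3 : n⁻¹ * r * n = r := by rw [comm_inv (hn.z r hr)]; group
    have h4 : n⁻¹ * r' * n = r' := by rw [comm_inv (hn.z r' hr')]; group
    have h5 : n⁻¹ * g * n = r'⁻¹ * g := by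
      have : g = n⁻¹ * r' * n * (n⁻¹ * g * n) := by
        calc g = n⁻¹ * (n * g * n⁻¹) * n := by group
          _ = n⁻¹ * (r' * g) * n := by rw [h2]
          _ = _ := by group
      rw [h4] at this
      calc n⁻¹ * g * n = r'⁻¹ * (r' * (n⁻¹ * g * n)) := by group
        _ = r'⁻¹ * g := by rw [← this]
    have h6 : E.t = r * (r'⁻¹ * g) * (n⁻¹ * E.t * n) := by
      calc E.t = n⁻¹ * (n * E.t * n⁻¹) * n := by group
        _ = n⁻¹ * (r * g * E.t) * n := by rw [h1]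
        _ = (n⁻¹ * r * n) * (n⁻¹ * g * n) * (n⁻¹ * E.t * n) := by group
        _ = _ := by rw [h3, h5]
    refine ⟨r' * r⁻¹, W.Z.mul_mem hr' (W.Z.inv_mem hr), g⁻¹, E.Q1.inv_mem hg, ?_⟩
    have h7 := Z_Q1 W (W.Z.mul_mem hr' (W.Z.inv_mem hr)) (E.Q1.inv_mem hg)
    rw [h7, inv_inv]
    calc n⁻¹ * E.t * n = g⁻¹ * r' * r⁻¹ * (r * (r'⁻¹ * g) * (n⁻¹ * E.t * n)) := by group
      _ = g⁻¹ * r' * r⁻¹ * E.t := by rw [← h6]
      _ = _ := by group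

variable (W) in
/-- `N₁` as a subgroup -/
def N : Subgroup G where
  carrier := {n | InN W n}
  mul_mem' hm hn := InN.mul hm hn
  one_mem' := InN.one
  inv_mem' hn := InN.inv hn

theorem mem_N {n : G} : n ∈ N W ↔ InN W n := Iff.rfl

/-- **Key lemma.** -/
theorem core {n r : G} (hz : ∀ r ∈ W.Z, n * r = r * n) (hq : ∀ g ∈ E.Q1, ∃ r ∈ W.Z, n * g * n⁻¹ = r * g)
    (hr : r ∈ W.Z) (ht : n * E.t * n⁻¹ = r * E.t) : ∃ r' ∈ W.Z, ∃ g ∈ E.Q1, n = r' * g := by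
  have hr2 := W.rootZ.sq r hr
  -- `r t` is an involution
  have h1 : r * E.t * (r * E.t) = 1 := by
    rw [← ht]
    calc n * E.t * n⁻¹ * (n * E.t * n⁻¹) = n * (E.t * E.t) * n⁻¹ := by group
      _ = 1 := by rw [E.t_sq]; group
  have h2 : r * E.t = E.t * r := by
    have h3 : (r * E.t)⁻¹ = r * E.t := WEnv.inv_of_sq h1
    rw [mul_inv_rev, E.toWEnv.t_inv, Z_inv W hr] at h3
    exact h3.symm
  obtain ⟨c, hc⟩ := W.rootZ.cent r hr h2
  obtain ⟨g0, hg0, h4⟩ := W.rootZ.onto c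
  -- `g0⁻¹ n` centralises `t`
  have h5 : (g0⁻¹ * n) * E.t * (g0⁻¹ * n)⁻¹ = E.t := by
    rw [mc, ht, hc, ← h4]; group
  have h6 := comm_of_conj h5
  have hz' : ∀ r ∈ W.Z, (g0⁻¹ * n) * r = r * (g0⁻¹ * n) := by
    intro r hr
    rw [mul_assoc, hz r hr, ← mul_assoc, Z_comm W (W.Z.inv_mem hg0) hr, mul_assoc]
  have hq' : ∀ g ∈ E.Q1, ∃ z, (g0⁻¹ * n) * g * (g0⁻¹ * n)⁻¹ = E.xz z * g := by
    intro g hg
    obtain ⟨r1, hr1, e1⟩ := hq g hg
    have e2 : (g0⁻¹ * n) * g * (g0⁻¹ * n)⁻¹ = r1 * g := by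
      rw [mc, e1]
      exact conj_of_comm (comm_mul (Z_comm W (W.Z.inv_mem hg0) hr1) (Z_Q1 W (W.Z.inv_mem hg0) hg))
    -- `r1` commutes with `t`
    have e3 : (r1 * g) * E.t = E.t * (r1 * g) := by
      rw [← e2]
      apply comm_of_conj
      have e4 : (g0⁻¹ * n) * g * (g0⁻¹ * n)⁻¹ * E.t * ((g0⁻¹ * n) * g * (g0⁻¹ * n)⁻¹)⁻¹ =
          (g0⁻¹ * n) * (g * ((g0⁻¹ * n)⁻¹ * E.t * (g0⁻¹ * n)) * g⁻¹) * (g0⁻¹ * n)⁻¹ := by group
      have e5 : (g0⁻¹ * n)⁻¹ * E.t * (g0⁻¹ * n) = E.t := by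
        rw [comm_inv h6]; group
      have e6 : g * E.t * g⁻¹ = E.t := conj_of_comm (E.t_Q1 hg).symm
      rw [e4, e5, e6, h5]
    have e7 : r1 * E.t = E.t * r1 := by
      have e8 := E.t_Q1 hg
      calc r1 * E.t = r1 * (g * g⁻¹) * E.t := by group
        _ = r1 * g * (g⁻¹ * E.t) := by group
        _ = r1 * g * (E.t * g⁻¹) := by rw [comm_inv e8.symm]
        _ = (r1 * g * E.t) * g⁻¹ := by group
        _ = (E.t * (r1 * g)) * g⁻¹ := by rw [e3]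
        _ = E.t * r1 := by group
    obtain ⟨z, hz⟩ := W.rootZ.cent r1 hr1 e7
    exact ⟨z, by rw [e2, hz]⟩
  obtain ⟨q, x, s, h7⟩ := E.cent_Q1 (g0⁻¹ * n) h6 (fun x => hz' _ (xz_mem W x))
    (fun x => hq' _ (E.xa_mem1 x)) (fun x => hq' _ (E.xc_mem1 x)) (fun x => hq' _ (E.p1_mem1 x))
  rcases h7 with h7 | h7
  · exact ⟨g0, hg0, E.q1 q x s, ⟨q, x, s, rfl⟩, by unfold Env.q1; rw [← h7]; group⟩
  · exfalso
    obtain ⟨r1, hr1, h8⟩ := exists_not_comm W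
    apply h8
    have h9 := hz' r1 hr1
    have h10 : r1 * E.q1 q x s = E.q1 q x s * r1 := Z_Q1 W hr1 ⟨q, x, s, rfl⟩
    have h11 : g0⁻¹ * n = E.t * E.q1 q x s := h7
    rw [h11] at h9
    calc r1 * E.t = r1 * (E.t * E.q1 q x s) * (E.q1 q x s)⁻¹ := by group
      _ = (E.t * E.q1 q x s * r1) * (E.q1 q x s)⁻¹ := by rw [h9]
      _ = E.t * (E.q1 q x s * r1) * (E.q1 q x s)⁻¹ := by group
      _ = E.t * (r1 * E.q1 q x s) * (E.q1 q x s)⁻¹ := by rw [h10]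
      _ = E.t * r1 := by group

theorem core_cent {n r : G} (hz : ∀ r ∈ W.Z, n * r = r * n) (hq : ∀ g ∈ E.Q1, n * g = g * n)
    (hr : r ∈ W.Z) (ht : n * E.t * n⁻¹ = r * E.t) : n ∈ W.Z := by
  obtain ⟨r', hr', g, hg, h⟩ := core hz
    (fun g hg => ⟨1, W.Z.one_mem, by rw [one_mul]; exact conj_of_comm (hq g hg)⟩) hr ht
  have h1 : ∀ k ∈ E.Q1, g * k = k * g := by
    intro k hk
    have h2 := hq k hk
    have h3 : g = r'⁻¹ * n := by rw [h]; group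
    rw [h3, mul_assoc, h2, ← mul_assoc, Z_Q1 W (W.Z.inv_mem hr') hk, mul_assoc]
  obtain ⟨k, hk⟩ := E.center_Q1 hg h1
  rw [h, hk]
  exact W.Z.mul_mem hr' (xz_mem W k)

/-- `N₁ / Ẑ` is abelian. -/
theorem comm_mem {m n : G} (hm : InN W m) (hn : InN W n) : ∃ r ∈ W.Z, m * n * m⁻¹ = r * n := by
  have hmn := hm.mul hn
  have hnm := hn.mul hm
  have hc := hmn.mul hnm.inv
  -- commutes with `Q₁`
  have key : ∀ g ∈ E.Q1, (m * n) * g * (m * n)⁻¹ = (n * m) * g * (n * m)⁻¹ := by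
    intro g hg
    obtain ⟨r, hr, h1⟩ := hm.q g hg
    obtain ⟨s, hs, h2⟩ := hn.q g hg
    rw [mc, mc, h1, h2, cm, cm, h1, h2, conj_of_comm (hm.z s hs), conj_of_comm (hn.z r hr),
      ← mul_assoc, ← mul_assoc, Z_comm W hr hs]
  have key2 : ∀ g ∈ E.Q1, ((m * n) * (n * m)⁻¹) * g = g * ((m * n) * (n * m)⁻¹) := by
    intro g hg
    apply comm_of_conj
    obtain ⟨r, hr, h1⟩ := hnm.inv.q g hg
    have h2 : (n * m)⁻¹ * g * ((n * m)⁻¹)⁻¹ = r * g := h1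
    rw [mc, h2, cm, key g hg, conj_of_comm (hmn.z r hr)]
    have h3 : (n * m) * (r * g) * (n * m)⁻¹ = g := by rw [← h2]; group
    rw [cm, conj_of_comm (hnm.z r hr)] at h3
    exact h3
  obtain ⟨r, hr, g, hg, h1⟩ := hm.t
  obtain ⟨s, hs, k, hk, h2⟩ := hn.t
  obtain ⟨r', hr', h3⟩ := hm.q k hk
  obtain ⟨s', hs', h4⟩ := hn.q g hg
  have e1 : (m * n) * E.t * (m * n)⁻¹ = s * r' * r * (k * g) * E.t := by
    rw [mc, h2, cm, cm, h1, h3, conj_of_comm (hm.z s hs)]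
    calc s * (r' * k) * (r * g * E.t) = s * r' * (k * r) * g * E.t := by group
      _ = _ := by rw [← Z_Q1 W hr hk]; group
  have e2 : (n * m) * E.t * (n * m)⁻¹ = r * s' * s * (g * k) * E.t := by
    rw [mc, h1, cm, cm, h2, h4, conj_of_comm (hn.z r hr)]
    calc r * (s' * g) * (s * k * E.t) = r * s' * (g * s) * k * E.t := by group
      _ = _ := by rw [← Z_Q1 W hs hg]; group
  obtain ⟨c, hc'⟩ := E.Q1_comm hg hk
  rw [hc'] at e1
  set d := (m * n) * (n * m)⁻¹ with hd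
  have hdz : ∀ r ∈ W.Z, d * r = r * d := hc.z
  have hz1 : s * r' * r ∈ W.Z := W.Z.mul_mem (W.Z.mul_mem hs hr') hr
  have hz2 : r * s' * s ∈ W.Z := W.Z.mul_mem (W.Z.mul_mem hr hs') hs
  have e3 : d * ((n * m) * E.t * (n * m)⁻¹) * d⁻¹ = (m * n) * E.t * (m * n)⁻¹ := by
    rw [hd]; group
  have hgk := E.Q1.mul_mem hg hk
  rw [e1, e2, cm, cm d (r * s' * s), conj_of_comm (hdz _ hz2), conj_of_comm (key2 _ hgk)] at e3
  have hz3 : (r * s' * s)⁻¹ * (s * r' * r * E.xz c) ∈ W.Z :=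
    W.Z.mul_mem (W.Z.inv_mem hz2) (W.Z.mul_mem hz1 (xz_mem W c))
  have e4 : d * E.t * d⁻¹ = (r * s' * s)⁻¹ * (s * r' * r * E.xz c) * E.t := by
    have h5 := Z_Q1 W hz3 (E.Q1.mul_mem hg hk)
    calc d * E.t * d⁻¹ = (g * k)⁻¹ * (r * s' * s)⁻¹ * (r * s' * s * (g * k) * (d * E.t * d⁻¹)) := by
          group
      _ = (g * k)⁻¹ * (r * s' * s)⁻¹ * (s * r' * r * (E.xz c * (g * k)) * E.t) := by rw [e3]
      _ = (g * k)⁻¹ * (((r * s' * s)⁻¹ * (s * r' * r * E.xz c)) * (g * k)) * E.t := by group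
      _ = (g * k)⁻¹ * ((g * k) * ((r * s' * s)⁻¹ * (s * r' * r * E.xz c))) * E.t := by rw [h5]
      _ = _ := by group
  have h6 : d ∈ W.Z := core_cent hdz key2 hz3 e4
  refine ⟨d, h6, ?_⟩
  calc m * n * m⁻¹ = (m * n) * (n * m)⁻¹ * n := by group
    _ = d * n := by rw [hd]

/-- `N₁ / Ẑ` has exponent 2. -/
theorem sq_mem {n : G} (hn : InN W n) : n * n ∈ W.Z := by
  have h0 := hn.mul hn
  have key : ∀ g ∈ E.Q1, (n * n) * g = g * (n * n) := by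
    intro g hg
    apply comm_of_conj
    obtain ⟨r, hr, h1⟩ := hn.q g hg
    rw [mc, h1, cm, h1, conj_of_comm (hn.z r hr), ← mul_assoc, W.rootZ.sq r hr, one_mul]
  obtain ⟨r, hr, g, hg, h1⟩ := hn.t
  obtain ⟨r', hr', h2⟩ := hn.q g hg
  obtain ⟨c, hc⟩ := E.Q1_sq hg
  have h3 : (n * n) * E.t * (n * n)⁻¹ = (r' * E.xz c) * E.t := by
    rw [mc, h1, cm, cm, h1, h2, conj_of_comm (hn.z r hr)]
    calc r * (r' * g) * (r * g * E.t) = r * r' * (g * r) * g * E.t := by group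
      _ = r * r' * (r * g) * g * E.t := by rw [Z_Q1 W hr hg]
      _ = r * (r' * r) * (g * g) * E.t := by group
      _ = r * (r * r') * E.xz c * E.t := by rw [Z_comm W hr' hr, hc]
      _ = (r * r) * r' * E.xz c * E.t := by group
      _ = _ := by rw [W.rootZ.sq r hr, one_mul]
  exact core_cent h0.z key (W.Z.mul_mem hr' (xz_mem W c)) h3

/-- the elements of `N₁` moving `t` inside `Ẑ t` -/
theorem mem_of_t {n r : G} (hn : InN W n) (hr : r ∈ W.Z) (ht : n * E.t * n⁻¹ = r * E.t) :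
    ∃ r' ∈ W.Z, ∃ g ∈ E.Q1, n = r' * g := core hn.z hn.q hr ht

theorem Z_mem {r : G} (hr : r ∈ W.Z) : InN W r where
  z s hs := Z_comm W hr hs
  q g hg := ⟨1, W.Z.one_mem, by rw [one_mul]; exact conj_of_comm (Z_Q1 W hr hg)⟩
  t := by
    obtain ⟨c, hc⟩ := W.rootZ.conj_t r hr
    exact ⟨E.xz c, xz_mem W c, 1, E.Q1.one_mem, by rw [hc, mul_one]⟩

theorem Q1_mem {g : G} (hg : g ∈ E.Q1) : InN W g where
  z s hs := (Z_Q1 W hs hg).symm
  q k hk := by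
    obtain ⟨c, hc⟩ := E.Q1_comm hk hg
    refine ⟨E.xz c, xz_mem W c, ?_⟩
    rw [hc]; group
  t := ⟨1, W.Z.one_mem, 1, E.Q1.one_mem, by
    rw [one_mul, one_mul]; exact conj_of_comm (E.t_Q1 hg).symm⟩

theorem C_mem {g : G} (hg : g ∈ W.C) : InN W g where
  z s hs := (W.Z_C s hs g hg).symm
  q k hk := by
    obtain ⟨q, x, s, rfl⟩ := hk
    obtain ⟨r, hr, h1⟩ := W.a_C s g hg
    have h2 : g * E.xa s * g⁻¹ = r⁻¹ * E.xa s := by
      have h3 : g * (E.xa s)⁻¹ * g⁻¹ = (E.xa s)⁻¹ * r := by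
        calc g * (E.xa s)⁻¹ * g⁻¹ = (E.xa s)⁻¹ * (E.xa s * g * (E.xa s)⁻¹) * g⁻¹ := by group
          _ = (E.xa s)⁻¹ * (r * g) * g⁻¹ := by rw [h1]
          _ = _ := by group
      have h4 : g * E.xa s * g⁻¹ = (g * (E.xa s)⁻¹ * g⁻¹)⁻¹ := by group
      rw [h4, h3, mul_inv_rev, inv_inv]
    refine ⟨r⁻¹, W.Z.inv_mem hr, ?_⟩
    rw [E.q1_conj, h2, conj_of_comm (W.C_Q g hg _ (E.p1_memQ q)), conj_of_comm (W.C_Q g hg _ (E.c_mem x))]
    have h5 := Z_Q1 W (W.Z.inv_mem hr) (E.Q1.mul_mem (E.p1_mem1 q) (E.xc_mem1 x))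
    unfold Env.q1
    calc E.p1 q * E.xc x * (r⁻¹ * E.xa s) = (E.p1 q * E.xc x * r⁻¹) * E.xa s := by group
      _ = r⁻¹ * (E.p1 q * E.xc x) * E.xa s := by rw [h5]
      _ = _ := by group
  t := by
    obtain ⟨c, hc⟩ := W.rootC.conj_t g hg
    exact ⟨1, W.Z.one_mem, E.xc c, E.xc_mem1 c, by rw [hc, one_mul]⟩

/-- elements normalising everything -/
theorem conj_InN {k n : G} (hn : InN W n) (hZ : ∀ r, r ∈ W.Z ↔ k * r * k⁻¹ ∈ W.Z)
    (hQ : ∀ g, g ∈ E.Q1 ↔ k * g * k⁻¹ ∈ E.Q1) (ht : k * E.t = E.t * k) : InN W (k * n * k⁻¹) where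
  z r hr := by
    obtain ⟨r', hr', rfl⟩ : ∃ r' ∈ W.Z, k * r' * k⁻¹ = r := by
      refine ⟨k⁻¹ * r * k, (hZ _).2 ?_, by group⟩
      have : k * (k⁻¹ * r * k) * k⁻¹ = r := by group
      rwa [this]
    rw [← cm, hn.z r' hr', cm]
  q g hg := by
    obtain ⟨g', hg', rfl⟩ : ∃ r' ∈ E.Q1, k * r' * k⁻¹ = g := by
      refine ⟨k⁻¹ * g * k, (hQ _).2 ?_, by group⟩
      have : k * (k⁻¹ * g * k) * k⁻¹ = g := by group
      rwa [this]
    obtain ⟨r, hr, h1⟩ := hn.q g' hg'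
    refine ⟨k * r * k⁻¹, (hZ r).1 hr, ?_⟩
    calc k * n * k⁻¹ * (k * g' * k⁻¹) * (k * n * k⁻¹)⁻¹ = k * (n * g' * n⁻¹) * k⁻¹ := by group
      _ = k * (r * g') * k⁻¹ := by rw [h1]
      _ = _ := by group
  t := by
    obtain ⟨r, hr, g, hg, h1⟩ := hn.t
    refine ⟨k * r * k⁻¹, (hZ r).1 hr, k * g * k⁻¹, (hQ g).1 hg, ?_⟩
    have h2 : k⁻¹ * E.t * k = E.t := by rw [comm_inv ht]; group
    calc k * n * k⁻¹ * E.t * (k * n * k⁻¹)⁻¹ = k * (n * (k⁻¹ * E.t * k) * n⁻¹) * k⁻¹ := by group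
      _ = k * (r * g * E.t) * k⁻¹ := by rw [h2, h1]
      _ = (k * r * k⁻¹) * (k * g * k⁻¹) * (k * E.t * k⁻¹) := by group
      _ = _ := by rw [conj_of_comm ht]

end NOne

end Cfsg.Agent.StdRank2.UFive
end

-- part: StdRank2/UFive/QLevel
section
/-!
# The `Q₁`-level: from `WGrown` to `QGrown` (type `U₅(q)`)
-/

set_option autoImplicit false
set_option linter.unusedSectionVars false

namespace Cfsg.Agent.StdRank2.UFive

open Subgroup Cfsg.Agent.StdRank2.UFour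

variable {F : Type*} [Field F] [CharP F 2] {B : Bar F} {G : Type*} [Group G]

/-! ### General lemmas on grown root groups -/

namespace RootLem

variable {E : WEnv B G} {M : Type*} {x : M → G} {R : Subgroup G}

theorem comm (h : Root E x R) {r s : G} (hr : r ∈ R) (hs : s ∈ R) : r * s = s * r := by
  have h1 : (r * s)⁻¹ = r * s := WEnv.inv_of_sq (h.sq _ (R.mul_mem hr hs))
  rw [mul_inv_rev, WEnv.inv_of_sq (h.sq _ hs), WEnv.inv_of_sq (h.sq _ hr)] at h1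
  exact h1.symm

theorem pow_odd (h : Root E x R) {r : G} (hr : r ∈ R) {m : ℕ} (hm : Odd m) : r ^ m = r := by
  obtain ⟨k, rfl⟩ := hm
  rw [pow_succ, pow_mul, pow_two, h.sq r hr, one_pow, one_mul]

/-- (CO): an element of the torus centralising the root group centralises the grown root group. -/
theorem co (h : Root E x R) {g : G} (hg : g ∈ E.T) (hx : ∀ c, g * x c = x c * g) {k : G} (hk : k ∈ R) :
    g * k = k * g := by
  obtain ⟨c, hc⟩ := h.conj_t k hk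
  have h1 := h.conj_T g hg k hk
  have h2 : (k⁻¹ * (g * k * g⁻¹)) * E.t = E.t * (k⁻¹ * (g * k * g⁻¹)) := by
    apply comm_of_conj
    have e1 : g⁻¹ * E.t * g = E.t := by
      rw [comm_inv (E.T_t g hg).symm]; group
    calc k⁻¹ * (g * k * g⁻¹) * E.t * (k⁻¹ * (g * k * g⁻¹))⁻¹
        = k⁻¹ * (g * (k * (g⁻¹ * E.t * g) * k⁻¹) * g⁻¹) * k := by group
      _ = k⁻¹ * (g * (x c * E.t) * g⁻¹) * k := by rw [e1, hc]
      _ = k⁻¹ * ((g * x c * g⁻¹) * (g * E.t * g⁻¹)) * k := by group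
      _ = k⁻¹ * (x c * E.t) * k := by
          rw [conj_of_comm (hx c), conj_of_comm (E.T_t g hg).symm]
      _ = k⁻¹ * (k * E.t * k⁻¹) * k := by rw [hc]
      _ = E.t := by group
  obtain ⟨d, hd⟩ := h.cent _ (R.mul_mem (R.inv_mem hk) h1) h2
  have h3 : g * k * g⁻¹ = k * x d := by rw [← hd]; group
  have h4 : ∀ m : ℕ, g ^ m * k * (g ^ m)⁻¹ = k * x d ^ m := by
    intro m
    induction m with
    | zero => simp
    | succ m ih =>
      calc g ^ (m + 1) * k * (g ^ (m + 1))⁻¹ = g * (g ^ m * k * (g ^ m)⁻¹) * g⁻¹ := by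
            rw [pow_succ']; group
        _ = g * (k * x d ^ m) * g⁻¹ := by rw [ih]
        _ = (g * k * g⁻¹) * (g * x d ^ m * g⁻¹) := by group
        _ = k * x d * x d ^ m := by
            rw [h3, conj_of_comm]
            have : Commute g (x d) := hx d
            exact (this.pow_right m).eq
        _ = k * x d ^ (m + 1) := by rw [pow_succ']; group
  obtain ⟨m, hm, hgm⟩ := E.T_odd g hg
  have h5 := h4 m
  rw [hgm, pow_odd h (h.mem d) hm] at h5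
  have h6 : x d = 1 := by
    have : k * x d = k := by rw [← h5]; group
    exact mul_eq_left.1 this
  rw [h6, mul_one] at h3
  exact comm_of_conj h3

/-- (SU): a fixed point free element of the torus: commutators cover the grown root group. -/
theorem su [Finite G] (h : Root E x R) {g : G} (hg : g ∈ E.T)
    (hx : ∀ c, g * x c = x c * g → x c = 1)
    (hx2 : ∀ c, (g * x c * g⁻¹) * E.t = x c * E.t → x c = 1) {k : G} (hk : k ∈ R) :
    ∃ b ∈ R, k = b⁻¹ * (g * b * g⁻¹) := by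
  have fix : ∀ k ∈ R, g * k = k * g → k = 1 := by
    intro k hk hgk
    obtain ⟨c, hc⟩ := h.conj_t k hk
    have e1 : g⁻¹ * E.t * g = E.t := by
      rw [comm_inv (E.T_t g hg).symm]; group
    have e2 : (g * x c * g⁻¹) * E.t = x c * E.t := by
      calc (g * x c * g⁻¹) * E.t = g * (x c * (g⁻¹ * E.t * g)) * g⁻¹ := by group
        _ = g * (k * E.t * k⁻¹) * g⁻¹ := by rw [e1, ← hc]
        _ = (g * k) * E.t * (g * k)⁻¹ := by group
        _ = (k * g) * E.t * (k * g)⁻¹ := by rw [hgk]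
        _ = k * (g * E.t * g⁻¹) * k⁻¹ := by group
        _ = k * E.t * k⁻¹ := by rw [conj_of_comm (E.T_t g hg).symm]
        _ = _ := hc
    have e3 := hx2 c e2
    rw [e3, one_mul] at hc
    obtain ⟨d, hd⟩ := h.cent k hk (comm_of_conj hc)
    rw [hd]
    apply hx d
    rw [← hd]; exact hgk
  let f : R → R := fun b => ⟨(b : G)⁻¹ * (g * b * g⁻¹), R.mul_mem (R.inv_mem b.2) (h.conj_T g hg b b.2)⟩
  have hf : Function.Injective f := by
    intro a b hab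
    have h1 : (a : G)⁻¹ * (g * a * g⁻¹) = (b : G)⁻¹ * (g * b * g⁻¹) := congrArg Subtype.val hab
    have h2 : g * ((b : G) * (a : G)⁻¹) = (b : G) * (a : G)⁻¹ * g := by
      apply comm_of_conj
      have e1 : (b : G) * (a : G)⁻¹ = (a : G)⁻¹ * b := comm h b.2 (R.inv_mem a.2)
      calc g * ((b : G) * (a : G)⁻¹) * g⁻¹ = (g * b * g⁻¹) * (g * a * g⁻¹)⁻¹ := by group
        _ = (b : G) * ((b : G)⁻¹ * (g * b * g⁻¹)) * ((a : G) * ((a : G)⁻¹ * (g * a * g⁻¹)))⁻¹ := by group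
        _ = (b : G) * ((b : G)⁻¹ * (g * b * g⁻¹)) * ((a : G) * ((b : G)⁻¹ * (g * b * g⁻¹)))⁻¹ := by
            rw [h1]
        _ = (b : G) * (a : G)⁻¹ := by group
    have h3 := fix _ (R.mul_mem b.2 (R.inv_mem a.2)) h2
    exact Subtype.ext (mul_inv_eq_one.1 h3).symm
  obtain ⟨b, hb⟩ := (Finite.injective_iff_surjective.1 hf) ⟨k, hk⟩
  exact ⟨b, b.2, (congrArg Subtype.val hb).symm⟩

end RootLem

namespace QL

open NOne RootLem

variable (E : Env B G)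

/-- the scalar -/
def l : Fˣ := Units.map (B.K.subtype : B.K →* F) E.lam

theorem coe_l : ((l E : Fˣ) : F) = ((E.lam : B.K) : F) := rfl

theorem l_K : B.s (l E : F) = l E := by rw [coe_l]; exact B.s_K _

theorem l_ne : (l E : F) ≠ 1 := by
  rw [coe_l]
  intro h
  exact E.lam_ne (Subtype.ext h)

theorem l_mul_ne {x : F} (h : (l E : F) * x = x) : x = 0 := by
  by_contra hx
  exact l_ne E (mul_right_cancel₀ hx (h.trans (one_mul x).symm))

theorem l_ne0 : (l E : F) ≠ 0 := (l E).ne_zero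

theorem linv_mul_ne {x : F} (h : (l E : F)⁻¹ * x = x) : x = 0 := by
  apply l_mul_ne E
  calc (l E : F) * x = (l E : F) * ((l E : F)⁻¹ * x) := by rw [h]
    _ = x := by rw [← mul_assoc, mul_inv_cancel₀ (l_ne0 E), one_mul]

/-- `h₀ = h(1, λ)` -/
def h0 : G := E.hh 1 (l E)

theorem h0_T : h0 E ∈ E.T := E.hh_mem _ _

theorem h0_a (x : F) : h0 E * E.xa x * (h0 E)⁻¹ = E.xa ((l E : F)⁻¹ * x) := by
  unfold h0
  rw [E.hh_a]
  congr 1
  rw [Units.val_one, one_mul]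

theorem h0_c (x : F) : h0 E * E.xc x * (h0 E)⁻¹ = E.xc ((l E : F) * x) := by
  unfold h0
  rw [E.hh_c, l_K]
  congr 1
  rw [Units.val_one, one_mul]

theorem h0_z (x : B.K) : h0 E * E.xz x = E.xz x * h0 E := by
  apply comm_of_conj
  unfold h0
  rw [E.hh_z]
  congr 1
  rw [Units.val_one, B.nm_one, one_mul]

theorem h0_1 (q : Tp B) : h0 E * E.p1 q = E.p1 q * h0 E := by
  apply comm_of_conj
  unfold h0
  rw [E.hh_1]
  congr 1
  rw [Units.val_one, map_one, l_K]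
  have e : (1 : F) * 1 * (l E : F) * 1⁻¹ * (l E : F)⁻¹ = 1 := by
    rw [inv_one, one_mul, one_mul, mul_one, mul_inv_cancel₀ (l_ne0 E)]
  rw [e]
  ext <;> simp

theorem h0_2 (q : Tp B) : h0 E * E.p2 q * (h0 E)⁻¹ = E.p2 (Tp.sm (l E : F) q) := by
  unfold h0
  rw [E.hh_2]
  congr 2
  rw [Units.val_one, map_one, l_K, inv_one, mul_one, mul_one, mul_assoc,
    mul_inv_cancel₀ (l_ne0 E), mul_one]

/-- `h₂ = h(λ, λ)` -/
def h2 : G := E.hh (l E) (l E)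

theorem h2_T : h2 E ∈ E.T := E.hh_mem _ _

theorem h2_a (x : F) : h2 E * E.xa x = E.xa x * h2 E := by
  apply comm_of_conj
  unfold h2
  rw [E.hh_a]
  congr 1
  rw [mul_inv_cancel₀ (l_ne0 E), one_mul]

theorem h2_2 (q : Tp B) : h2 E * E.p2 q * (h2 E)⁻¹ = E.p2 (Tp.sm (l E : F) q) := by
  unfold h2
  rw [E.hh_2]
  congr 2
  rw [l_K]
  field_simp [l_ne0 E]

variable {E} (W : WGrown E.toWEnv)

theorem h0_Z {r : G} (hr : r ∈ W.Z) : h0 E * r = r * h0 E := co W.rootZ (h0_T E) (h0_z E) hr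

theorem xa_inj {x : F} (h : E.xa x = 1) : x = 0 := by
  have h1 : E.q1 1 0 x = 1 := by
    unfold Env.q1; rw [E.p1_one, E.toWEnv.xc_zero]; simpa using h
  exact (E.Q1_inj h1).2.2

theorem xc_inj {x : F} (h : E.xc x = 1) : x = 0 := by
  have h1 : E.q1 1 x 0 = 1 := by
    unfold Env.q1; rw [E.p1_one, E.toWEnv.xa_zero]; simpa using h
  exact (E.Q1_inj h1).2.1

theorem xa_injective {x y : F} (h : E.xa x = E.xa y) : x = y := by
  apply Tp.eq_of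
  apply xa_inj (E := E)
  rw [E.xa_add, h, E.toWEnv.xa_sq]

theorem xc_injective {x y : F} (h : E.xc x = E.xc y) : x = y := by
  apply Tp.eq_of
  apply xc_inj (E := E)
  rw [E.xc_add, h, E.toWEnv.xc_sq]

/-- `Â = nb Ĉ nb⁻¹` -/
def A : Subgroup G := W.C.comap (MulAut.conj E.nb).toMonoidHom

theorem mem_A {g : G} : g ∈ A W ↔ E.nb * g * E.nb⁻¹ ∈ W.C := Iff.rfl

theorem nb_inv : E.nb⁻¹ = E.nb := WEnv.inv_of_sq E.nb_sq

theorem nb_nb (g : G) : E.nb * (E.nb * g * E.nb⁻¹) * E.nb⁻¹ = g := by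
  have e : E.nb * (E.nb * g * E.nb⁻¹) * E.nb⁻¹ = (E.nb * E.nb) * g * (E.nb * E.nb)⁻¹ := by group
  rw [e, E.nb_sq]; group

theorem mem_C {g : G} : g ∈ W.C ↔ E.nb * g * E.nb⁻¹ ∈ A W := by
  rw [mem_A, nb_nb]

theorem rootA : Root E.toWEnv E.xa (A W) where
  mem x := by
    rw [mem_A, E.nb_a]; exact W.rootC.mem x
  sq g hg := by
    have h1 := W.rootC.sq _ ((mem_A W).1 hg)
    have h2 : E.nb * (g * g) * E.nb⁻¹ = 1 := by rw [← h1]; group
    calc g * g = E.nb⁻¹ * (E.nb * (g * g) * E.nb⁻¹) * E.nb := by group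
      _ = 1 := by rw [h2]; group
  conj_t g hg := by
    obtain ⟨c, hc⟩ := W.rootC.conj_t _ ((mem_A W).1 hg)
    refine ⟨c, ?_⟩
    have h1 : E.nb⁻¹ * E.t * E.nb = E.t := by rw [comm_inv E.t_nb.symm]; group
    have h2 : g * E.t * g⁻¹ = E.nb⁻¹ * (E.nb * g * E.nb⁻¹ * (E.nb * E.t * E.nb⁻¹) *
      (E.nb * g * E.nb⁻¹)⁻¹) * E.nb := by group
    rw [h2, conj_of_comm E.t_nb.symm, hc]
    calc E.nb⁻¹ * (E.xc c * E.t) * E.nb = (E.nb⁻¹ * E.xc c * E.nb) * (E.nb⁻¹ * E.t * E.nb) := by group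
      _ = E.xa c * E.t := by
          rw [h1]
          congr 1
          have := E.nb_c c
          rw [nb_inv] at this ⊢
          exact this
  onto c := by
    obtain ⟨g, hg, h⟩ := W.rootC.onto c
    refine ⟨E.nb * g * E.nb⁻¹, (mem_C W).1 hg, ?_⟩
    have h1 : E.nb⁻¹ * E.t * E.nb = E.t := by rw [comm_inv E.t_nb.symm]; group
    calc E.nb * g * E.nb⁻¹ * E.t * (E.nb * g * E.nb⁻¹)⁻¹
        = E.nb * (g * (E.nb⁻¹ * E.t * E.nb) * g⁻¹) * E.nb⁻¹ := by group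
      _ = (E.nb * E.xc c * E.nb⁻¹) * (E.nb * E.t * E.nb⁻¹) := by rw [h1, h]; group
      _ = _ := by rw [E.nb_c, conj_of_comm E.t_nb.symm]
  cent g hg hgt := by
    have h1 : (E.nb * g * E.nb⁻¹) * E.t = E.t * (E.nb * g * E.nb⁻¹) := by
      have h2 : E.nb * E.t * E.nb⁻¹ = E.t := conj_of_comm E.t_nb.symm
      calc (E.nb * g * E.nb⁻¹) * E.t = (E.nb * g * E.nb⁻¹) * (E.nb * E.t * E.nb⁻¹) := by rw [h2]
        _ = E.nb * (g * E.t) * E.nb⁻¹ := by group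
        _ = E.nb * (E.t * g) * E.nb⁻¹ := by rw [hgt]
        _ = (E.nb * E.t * E.nb⁻¹) * (E.nb * g * E.nb⁻¹) := by group
        _ = _ := by rw [h2]
    obtain ⟨c, hc⟩ := W.rootC.cent _ ((mem_A W).1 hg) h1
    refine ⟨c, ?_⟩
    rw [← nb_nb (E := E) g, hc, E.nb_c]
  conj_T k hk g hg := by
    have h1 := W.rootC.conj_T _ ((E.nb_T k).1 hk) _ ((mem_A W).1 hg)
    rw [mem_A]
    have e : E.nb * (k * g * k⁻¹) * E.nb⁻¹ =
      E.nb * k * E.nb⁻¹ * (E.nb * g * E.nb⁻¹) * (E.nb * k * E.nb⁻¹)⁻¹ := by group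
    rw [e]
    exact h1

/-! ### Normalisers of `N₁` -/

theorem nbQ (g : G) : g ∈ E.Q1 ↔ E.nb * g * E.nb⁻¹ ∈ E.Q1 := by
  have key : ∀ g ∈ E.Q1, E.nb * g * E.nb⁻¹ ∈ E.Q1 := by
    rintro _ ⟨q, x, s, rfl⟩
    rw [E.q1_conj, E.nb_1, E.nb_c, E.nb_a]
    exact E.Q1.mul_mem (E.Q1.mul_mem (E.p1_mem1 _) (E.xa_mem1 _)) (E.xc_mem1 _)
  exact ⟨key g, fun h => by have := key _ h; rwa [nb_nb] at this⟩

variable (hnb : NbZ E W)

theorem nbZ (hnb : NbZ E W) (r : G) : r ∈ W.Z ↔ E.nb * r * E.nb⁻¹ ∈ W.Z := by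
  constructor
  · intro h; rwa [conj_of_comm (hnb r h)]
  · intro h
    have h1 := hnb _ h
    have h2 : E.nb * (E.nb * r * E.nb⁻¹) * E.nb⁻¹ = E.nb * r * E.nb⁻¹ := conj_of_comm h1
    rw [nb_nb] at h2
    rwa [h2]

theorem TQ {k : G} (hk : k ∈ E.T) (g : G) : g ∈ E.Q1 ↔ k * g * k⁻¹ ∈ E.Q1 := by
  have key : ∀ k ∈ E.T, ∀ g ∈ E.Q1, k * g * k⁻¹ ∈ E.Q1 := by
    rintro k hk _ ⟨q, x, s, rfl⟩
    obtain ⟨μ, ν, h1, h2, -, -⟩ := E.T_act k hk
    obtain ⟨ω, ω', h3, -⟩ := E.T_act' k hk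
    rw [E.q1_conj, h3, h2, h1]
    exact E.Q1.mul_mem (E.Q1.mul_mem (E.p1_mem1 _) (E.xc_mem1 _)) (E.xa_mem1 _)
  refine ⟨key k hk g, fun h => ?_⟩
  have := key k⁻¹ (E.T.inv_mem hk) _ h
  have e : k⁻¹ * (k * g * k⁻¹) * k⁻¹⁻¹ = g := by group
  rwa [e] at this

theorem TZ {k : G} (hk : k ∈ E.T) (r : G) : r ∈ W.Z ↔ k * r * k⁻¹ ∈ W.Z := by
  refine ⟨W.rootZ.conj_T k hk r, fun h => ?_⟩
  have := W.rootZ.conj_T k⁻¹ (E.T.inv_mem hk) _ h
  have e : k⁻¹ * (k * r * k⁻¹) * k⁻¹⁻¹ = r := by group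
  rwa [e] at this

/-- conjugation of `xa` by `p2` -/
theorem p2_a (q : Tp B) (s : F) : ∃ c, E.p2 q * E.xa s * (E.p2 q)⁻¹ =
    E.xa s * (E.p1 (Tp.sm (B.s s) q) * E.xc c) := by
  refine ⟨s * B.s q.c, ?_⟩
  have h := E.a_2 s q
  have h1 : E.xa s * E.p2 q * (E.xa s)⁻¹ * (E.p2 q)⁻¹ = E.p1 (Tp.sm (B.s s) q) * E.xc (s * B.s q.c) := by
    rw [h]; group
  have h2 : (E.xa s)⁻¹ = E.xa s := WEnv.inv_of_sq (E.toWEnv.xa_sq s)
  rw [h2] at h1
  rw [← h1]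
  calc E.p2 q * E.xa s * (E.p2 q)⁻¹ = (E.xa s * E.xa s) * E.p2 q * E.xa s * (E.p2 q)⁻¹ := by
        rw [E.toWEnv.xa_sq, one_mul]
    _ = _ := by group

theorem p2_1 (q r : Tp B) : ∃ c, E.p2 q * E.p1 r * (E.p2 q)⁻¹ = E.p1 r * E.xc c := by
  refine ⟨q.w * B.s r.w, ?_⟩
  have h := E.one_two r⁻¹ q
  rw [← E.p1_inv, inv_inv] at h
  calc E.p2 q * E.p1 r * (E.p2 q)⁻¹ = E.p1 r * ((E.p1 r)⁻¹ * E.p2 q * E.p1 r) * (E.p2 q)⁻¹ := by group
    _ = E.p1 r * (E.xc (q.w * B.s r.w) * E.p2 q) * (E.p2 q)⁻¹ := by rw [h, Tp.inv_w]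
    _ = _ := by group

theorem p2Q (q : Tp B) (g : G) : g ∈ E.Q1 ↔ E.p2 q * g * (E.p2 q)⁻¹ ∈ E.Q1 := by
  have key : ∀ q, ∀ g ∈ E.Q1, E.p2 q * g * (E.p2 q)⁻¹ ∈ E.Q1 := by
    rintro q _ ⟨r, x, s, rfl⟩
    obtain ⟨c, hc⟩ := p2_a (E := E) q s
    obtain ⟨d, hd⟩ := p2_1 (E := E) q r
    rw [E.q1_conj, hc, hd, conj_of_comm (E.c_2 x q).symm]
    exact E.Q1.mul_mem (E.Q1.mul_mem (E.Q1.mul_mem (E.p1_mem1 _) (E.xc_mem1 _)) (E.xc_mem1 _))
      (E.Q1.mul_mem (E.xa_mem1 _) (E.Q1.mul_mem (E.p1_mem1 _) (E.xc_mem1 _)))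
  refine ⟨key q g, fun h => ?_⟩
  have := key q⁻¹ _ h
  rw [← E.p2_inv] at this
  have e : (E.p2 q)⁻¹ * (E.p2 q * g * (E.p2 q)⁻¹) * (E.p2 q)⁻¹⁻¹ = g := by group
  rwa [e] at this

theorem p2Z (q : Tp B) (r : G) : r ∈ W.Z ↔ E.p2 q * r * (E.p2 q)⁻¹ ∈ W.Z := by
  have key : ∀ q, ∀ r ∈ W.Z, E.p2 q * r * (E.p2 q)⁻¹ = r := fun q r hr =>
    conj_of_comm (W.Z_Q r hr _ (E.p2_memQ q)).symm
  refine ⟨fun h => by rwa [key q r h], fun h => ?_⟩
  have h1 := key q⁻¹ _ h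
  rw [← E.p2_inv] at h1
  have e : (E.p2 q)⁻¹ * (E.p2 q * r * (E.p2 q)⁻¹) * (E.p2 q)⁻¹⁻¹ = r := by group
  rw [e] at h1
  rwa [h1]

theorem nb_N (hnb : NbZ E W) {n : G} (hn : InN W n) : InN W (E.nb * n * E.nb⁻¹) :=
  conj_InN hn (nbZ W hnb) nbQ E.t_nb.symm

theorem T_N {k n : G} (hk : k ∈ E.T) (hn : InN W n) : InN W (k * n * k⁻¹) :=
  conj_InN hn (TZ W hk) (TQ hk) (E.T_t k hk).symm

theorem p2_N (q : Tp B) {n : G} (hn : InN W n) : InN W (E.p2 q * n * (E.p2 q)⁻¹) :=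
  conj_InN hn (p2Z W q) (p2Q q) (E.t_2 q).symm

theorem A_N (hnb : NbZ E W) {a : G} (ha : a ∈ A W) : InN W a := by
  have h1 := nb_N W hnb (C_mem ((mem_A W).1 ha))
  rwa [nb_nb] at h1

/-! ### `N₁ → Q₁` is onto -/

/-- `g` is the displacement of an element of `N₁` -/
def Disp (g : G) : Prop := ∃ n, InN W n ∧ ∃ r ∈ W.Z, n * E.t * n⁻¹ = r * g * E.t

variable {W}

theorem Disp.mul {g k : G} (hg : Disp W g) (hk : Disp W k) (hk1 : k ∈ E.Q1) : Disp W (k * g) := by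
  obtain ⟨m, hm, r, hr, h1⟩ := hg
  obtain ⟨n, hn, s, hs, h2⟩ := hk
  obtain ⟨s', hs', h3⟩ := hm.q k hk1
  refine ⟨m * n, hm.mul hn, s * s' * r, W.Z.mul_mem (W.Z.mul_mem hs hs') hr, ?_⟩
  rw [mc, h2, cm, cm, h3, conj_of_comm (hm.z s hs), h1]
  calc s * (s' * k) * (r * g * E.t) = s * s' * (k * r) * g * E.t := by group
    _ = _ := by rw [← Z_Q1 W hr hk1]; group

theorem disp_c (x : F) : Disp W (E.xc x) := by
  obtain ⟨n, hn, h⟩ := W.rootC.onto x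
  exact ⟨n, C_mem hn, 1, W.Z.one_mem, by rw [h, one_mul]⟩

theorem disp_a (hnb : NbZ E W) (x : F) : Disp W (E.xa x) := by
  obtain ⟨n, hn, h⟩ := (rootA W).onto x
  exact ⟨n, A_N W hnb hn, 1, W.Z.one_mem, by rw [h, one_mul]⟩

theorem disp_1 (hnb : NbZ E W) (q : Tp B) : Disp W (E.p1 q) := by
  obtain ⟨n, hn, h⟩ := (rootA W).onto 1
  obtain ⟨c, hc⟩ := p2_a (E := E) q 1
  have e1 : Tp.sm (B.s 1) q = q := by rw [map_one]; ext <;> simp
  rw [e1] at hc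
  have h1 : Disp W (E.xa 1 * (E.p1 q * E.xc c)) := by
    refine ⟨E.p2 q * n * (E.p2 q)⁻¹, p2_N W q (A_N W hnb hn), 1, W.Z.one_mem, ?_⟩
    have e2 : (E.p2 q)⁻¹ * E.t * E.p2 q = E.t := by rw [comm_inv (E.t_2 q).symm]; group
    calc E.p2 q * n * (E.p2 q)⁻¹ * E.t * (E.p2 q * n * (E.p2 q)⁻¹)⁻¹
        = E.p2 q * (n * ((E.p2 q)⁻¹ * E.t * E.p2 q) * n⁻¹) * (E.p2 q)⁻¹ := by group
      _ = (E.p2 q * E.xa 1 * (E.p2 q)⁻¹) * (E.p2 q * E.t * (E.p2 q)⁻¹) := by rw [e2, h]; group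
      _ = _ := by rw [hc, conj_of_comm (E.t_2 q).symm, one_mul]
  have h2 := h1.mul (disp_a hnb 1) (E.xa_mem1 1)
  have h3 := (disp_c (W := W) c).mul h2 (E.Q1.mul_mem (E.xa_mem1 1)
    (E.Q1.mul_mem (E.xa_mem1 1) (E.Q1.mul_mem (E.p1_mem1 _) (E.xc_mem1 _))))
  have e3 : E.xa 1 * (E.xa 1 * (E.p1 q * E.xc c)) * E.xc c = E.p1 q := by
    calc E.xa 1 * (E.xa 1 * (E.p1 q * E.xc c)) * E.xc c
        = (E.xa 1 * E.xa 1) * E.p1 q * (E.xc c * E.xc c) := by group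
      _ = E.p1 q := by rw [E.toWEnv.xa_sq, E.toWEnv.xc_sq, one_mul, mul_one]
  rwa [e3] at h3

end QL

end Cfsg.Agent.StdRank2.UFive
end

-- part: StdRank2/UFive/GrowP
section
/-!
# `QGrown → Grown` (type `U₅(q)`), part 1: `[P, B] = 1`, `[A, B] ≤ Z C`
-/

set_option autoImplicit false
set_option linter.unusedSectionVars false

namespace Cfsg.Agent.StdRank2.UFive

open Subgroup Cfsg.Agent.StdRank2.UFour

variable {F : Type*} [Field F] [CharP F 2] {B : Bar F} {G : Type*} [Group G]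

namespace QGrown

open NOne RootLem

variable {E : Env B G} (S : QGrown E)

/-! ### Generalities -/

/-- if `y` commutes with `x` and with `p⁻¹ x p` then `[p, y]` commutes with `x`. -/
theorem comm_lem {p y x : G} (h1 : y * x = x * y) (h2 : y * (p⁻¹ * x * p) = p⁻¹ * x * p * y) :
    p * y * p⁻¹ * y⁻¹ * x = x * (p * y * p⁻¹ * y⁻¹) := by
  have h3 := comm_inv h1
  calc p * y * p⁻¹ * y⁻¹ * x = p * y * p⁻¹ * (y⁻¹ * x) := by group
    _ = p * (y * (p⁻¹ * x * p)) * p⁻¹ * y⁻¹ := by rw [h3]; group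
    _ = _ := by rw [h2]; group

theorem Z_sq {r : G} (hr : r ∈ S.Z) : r * r = 1 := S.rootZ.sq r hr
theorem C_sq {r : G} (hr : r ∈ S.C) : r * r = 1 := S.rootC.sq r hr
theorem B_sq {r : G} (hr : r ∈ S.Bb) : r * r = 1 := S.rootB.sq r hr
theorem A_sq {r : G} (hr : r ∈ S.A) : r * r = 1 := S.rootA.sq r hr
theorem A_inv {r : G} (hr : r ∈ S.A) : r⁻¹ = r := WEnv.inv_of_sq (S.A_sq hr)
theorem B_inv {r : G} (hr : r ∈ S.Bb) : r⁻¹ = r := WEnv.inv_of_sq (S.B_sq hr)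
theorem C_inv {r : G} (hr : r ∈ S.C) : r⁻¹ = r := WEnv.inv_of_sq (S.C_sq hr)
theorem Z_inv {r : G} (hr : r ∈ S.Z) : r⁻¹ = r := WEnv.inv_of_sq (S.Z_sq hr)

theorem xz_mem (k : B.K) : E.xz k ∈ S.Z := S.rootZ.mem k
theorem xc_mem (k : F) : E.xc k ∈ S.C := S.rootC.mem k
theorem xb_mem (k : B.K) : E.xb k ∈ S.Bb := S.rootB.mem k
theorem xa_mem (k : F) : E.xa k ∈ S.A := S.rootA.mem k

theorem P_z {p : G} (hp : p ∈ S.P) {r : G} (hr : r ∈ S.Z) : p * r = r * p := (S.Z_P r hr p hp).symm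
theorem P_c {p : G} (hp : p ∈ S.P) {r : G} (hr : r ∈ S.C) : p * r = r * p := (S.C_P r hr p hp).symm
theorem P_a {p : G} (hp : p ∈ S.P) {r : G} (hr : r ∈ S.A) : p * r = r * p := (S.A_P r hr p hp).symm

theorem t_sq' : E.t⁻¹ = E.t := E.toWEnv.t_inv

/-- conjugation of `t` by `p⁻¹` -/
theorem inv_t {p u : G} (h : p * E.t * p⁻¹ = u * E.t) : p⁻¹ * E.t * p = (p⁻¹ * u⁻¹ * p) * E.t := by
  have e : E.t = p⁻¹ * (u * E.t) * p := by rw [← h]; group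
  calc p⁻¹ * E.t * p = p⁻¹ * u⁻¹ * (u * E.t) * p := by group
    _ = (p⁻¹ * u⁻¹ * p) * (p⁻¹ * (u * E.t) * p) := by group
    _ = _ := by rw [← e]

/-- conjugation of `p` by `t` -/
theorem t_conj {p u : G} (h : p * E.t * p⁻¹ = u * E.t) : E.t * p * E.t⁻¹ = u⁻¹ * p := by
  have e : p * E.t = u * E.t * p := by rw [← h]; group
  calc E.t * p * E.t⁻¹ = u⁻¹ * (u * E.t * p) * E.t⁻¹ := by group
    _ = u⁻¹ * (p * E.t) * E.t⁻¹ := by rw [e]
    _ = _ := by group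

/-- no element centralising `Ẑ` is in `t W`. -/
theorem not_t {w v : G} (hw : ∀ r ∈ S.Z, w * r = r * w) (hv : ∀ r ∈ S.Z, v * r = r * v)
    (h : w = E.t * v) : False := by
  obtain ⟨r, hr, hrt⟩ := exists_not_comm S.toWGrown
  apply hrt
  have h1 := hw r hr
  have h2 := hv r hr
  rw [h] at h1
  have h3 : E.t * r * v = r * E.t * v := by
    calc E.t * r * v = E.t * (r * v) := by group
      _ = E.t * v * r := by rw [← h2]; group
      _ = r * (E.t * v) := h1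
      _ = _ := by group
  exact (mul_right_cancel h3).symm

theorem w_Z (v : B.V) {r : G} (hr : r ∈ S.Z) : E.w v * r = r * E.w v :=
  (S.Z_Q r hr _ (E.w_mem_Q v)).symm
theorem Z_Z {r s : G} (hr : r ∈ S.Z) (hs : s ∈ S.Z) : r * s = s * r := RootLem.comm S.rootZ hr hs
theorem C_C {r s : G} (hr : r ∈ S.C) (hs : s ∈ S.C) : r * s = s * r := RootLem.comm S.rootC hr hs
theorem B_B {r s : G} (hr : r ∈ S.Bb) (hs : s ∈ S.Bb) : r * s = s * r := RootLem.comm S.rootB hr hs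
theorem A_A' {r s : G} (hr : r ∈ S.A) (hs : s ∈ S.A) : r * s = s * r := RootLem.comm S.rootA hr hs

/-- An element commuting with `t` and `Q` and centralising `Ẑ` is in `W`. -/
theorem mem_W {w : G} (ht : w * E.t = E.t * w) (hQ : ∀ g ∈ E.Q, w * g = g * w)
    (hZ : ∀ r ∈ S.Z, w * r = r * w) : ∃ v, w = E.w v := by
  obtain ⟨v, h | h⟩ := E.cent_w ht hQ
  · exact ⟨v, h⟩
  · exact (S.not_t hZ (fun r hr => S.w_Z v hr) h).elim

/-- commuting with generators of `Q` -/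
theorem comm_Q {w : G} (h1 : ∀ q, w * E.p1 q = E.p1 q * w) (hc : ∀ x, w * E.xc x = E.xc x * w)
    (h2 : ∀ q, w * E.p2 q = E.p2 q * w) : ∀ g ∈ E.Q, w * g = g * w := by
  intro g hg
  obtain ⟨q, x, r, rfl⟩ := (E.mem_Q g).1 hg
  exact comm_mul (comm_mul (h1 q) (hc x)) (h2 r)

/-- the only elements of `W` commuting with `X_a` are in `Z`. -/
theorem w_of_comm_a {v : B.V} (h : ∀ s, E.xa s * E.w v = E.w v * E.xa s) : E.w v = E.xz v.1 := by
  have h1 : ∀ s, B.ma s v = v := fun s =>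
    E.toWEnv.w_injective (by rw [← E.conj_ma, conj_of_comm (h s)])
  have h3 : v.2.2 = 0 := by
    have := congrArg (fun v : B.V => v.2.1) (h1 1)
    change v.2.1 + 1 * ((v.2.2 : B.K) : F) = v.2.1 at this
    rw [one_mul] at this
    exact Subtype.ext (add_eq_left.1 this)
  have h2 : v.2.1 = 0 := by
    by_contra hne
    obtain ⟨s, hs⟩ := Env.tr_ne (B := B) hne
    have := congrArg (fun v : B.V => v.1) (h1 s)
    change v.1 + B.tr (s * B.s v.2.1) + B.nm s * v.2.2 = v.1 at this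
    rw [h3, mul_zero, add_zero] at this
    exact hs (add_eq_left.1 this)
  unfold WEnv.w
  rw [h2, h3, E.xc_zero, E.xb_zero, mul_one, mul_one]

/-! ### `[P, B] = 1` -/

theorem P_xb {p : G} (hp : p ∈ S.P) (k : B.K) : p * E.xb k = E.xb k * p := by
  obtain ⟨c, hc, h⟩ := S.P_2 p hp (Tp.ofK k)
  rw [E.p2_K] at h
  obtain ⟨r, hr, q, ht⟩ := S.P_t p hp
  have hu1 : (r * E.p1 q)⁻¹ * E.xb k = E.xb k * (r * E.p1 q)⁻¹ := by
    apply comm_inv
    have e1 := S.Z_Q r hr _ (E.b_mem k)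
    have e2 := E.b_Q k _ (E.p1_memQ q)
    rw [mul_assoc, ← e2, ← mul_assoc, e1, mul_assoc]
  have hu2 : (r * E.p1 q)⁻¹ * c = c * (r * E.p1 q)⁻¹ := by
    apply comm_inv
    have e1 := S.Z_C r hr _ hc
    have e2 := S.C_Q c hc _ (E.p1_memQ q)
    rw [mul_assoc, ← e2, ← mul_assoc, e1, mul_assoc]
  have ht2 := t_conj ht
  have hct : c * E.t = E.t * c := by
    have h1 : E.t * (p * E.xb k * p⁻¹) * E.t⁻¹ = c * E.xb k := by
      calc E.t * (p * E.xb k * p⁻¹) * E.t⁻¹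
          = (E.t * p * E.t⁻¹) * (E.t * E.xb k * E.t⁻¹) * (E.t * p * E.t⁻¹)⁻¹ := by group
        _ = (r * E.p1 q)⁻¹ * (p * E.xb k * p⁻¹) * (r * E.p1 q) := by
            rw [ht2, conj_of_comm (E.t_b k)]; group
        _ = ((r * E.p1 q)⁻¹ * c) * E.xb k * (r * E.p1 q) := by rw [h]; group
        _ = c * ((r * E.p1 q)⁻¹ * E.xb k) * (r * E.p1 q) := by rw [hu2]; group
        _ = _ := by rw [hu1]; group
    rw [h] at h1
    have h2 : E.t * (c * E.xb k) * E.t⁻¹ = (E.t * c * E.t⁻¹) * E.xb k := by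
      calc E.t * (c * E.xb k) * E.t⁻¹ = (E.t * c * E.t⁻¹) * (E.t * E.xb k * E.t⁻¹) := by group
        _ = _ := by rw [conj_of_comm (E.t_b k)]
    rw [h2] at h1
    exact (comm_of_conj (mul_right_cancel h1)).symm
  obtain ⟨δ, rfl⟩ := S.rootC.cent c hc hct
  have hδ : δ = 0 := by
    by_contra hne
    obtain ⟨s, hs⟩ := Env.tr_ne (B := B) hne
    apply hs
    apply Env.xz_inj (E := E)
    have e1 := S.P_a hp (S.xa_mem s)
    have e2 := E.a_b s k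
    have e3 := E.a_c s δ
    have e4 := S.P_z hp (S.xz_mem (B.nm s * k))
    have e5 := S.P_c hp (S.xc_mem (s * k))
    have h1 : p * (E.xa s * E.xb k * (E.xa s)⁻¹) * p⁻¹ =
        E.xz (B.tr (s * B.s δ)) * E.xc δ * (E.xz (B.nm s * k) * E.xc (s * k) * E.xb k) := by
      calc p * (E.xa s * E.xb k * (E.xa s)⁻¹) * p⁻¹
          = (p * E.xa s * p⁻¹) * (p * E.xb k * p⁻¹) * (p * E.xa s * p⁻¹)⁻¹ := by group
        _ = E.xa s * (E.xc δ * E.xb k) * (E.xa s)⁻¹ := by rw [conj_of_comm e1, h]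
        _ = (E.xa s * E.xc δ * (E.xa s)⁻¹) * (E.xa s * E.xb k * (E.xa s)⁻¹) := by group
        _ = _ := by rw [e2, e3]
    have h2 : p * (E.xa s * E.xb k * (E.xa s)⁻¹) * p⁻¹ =
        E.xz (B.nm s * k) * E.xc (s * k) * (E.xc δ * E.xb k) := by
      rw [e2]
      calc p * (E.xz (B.nm s * k) * E.xc (s * k) * E.xb k) * p⁻¹
          = (p * E.xz (B.nm s * k) * p⁻¹) * (p * E.xc (s * k) * p⁻¹) * (p * E.xb k * p⁻¹) := by group
        _ = _ := by rw [conj_of_comm e4, conj_of_comm e5, h]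
    rw [h2] at h1
    have h3 : E.xz (B.nm s * k) * E.xc (s * k) * (E.xc δ * E.xb k) =
        E.xc δ * (E.xz (B.nm s * k) * E.xc (s * k) * E.xb k) := by
      have e6 := E.z_c (B.nm s * k) δ
      have e7 : E.xc (s * k) * E.xc δ = E.xc δ * E.xc (s * k) := by
        rw [← E.xc_add, ← E.xc_add, add_comm]
      calc E.xz (B.nm s * k) * E.xc (s * k) * (E.xc δ * E.xb k)
          = E.xz (B.nm s * k) * (E.xc (s * k) * E.xc δ) * E.xb k := by group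
        _ = (E.xz (B.nm s * k) * E.xc δ) * E.xc (s * k) * E.xb k := by rw [e7]; group
        _ = _ := by rw [e6]; group
    rw [h3, mul_assoc (E.xz _) (E.xc δ)] at h1
    exact right_eq_mul.1 h1
  rw [hδ, E.xc_zero, one_mul] at h
  exact comm_of_conj h

/-- `h₀` on the root groups -/
theorem su_B [Finite G] (hl : ∀ x : F, (S.l : F) * x = x → x = 0) {y : G} (hy : y ∈ S.Bb) :
    ∃ b ∈ S.Bb, y = b⁻¹ * (E.hh 1 S.l * b * (E.hh 1 S.l)⁻¹) := by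
  have key : ∀ c : B.K, E.xb (B.nm (S.l : F) * c) = E.xb c → E.xb c = 1 := by
    intro c hc
    have h1 : B.nm (S.l : F) * c = c := by
      have h2 : E.w (0, 0, B.nm (S.l : F) * c) = E.w (0, 0, c) := by rw [E.w_b, E.w_b, hc]
      have h3 := congrArg (fun v : B.V => v.2.2) (E.toWEnv.w_injective h2)
      exact h3
    have h2 : (S.l : F) * ((S.l : F) * c) = c := by
      have := congrArg Subtype.val h1
      change (S.l : F) * B.s (S.l : F) * (c : F) = c at this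
      rw [S.l_K] at this
      linear_combination this
    have h3 : (S.l : F) * (c + (S.l : F) * c) = c + (S.l : F) * c := by
      rw [mul_add, h2, add_comm]
    have h4 := hl _ h3
    have h5 := hl _ (Tp.eq_of (by rw [add_comm]; exact h4))
    have h6 : c = 0 := Subtype.ext h5
    rw [h6, E.xb_zero]
  refine RootLem.su S.rootB (E.hh_mem _ _) (fun c hc => ?_) (fun c hc => ?_) hy
  · apply key
    have := E.hh_b 1 S.l c
    rw [← this, conj_of_comm hc]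
  · apply key
    have := mul_right_cancel hc
    rw [E.hh_b] at this
    exact this

theorem l_fix {x : F} (h : (S.l : F) * x = x) : x = 0 := by
  by_contra hx
  exact S.l_ne (mul_right_cancel₀ hx (h.trans (one_mul x).symm))

theorem P_B [Finite G] {p y : G} (hp : p ∈ S.P) (hy : y ∈ S.Bb) : p * y = y * p := by
  -- `[p, y] ∈ Z`
  have main : ∀ y ∈ S.Bb, ∃ k, p * y * p⁻¹ = E.xz k * y := by
    intro y hy
    obtain ⟨k, hk⟩ := S.rootB.conj_t y hy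
    obtain ⟨r, hr, q, hpt⟩ := S.P_t p hp
    have hyQ : ∀ g ∈ E.Q, y * g = g * y := S.B_Q y hy
    set u := r * E.p1 q with hu
    -- commutation of `[p, y]` with `Q`
    have c1 : ∀ q, p * y * p⁻¹ * y⁻¹ * E.p1 q = E.p1 q * (p * y * p⁻¹ * y⁻¹) := by
      intro q
      apply comm_lem (hyQ _ (E.p1_memQ q))
      obtain ⟨ζ, hζ, h⟩ := S.P_comm _ (S.P.inv_mem hp) _ (S.p1_mem q)
      rw [inv_inv] at h
      rw [h]
      exact comm_mul (S.Z_B ζ hζ y hy).symm (hyQ _ (E.p1_memQ q))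
    have c2 : ∀ x, p * y * p⁻¹ * y⁻¹ * E.xc x = E.xc x * (p * y * p⁻¹ * y⁻¹) := by
      intro x
      apply comm_lem (hyQ _ (E.c_mem x))
      have h := S.P_c (S.P.inv_mem hp) (S.xc_mem x)
      have h2 := conj_of_comm h
      rw [inv_inv] at h2
      rw [h2]
      exact hyQ _ (E.c_mem x)
    have c3 : ∀ q, p * y * p⁻¹ * y⁻¹ * E.p2 q = E.p2 q * (p * y * p⁻¹ * y⁻¹) := by
      intro q
      apply comm_lem (hyQ _ (E.p2_memQ q))
      obtain ⟨c, hc, h⟩ := S.P_2 _ (S.P.inv_mem hp) q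
      rw [inv_inv] at h
      rw [h]
      exact comm_mul (S.C_B c hc y hy).symm (hyQ _ (E.p2_memQ q))
    have c4 : ∀ r ∈ S.Z, p * y * p⁻¹ * y⁻¹ * r = r * (p * y * p⁻¹ * y⁻¹) := by
      intro r hr
      apply comm_lem (S.Z_B r hr y hy).symm
      have h2 := conj_of_comm (S.P_z (S.P.inv_mem hp) hr)
      rw [inv_inv] at h2
      rw [h2]
      exact (S.Z_B r hr y hy).symm
    -- `y` commutes with `p⁻¹ u⁻¹ p`
    have hup : ∃ ζ ∈ S.Z, p⁻¹ * u⁻¹ * p = ζ * (E.p1 q)⁻¹ := by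
      obtain ⟨ζ, hζ, h⟩ := S.P_comm _ (S.P.inv_mem hp) _ (S.P.inv_mem (S.p1_mem q))
      rw [inv_inv] at h
      refine ⟨ζ * r⁻¹, S.Z.mul_mem hζ (S.Z.inv_mem hr), ?_⟩
      have h2 := conj_of_comm (S.P_z (S.P.inv_mem hp) (S.Z.inv_mem hr))
      rw [inv_inv] at h2
      have h3 := S.P_z (S.P.inv_mem (S.p1_mem q)) (S.Z.inv_mem hr)
      calc p⁻¹ * u⁻¹ * p = (p⁻¹ * (E.p1 q)⁻¹ * p) * (p⁻¹ * r⁻¹ * p) := by rw [hu]; group
        _ = ζ * ((E.p1 q)⁻¹ * r⁻¹) := by rw [h, h2]; group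
        _ = _ := by rw [h3]; group
    obtain ⟨ζ, hζ, hζ2⟩ := hup
    have hyu : y * (p⁻¹ * u⁻¹ * p) = p⁻¹ * u⁻¹ * p * y := by
      rw [hζ2]
      exact comm_mul (S.Z_B ζ hζ y hy).symm (hyQ _ (E.Q.inv_mem (E.p1_memQ q)))
    have hbu : E.xb k * (p⁻¹ * u⁻¹ * p) = p⁻¹ * u⁻¹ * p * E.xb k := by
      rw [hζ2]
      exact comm_mul (S.Z_Q ζ hζ _ (E.b_mem k)).symm (E.b_Q k _ (E.Q.inv_mem (E.p1_memQ q)))
    have c5 : p * y * p⁻¹ * y⁻¹ * E.t = E.t * (p * y * p⁻¹ * y⁻¹) := by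
      apply comm_of_conj
      have e1 : y⁻¹ * E.t * y = E.xb k * E.t := by
        have h1 := S.B_inv hy
        have h2 : y⁻¹ * E.t * y = y * E.t * y⁻¹ := by rw [h1]
        rw [h2, hk]
      have e2 := inv_t (E := E) hpt
      have e3 := conj_of_comm (S.P_xb (S.P.inv_mem hp) k)
      rw [inv_inv] at e3
      calc p * y * p⁻¹ * y⁻¹ * E.t * (p * y * p⁻¹ * y⁻¹)⁻¹
          = p * y * (p⁻¹ * (y⁻¹ * E.t * y) * p) * y⁻¹ * p⁻¹ := by group
        _ = p * y * ((p⁻¹ * E.xb k * p) * (p⁻¹ * E.t * p)) * y⁻¹ * p⁻¹ := by rw [e1]; group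
        _ = p * y * (E.xb k * ((p⁻¹ * u⁻¹ * p) * E.t)) * y⁻¹ * p⁻¹ := by rw [e2, e3]
        _ = p * ((y * E.xb k * y⁻¹) * (y * (p⁻¹ * u⁻¹ * p)) * y⁻¹ * (y * E.t * y⁻¹)) * p⁻¹ := by group
        _ = p * (E.xb k * (p⁻¹ * u⁻¹ * p) * (E.xb k * E.t)) * p⁻¹ := by
            rw [conj_of_comm (hyQ _ (E.b_mem k)), hyu, hk]; group
        _ = p * ((p⁻¹ * u⁻¹ * p) * (E.xb k * E.xb k) * E.t) * p⁻¹ := by rw [hbu]; group
        _ = p * ((p⁻¹ * u⁻¹ * p) * E.t) * p⁻¹ := by rw [E.xb_sq, mul_one]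
        _ = p * (p⁻¹ * E.t * p) * p⁻¹ := by rw [e2]
        _ = E.t := by group
    obtain ⟨v, hv⟩ := S.mem_W c5 (comm_Q c1 c2 c3) c4
    -- commutation with `X_a`
    have c6 : ∀ s, E.xa s * E.w v = E.w v * E.xa s := by
      intro s
      obtain ⟨r', hr', c', hc', h⟩ := S.a_B s y hy
      have e1 : y⁻¹ * E.xa s * y = r' * c' * E.xa s := by
        have e2 : E.xa s * y = r' * c' * y * E.xa s := by rw [← h]; group
        have e3 : y⁻¹ * (r' * c') = r' * c' * y⁻¹ :=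
          comm_inv (comm_mul (S.Z_B r' hr' y hy).symm (S.C_B c' hc' y hy).symm)
        calc y⁻¹ * E.xa s * y = y⁻¹ * (E.xa s * y) := by group
          _ = (y⁻¹ * (r' * c')) * y * E.xa s := by rw [e2]; group
          _ = _ := by rw [e3]; group
      have e4 : p⁻¹ * (r' * c' * E.xa s) * p = r' * c' * E.xa s := by
        have h1 : p⁻¹ * (r' * c' * E.xa s) = r' * c' * E.xa s * p⁻¹ :=
          comm_mul (comm_mul (S.P_z (S.P.inv_mem hp) hr') (S.P_c (S.P.inv_mem hp) hc'))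
            (S.P_a (S.P.inv_mem hp) (S.xa_mem s))
        rw [h1]; group
      have e5 : (p * y * p⁻¹ * y⁻¹) * E.xa s * (p * y * p⁻¹ * y⁻¹)⁻¹ = E.xa s := by
        calc (p * y * p⁻¹ * y⁻¹) * E.xa s * (p * y * p⁻¹ * y⁻¹)⁻¹
            = p * y * (p⁻¹ * (y⁻¹ * E.xa s * y) * p) * y⁻¹ * p⁻¹ := by group
          _ = p * (y * (y⁻¹ * E.xa s * y) * y⁻¹) * p⁻¹ := by rw [e1, e4]; group
          _ = p * E.xa s * p⁻¹ := by group
          _ = E.xa s := conj_of_comm (S.P_a hp (S.xa_mem s))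
      rw [← hv]
      exact (comm_of_conj e5).symm
    refine ⟨v.1, ?_⟩
    rw [← w_of_comm_a c6, ← hv]; group
  -- kill
  obtain ⟨b, hb, rfl⟩ := S.su_B (fun x hx => S.l_fix hx) hy
  obtain ⟨k, hk⟩ := main b hb
  have h0 := S.P_h p hp
  have hz : E.hh 1 S.l * E.xz k * (E.hh 1 S.l)⁻¹ = E.xz k := by
    rw [E.hh_z, Units.val_one, B.nm_one, one_mul]
  have hbk : b * E.xz k = E.xz k * b := (S.Z_B _ (S.xz_mem k) b hb).symm
  apply comm_of_conj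
  have e0 : p * E.hh 1 S.l = E.hh 1 S.l * p := h0.symm
  have e0' : (E.hh 1 S.l)⁻¹ * p⁻¹ = p⁻¹ * (E.hh 1 S.l)⁻¹ := by
    rw [← mul_inv_rev, e0, mul_inv_rev]
  calc p * (b⁻¹ * (E.hh 1 S.l * b * (E.hh 1 S.l)⁻¹)) * p⁻¹
      = (p * b * p⁻¹)⁻¹ * ((p * E.hh 1 S.l) * b * ((E.hh 1 S.l)⁻¹ * p⁻¹)) := by group
    _ = (p * b * p⁻¹)⁻¹ * (E.hh 1 S.l * (p * b * p⁻¹) * (E.hh 1 S.l)⁻¹) := by rw [e0, e0']; group
    _ = (E.xz k * b)⁻¹ * ((E.hh 1 S.l * E.xz k * (E.hh 1 S.l)⁻¹) *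
          (E.hh 1 S.l * b * (E.hh 1 S.l)⁻¹)) := by rw [hk]; group
    _ = b⁻¹ * (E.hh 1 S.l * b * (E.hh 1 S.l)⁻¹) := by rw [hz]; group

end QGrown

end Cfsg.Agent.StdRank2.UFive
end

-- part: StdRank2/UFive/GrowAB
section
/-!
# `QGrown → Grown` (type `U₅(q)`), part 2: `[A, B] ≤ Z C`
-/

set_option autoImplicit false
set_option linter.unusedSectionVars false

namespace Cfsg.Agent.StdRank2.UFive

open Subgroup Cfsg.Agent.StdRank2.UFour

variable {F : Type*} [Field F] [CharP F 2] {B : Bar F} {G : Type*} [Group G]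

namespace QGrown

open NOne RootLem

variable {E : Env B G} (S : QGrown E)

theorem w_zero_of_comm {q : Tp B} (h : ∀ r, E.p1 q * E.p1 r = E.p1 r * E.p1 q) : q.w = 0 := by
  by_contra hne
  obtain ⟨s, hs⟩ := Env.tr_ne (B := B) hne
  obtain ⟨c, hc⟩ := B.tr_surj (B.nm s)
  have h1 := h ⟨s, c, congrArg Subtype.val hc⟩
  rw [← E.p1_mul, ← E.p1_mul] at h1
  have e1 : ∀ q, E.p1 q = E.q1 q 0 0 := fun q => by
    unfold Env.q1; rw [E.toWEnv.xc_zero, E.toWEnv.xa_zero, mul_one, mul_one]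
  rw [e1, e1] at h1
  have h2 := congrArg Tp.c (E.q1_injective h1).1
  simp only [Tp.mul_c] at h2
  apply hs
  apply Subtype.ext
  change s * B.s q.w + B.s (s * B.s q.w) = 0
  rw [map_mul, B.invol]
  have h4 := CharTwo.add_self_eq_zero (q.w * B.s s)
  linear_combination h2 + h4

theorem ofK_of_w {q : Tp B} (h : q.w = 0) : ∃ k, E.p1 q = E.xz k := by
  obtain ⟨k, hk⟩ := Env.exists_ofK (u := q) (v := 1) (by rw [h]; rfl)
  exact ⟨k, by rw [hk, mul_one, E.p1_K]⟩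

/-- an element of `P` commuting with `p1` is in `Z`. -/
theorem mem_Z_of_comm_p1 {g : G} (hg : g ∈ S.P) (h : ∀ q, g * E.p1 q = E.p1 q * g) : g ∈ S.Z := by
  obtain ⟨r, hr, q0, ht⟩ := S.P_t g hg
  have h1 := t_conj ht
  have h2 : ∀ q, (r * E.p1 q0)⁻¹ * E.p1 q = E.p1 q * (r * E.p1 q0)⁻¹ := by
    intro q
    have e1 : (r * E.p1 q0)⁻¹ = (E.t * g * E.t⁻¹) * g⁻¹ := by rw [h1]; group
    rw [e1]
    have e2 : E.t * E.p1 q = E.p1 q * E.t := E.t_1 q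
    have c1 : E.t * g * E.t⁻¹ * E.p1 q = E.p1 q * (E.t * g * E.t⁻¹) := by
      calc E.t * g * E.t⁻¹ * E.p1 q = E.t * g * (E.t⁻¹ * E.p1 q) := by group
        _ = E.t * (g * E.p1 q) * E.t⁻¹ := by rw [comm_inv e2]; group
        _ = (E.t * E.p1 q) * g * E.t⁻¹ := by rw [h]; group
        _ = _ := by rw [e2]; group
    have c2 := comm_inv (h q)
    rw [mul_assoc, c2, ← mul_assoc, c1]; group
  have h3 : ∀ q, E.p1 q0 * E.p1 q = E.p1 q * E.p1 q0 := by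
    intro q
    have h4 := comm_inv (h2 q)
    rw [inv_inv] at h4
    have h5 := S.P_z (S.p1_mem q) hr
    calc E.p1 q0 * E.p1 q = r⁻¹ * (r * E.p1 q0 * E.p1 q) := by group
      _ = r⁻¹ * (E.p1 q * r) * E.p1 q0 := by rw [h4]; group
      _ = _ := by rw [h5]; group
  obtain ⟨k, hk⟩ := ofK_of_w (E := E) (w_zero_of_comm h3)
  rw [hk] at ht
  obtain ⟨r1, hr1, q1, h4⟩ := S.P_cent g hg (r * E.xz k) (S.Z.mul_mem hr (S.xz_mem k)) ht
  have h5 : ∀ q, E.p1 q1 * E.p1 q = E.p1 q * E.p1 q1 := by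
    intro q
    have h6 := h q
    rw [h4] at h6
    have h7 := S.P_z (S.p1_mem q) hr1
    calc E.p1 q1 * E.p1 q = r1⁻¹ * (r1 * E.p1 q1 * E.p1 q) := by group
      _ = r1⁻¹ * (E.p1 q * r1) * E.p1 q1 := by rw [h6]; group
      _ = _ := by rw [h7]; group
  obtain ⟨k', hk'⟩ := ofK_of_w (E := E) (w_zero_of_comm h5)
  rw [h4, hk']
  exact S.Z.mul_mem hr1 (S.xz_mem k')

theorem A_xb {a : G} (ha : a ∈ S.A) (k : B.K) : ∃ r ∈ S.Z, ∃ c ∈ S.C, a * E.xb k * a⁻¹ = r * c * E.xb k := by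
  obtain ⟨g, hg, c, hc, h⟩ := S.A_2 a ha (Tp.ofK k)
  rw [E.p2_K] at h
  refine ⟨g, S.mem_Z_of_comm_p1 hg fun q => ?_, c, hc, h⟩
  have h1 : a * E.xb k * a⁻¹ * (E.xb k)⁻¹ * E.p1 q = E.p1 q * (a * E.xb k * a⁻¹ * (E.xb k)⁻¹) := by
    apply comm_lem (E.b_Q k _ (E.p1_memQ q))
    have h2 := conj_of_comm (S.A_P _ (S.A.inv_mem ha) _ (S.p1_mem q))
    rw [inv_inv] at h2
    rw [h2]
    exact E.b_Q k _ (E.p1_memQ q)
  rw [h] at h1
  have h2 := S.C_Q c hc _ (E.p1_memQ q)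
  have h3 : g * c * E.xb k * (E.xb k)⁻¹ = g * c := by group
  rw [h3] at h1
  calc g * E.p1 q = (g * (c * E.p1 q)) * c⁻¹ := by rw [h2]; group
    _ = (g * c * E.p1 q) * c⁻¹ := by group
    _ = _ := by rw [h1]; group

/-- `v t` an involution, `v ∈ Z C`: then `v ∈ X_z X_c`. -/
theorem ZC_inv {r c : G} (hr : r ∈ S.Z) (hc : c ∈ S.C) (h : r * c * E.t * (r * c * E.t) = 1) :
    ∃ x y, r = E.xz x ∧ c = E.xc y := by
  obtain ⟨x, hx⟩ := S.rootZ.conj_t r hr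
  obtain ⟨y, hy⟩ := S.rootC.conj_t c hc
  have e1 := t_conj hx
  have e2 := t_conj hy
  have h1 : r * c * ((E.xz x)⁻¹ * r * ((E.xc y)⁻¹ * c)) = 1 := by
    rw [← e1, ← e2]
    calc r * c * (E.t * r * E.t⁻¹ * (E.t * c * E.t⁻¹)) = r * c * (E.t * r * c * E.t⁻¹) := by group
      _ = 1 := by rw [← h, t_sq']; group
  have h2 : E.xz x * E.xc y * E.xb 0 = 1 := by
    have c1 : c * (E.xz x)⁻¹ = (E.xz x)⁻¹ * c := (comm_inv (S.Z_C _ (S.xz_mem x) c hc)).symm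
    have c2 : c * r = r * c := (S.Z_C r hr c hc).symm
    have c3 : c * (E.xc y)⁻¹ = (E.xc y)⁻¹ * c := (comm_inv (S.C_C (S.xc_mem y) hc)).symm
    have c4 : r * (E.xz x)⁻¹ = (E.xz x)⁻¹ * r := (comm_inv (S.Z_Z (S.xz_mem x) hr)).symm
    have e3 : r * c * ((E.xz x)⁻¹ * r * ((E.xc y)⁻¹ * c)) = (E.xz x)⁻¹ * (E.xc y)⁻¹ := by
      have c5 : r * (E.xc y)⁻¹ = (E.xc y)⁻¹ * r :=
        (comm_inv (S.Z_C r hr _ (S.xc_mem y)).symm).symm
      calc r * c * ((E.xz x)⁻¹ * r * ((E.xc y)⁻¹ * c))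
          = r * (c * (E.xz x)⁻¹) * r * (E.xc y)⁻¹ * c := by group
        _ = r * (E.xz x)⁻¹ * (c * r) * (E.xc y)⁻¹ * c := by rw [c1]; group
        _ = (r * (E.xz x)⁻¹) * r * (c * (E.xc y)⁻¹) * c := by rw [c2]; group
        _ = (E.xz x)⁻¹ * (r * r) * (E.xc y)⁻¹ * (c * c) := by rw [c4, c3]; group
        _ = _ := by rw [S.Z_sq hr, S.C_sq hc, mul_one, mul_one]
    rw [e3] at h1
    rw [E.xb_zero, mul_one, E.z_c]
    have : ((E.xz x)⁻¹ * (E.xc y)⁻¹)⁻¹ = 1 := by rw [h1, inv_one]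
    rw [← this]; group
  obtain ⟨hx0, hy0, -⟩ := E.w_inj _ _ _ h2
  rw [hx0, E.xz_zero, one_mul] at hx
  rw [hy0, E.xc_zero, one_mul] at hy
  obtain ⟨x', hx'⟩ := S.rootZ.cent r hr (comm_of_conj hx)
  obtain ⟨y', hy'⟩ := S.rootC.cent c hc (comm_of_conj hy)
  exact ⟨x', y', hx', hy'⟩

theorem xc_not_Z {y : F} (h : E.xc y ∈ S.Z) : y = 0 := by
  obtain ⟨x, hx⟩ := S.rootZ.cent _ h (E.t_c y).symm
  have h1 : E.xz x * E.xc y * E.xb 0 = 1 := by
    rw [← hx, ← E.xc_add, Bar.add_self, E.xc_zero, E.xb_zero, mul_one]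
  exact (E.w_inj _ _ _ h1).2.1

/-- `[a, X_b] ≤ Z` only for trivial elements -/
theorem A_xb_triv {a : G} (ha : a ∈ S.A) {z : B.K} {r : G} (hr : r ∈ S.Z)
    (h : a * E.xb z * a⁻¹ = r * E.xb z) : z = 0 ∨ a = 1 := by
  by_cases hz : z = 0
  · exact Or.inl hz
  right
  have hz' : (z : F) ≠ 0 := fun h0 => hz (Subtype.ext h0)
  -- for `xa s`
  have key : ∀ s, (∃ r ∈ S.Z, E.xa s * E.xb z * (E.xa s)⁻¹ = r * E.xb z) → s = 0 := by
    rintro s ⟨r, hr, h1⟩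
    rw [E.a_b] at h1
    have h2 := mul_right_cancel h1
    have h3 : E.xc (s * z) ∈ S.Z := by
      have : E.xc (s * z) = (E.xz (B.nm s * z))⁻¹ * r := by rw [← h2]; group
      rw [this]
      exact S.Z.mul_mem (S.Z.inv_mem (S.xz_mem _)) hr
    exact (mul_eq_zero.1 (S.xc_not_Z h3)).resolve_right hz'
  obtain ⟨s, hs⟩ := S.rootA.conj_t a ha
  have e1 := t_conj hs
  obtain ⟨x, hx⟩ := S.rootZ.conj_t r hr
  have e2 := t_conj hx
  have h1 : E.xa s * E.xb z * (E.xa s)⁻¹ = (r⁻¹ * ((E.xz x)⁻¹ * r)) * E.xb z := by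
    have h3 : (E.xa s)⁻¹ * (r * E.xb z) * E.xa s = (E.xz x)⁻¹ * r * E.xb z := by
      calc (E.xa s)⁻¹ * (r * E.xb z) * E.xa s = ((E.xa s)⁻¹ * a) * E.xb z * ((E.xa s)⁻¹ * a)⁻¹ := by
            rw [← h]; group
        _ = (E.t * a * E.t⁻¹) * E.xb z * (E.t * a * E.t⁻¹)⁻¹ := by rw [e1]
        _ = E.t * (a * (E.t⁻¹ * E.xb z * E.t) * a⁻¹) * E.t⁻¹ := by group
        _ = E.t * (a * E.xb z * a⁻¹) * E.t⁻¹ := by
            have : E.t⁻¹ * E.xb z * E.t = E.xb z := by rw [comm_inv (E.t_b z)]; group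
            rw [this]
        _ = (E.t * r * E.t⁻¹) * (E.t * E.xb z * E.t⁻¹) := by rw [h]; group
        _ = _ := by rw [e2, conj_of_comm (E.t_b z)]
    have h4 : (E.xa s)⁻¹ = E.xa s := WEnv.inv_of_sq (E.xa_sq s)
    have h5 : E.xa s * r = r * E.xa s := (S.Z_a r hr s).symm
    rw [h4] at h3 ⊢
    calc E.xa s * E.xb z * E.xa s = r⁻¹ * (r * E.xa s) * E.xb z * E.xa s := by group
      _ = r⁻¹ * (E.xa s * (r * E.xb z) * E.xa s) := by rw [← h5]; group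
      _ = _ := by rw [h3]; group
  have hs0 := key s ⟨_, S.Z.mul_mem (S.Z.inv_mem hr)
    (S.Z.mul_mem (S.Z.inv_mem (S.xz_mem x)) hr), h1⟩
  rw [hs0, E.xa_zero, one_mul] at hs
  obtain ⟨s', rfl⟩ := S.rootA.cent a ha (comm_of_conj hs)
  rw [key s' ⟨r, hr, h⟩, E.xa_zero]

theorem A_B [Finite G] {a y : G} (ha : a ∈ S.A) (hy : y ∈ S.Bb) :
    ∃ r ∈ S.Z, ∃ c ∈ S.C, a * y * a⁻¹ = r * c * y := by
  have hai := S.A_inv ha
  obtain ⟨s, hs⟩ := S.rootA.conj_t a ha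
  obtain ⟨k, hk⟩ := S.rootB.conj_t y hy
  have hyQ : ∀ g ∈ E.Q, y * g = g * y := S.B_Q y hy
  have haC : ∀ c ∈ S.C, ∃ ζ ∈ S.Z, a * c * a⁻¹ = ζ * c := S.A_C a ha
  have haZ : ∀ r ∈ S.Z, a * r = r * a := fun r hr => (S.Z_A r hr a ha).symm
  have hyZ : ∀ r ∈ S.Z, y * r = r * y := fun r hr => (S.Z_B r hr y hy).symm
  have hyC : ∀ r ∈ S.C, y * r = r * y := fun r hr => (S.C_B r hr y hy).symm
  -- commutation with `Q`
  have c1 : ∀ q, a * y * a⁻¹ * y⁻¹ * E.p1 q = E.p1 q * (a * y * a⁻¹ * y⁻¹) := by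
    intro q
    apply comm_lem (hyQ _ (E.p1_memQ q))
    have h2 := conj_of_comm (S.A_P _ (S.A.inv_mem ha) _ (S.p1_mem q))
    rw [inv_inv] at h2
    rw [h2]
    exact hyQ _ (E.p1_memQ q)
  have c2 : ∀ x, a * y * a⁻¹ * y⁻¹ * E.xc x = E.xc x * (a * y * a⁻¹ * y⁻¹) := by
    intro x
    apply comm_lem (hyQ _ (E.c_mem x))
    obtain ⟨ζ, hζ, h⟩ := S.A_C _ (S.A.inv_mem ha) _ (S.xc_mem x)
    rw [inv_inv] at h
    rw [h]
    exact comm_mul (hyZ ζ hζ) (hyQ _ (E.c_mem x))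
  have c3 : ∀ q, a * y * a⁻¹ * y⁻¹ * E.p2 q = E.p2 q * (a * y * a⁻¹ * y⁻¹) := by
    intro q
    apply comm_lem (hyQ _ (E.p2_memQ q))
    obtain ⟨g, hg, c, hc, h⟩ := S.A_2 _ (S.A.inv_mem ha) q
    rw [inv_inv] at h
    rw [h]
    exact comm_mul (comm_mul (S.P_B hg hy).symm (hyC c hc)) (hyQ _ (E.p2_memQ q))
  have c4 : ∀ r ∈ S.Z, a * y * a⁻¹ * y⁻¹ * r = r * (a * y * a⁻¹ * y⁻¹) := by
    intro r hr
    apply comm_lem (hyZ r hr)
    have h2 := conj_of_comm (S.Z_A r hr _ (S.A.inv_mem ha)).symm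
    rw [inv_inv] at h2
    rw [h2]
    exact hyZ r hr
  -- the displacement
  obtain ⟨r1, hr1, c1', hc1, e1⟩ := S.A_xb ha k
  have e1' : a⁻¹ * E.xb k * a = r1 * c1' * E.xb k := by
    have : a⁻¹ * E.xb k * a = a * E.xb k * a⁻¹ := by rw [hai]
    rw [this, e1]
  obtain ⟨r2, hr2, c2', hc2, h2⟩ := S.a_B s y hy
  have e2 : y * E.xa s * y⁻¹ = r2 * c2' * E.xa s := by
    have e3 : E.xa s * y = r2 * c2' * y * E.xa s := by rw [← h2]; group
    have e4 : y * E.xa s * y⁻¹ = y⁻¹ * (E.xa s * y) := by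
      have := S.B_inv hy
      rw [this]; group
    have e5 : y⁻¹ * (r2 * c2') = r2 * c2' * y⁻¹ :=
      comm_inv (comm_mul (hyZ r2 hr2) (hyC c2' hc2))
    rw [e4, e3]
    calc y⁻¹ * (r2 * c2' * y * E.xa s) = (y⁻¹ * (r2 * c2')) * y * E.xa s := by group
      _ = _ := by rw [e5]; group
  obtain ⟨ζ1, hζ1, e3⟩ := haC _ hc2
  obtain ⟨ζ2, hζ2, e4⟩ := S.a_C s _ hc1
  have e5 : E.xa s * E.xb k * E.xa s = E.xz (B.nm s * k) * E.xc (s * k) * E.xb k := by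
    have h4 : (E.xa s)⁻¹ = E.xa s := WEnv.inv_of_sq (E.xa_sq s)
    have := E.a_b s k
    rwa [h4] at this
  have hbt : y⁻¹ * E.t * y = E.xb k * E.t := by
    have h2 : y⁻¹ * E.t * y = y * E.t * y⁻¹ := by rw [S.B_inv hy]
    rw [h2, hk]
  have hat : a⁻¹ * E.t * a = E.xa s * E.t := by
    have h2 : a⁻¹ * E.t * a = a * E.t * a⁻¹ := by rw [hai]
    rw [h2, hs]
  have hbC : ∀ c ∈ S.C, E.xb k * c = c * E.xb k := fun c hc => (S.C_Q c hc _ (E.b_mem k)).symm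
  have hbZ : ∀ c ∈ S.Z, E.xb k * c = c * E.xb k := fun c hc => (S.Z_Q c hc _ (E.b_mem k)).symm
  have key : ∃ r ∈ S.Z, ∃ c ∈ S.C,
      (a * y * a⁻¹ * y⁻¹) * E.t * (a * y * a⁻¹ * y⁻¹)⁻¹ = r * c * E.t := by
    refine ⟨r2 * ζ1 * r1 * ζ2 * E.xz (B.nm s * k), ?_, c2' * c1' * E.xc (s * k), ?_, ?_⟩
    · exact S.Z.mul_mem (S.Z.mul_mem (S.Z.mul_mem (S.Z.mul_mem hr2 hζ1) hr1) hζ2) (S.xz_mem _)
    · exact S.C.mul_mem (S.C.mul_mem hc2 hc1) (S.xc_mem _)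
    · calc (a * y * a⁻¹ * y⁻¹) * E.t * (a * y * a⁻¹ * y⁻¹)⁻¹
          = a * y * ((a⁻¹ * (y⁻¹ * E.t * y) * a)) * y⁻¹ * a⁻¹ := by group
        _ = a * y * ((a⁻¹ * E.xb k * a) * (a⁻¹ * E.t * a)) * y⁻¹ * a⁻¹ := by rw [hbt]; group
        _ = a * (y * (r1 * c1') * y⁻¹) * (y * E.xb k * y⁻¹) * (y * E.xa s * y⁻¹) * (y * E.t * y⁻¹) * a⁻¹ := by
            rw [e1', hat]; group
        _ = a * (r1 * c1') * E.xb k * (r2 * c2' * E.xa s) * (E.xb k * E.t) * a⁻¹ := by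
            rw [conj_of_comm (comm_mul (hyZ r1 hr1) (hyC c1' hc1)),
              conj_of_comm (hyQ _ (E.b_mem k)), e2, hk]
        _ = (a * (a⁻¹ * E.xb k * a) * a⁻¹) * (a * r2 * a⁻¹) * (a * c2' * a⁻¹) * (a * E.xa s * a⁻¹) *
              (a * E.xb k * a⁻¹) * (a * E.t * a⁻¹) := by rw [e1']; group
        _ = E.xb k * r2 * (ζ1 * c2') * E.xa s * (r1 * c1' * E.xb k) * (E.xa s * E.t) := by
            rw [conj_of_comm (haZ r2 hr2), e3, conj_of_comm (S.A_A' ha (S.xa_mem s)), e1, hs]; group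
        _ = E.xb k * r2 * ζ1 * c2' * (E.xa s * r1) * c1' * E.xb k * E.xa s * E.t := by group
        _ = E.xb k * r2 * ζ1 * c2' * r1 * (E.xa s * c1' * (E.xa s)⁻¹) * (E.xa s * E.xb k * E.xa s) *
              E.t := by rw [← S.Z_a r1 hr1 s]; group
        _ = (E.xb k * (r2 * ζ1)) * c2' * r1 * ζ2 * c1' * (E.xz (B.nm s * k) * E.xc (s * k) * E.xb k) *
              E.t := by rw [e4, e5]; group
        _ = r2 * ζ1 * (E.xb k * c2') * r1 * ζ2 * c1' * (E.xz (B.nm s * k) * E.xc (s * k) * E.xb k) *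
              E.t := by rw [hbZ _ (S.Z.mul_mem hr2 hζ1)]; group
        _ = r2 * ζ1 * c2' * (E.xb k * (r1 * ζ2)) * c1' * (E.xz (B.nm s * k) * E.xc (s * k) * E.xb k) *
              E.t := by rw [hbC _ hc2]; group
        _ = r2 * ζ1 * (c2' * (r1 * ζ2)) * (E.xb k * c1') *
              (E.xz (B.nm s * k) * E.xc (s * k) * E.xb k) * E.t := by
            rw [hbZ _ (S.Z.mul_mem hr1 hζ2)]; group
        _ = r2 * ζ1 * r1 * ζ2 * c2' * c1' * (E.xb k * E.xz (B.nm s * k)) * E.xc (s * k) * E.xb k *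
              E.t := by
            rw [hbC _ hc1, ← S.Z_C _ (S.Z.mul_mem hr1 hζ2) c2' hc2]; group
        _ = r2 * ζ1 * r1 * ζ2 * (c2' * c1' * E.xz (B.nm s * k)) * (E.xb k * E.xc (s * k)) * E.xb k *
              E.t := by rw [hbZ _ (S.xz_mem _)]; group
        _ = r2 * ζ1 * r1 * ζ2 * E.xz (B.nm s * k) * (c2' * c1') * E.xc (s * k) * (E.xb k * E.xb k) *
              E.t := by
            rw [hbC _ (S.xc_mem _), ← S.Z_C _ (S.xz_mem _) _ (S.C.mul_mem hc2 hc1)]; group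
        _ = _ := by rw [E.xb_sq]; group
  set w := a * y * a⁻¹ * y⁻¹ with hw
  obtain ⟨r, hr, c, hc, hwt⟩ := key
  have hinv : r * c * E.t * (r * c * E.t) = 1 := by
    rw [← hwt]
    calc w * E.t * w⁻¹ * (w * E.t * w⁻¹) = w * (E.t * E.t) * w⁻¹ := by group
      _ = 1 := by rw [E.t_sq]; group
  obtain ⟨x', y', rfl, rfl⟩ := S.ZC_inv hr hc hinv
  obtain ⟨r0, hr0, hr0t⟩ := S.rootZ.onto x'
  obtain ⟨c0, hc0, hc0t⟩ := S.rootC.onto y'
  -- correct `w`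
  have hm : (r0 * c0) * E.t * (r0 * c0)⁻¹ = w * E.t * w⁻¹ := by
    rw [hwt, mc, hc0t, cm, conj_of_comm (S.Z_C r0 hr0 _ (S.xc_mem y')), hr0t, ← mul_assoc,
      E.z_c]
  have hQ0 : ∀ g ∈ E.Q, (r0 * c0)⁻¹ * g = g * (r0 * c0)⁻¹ := by
    intro g hg
    apply comm_inv
    have e1 := S.Z_Q r0 hr0 g hg
    have e2 := S.C_Q c0 hc0 g hg
    rw [mul_assoc, e2, ← mul_assoc, e1, mul_assoc]
  have hZ0 : ∀ g ∈ S.Z, (r0 * c0)⁻¹ * g = g * (r0 * c0)⁻¹ := by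
    intro g hg
    apply comm_inv
    have e1 := S.Z_Z hr0 hg
    have e2 := (S.Z_C g hg c0 hc0).symm
    rw [mul_assoc, e2, ← mul_assoc, e1, mul_assoc]
  have ww : ∀ g, (r0 * c0)⁻¹ * g = g * (r0 * c0)⁻¹ → w * g = g * w →
      (r0 * c0)⁻¹ * w * g = g * ((r0 * c0)⁻¹ * w) := by
    intro g h1 h2
    rw [mul_assoc, h2, ← mul_assoc, h1, mul_assoc]
  obtain ⟨v, hv⟩ := S.mem_W (w := (r0 * c0)⁻¹ * w) (by
      apply comm_of_conj
      calc (r0 * c0)⁻¹ * w * E.t * ((r0 * c0)⁻¹ * w)⁻¹ = (r0 * c0)⁻¹ * (w * E.t * w⁻¹) * (r0 * c0) := by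
            group
        _ = E.t := by rw [← hm]; group)
    (fun g hg => ww g (hQ0 g hg) (comm_Q c1 c2 c3 g hg)) (fun g hg => ww g (hZ0 g hg) (c4 g hg))
  -- `w = r c xb z`
  have hw2 : a * y * a⁻¹ = (r0 * E.xz v.1) * (c0 * E.xc v.2.1) * E.xb v.2.2 * y := by
    have h1 : w = r0 * c0 * E.w v := by rw [← hv]; group
    have h2 : a * y * a⁻¹ = w * y := by rw [hw]; group
    rw [h2, h1]
    unfold WEnv.w
    have e1 := S.Z_C _ (S.xz_mem v.1) c0 hc0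
    calc r0 * c0 * (E.xz v.1 * E.xc v.2.1 * E.xb v.2.2) * y
        = r0 * (c0 * E.xz v.1) * E.xc v.2.1 * E.xb v.2.2 * y := by group
      _ = _ := by rw [← e1]; group
  set r3 := r0 * E.xz v.1 with hr3
  set c3' := c0 * E.xc v.2.1 with hc3
  have hr3m : r3 ∈ S.Z := S.Z.mul_mem hr0 (S.xz_mem _)
  have hc3m : c3' ∈ S.C := S.C.mul_mem hc0 (S.xc_mem _)
  clear_value r3 c3'
  obtain ⟨ρ, hρ, e6⟩ := haC _ hc3m
  obtain ⟨r4, hr4, c4', hc4, e7⟩ := S.A_xb ha v.2.2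
  have h8 : a * E.xb v.2.2 * a⁻¹ = ρ * E.xb v.2.2 := by
    have h1 : y = a * (a * y * a⁻¹) * a⁻¹ := by
      calc y = (a * a) * y * (a * a)⁻¹ := by rw [S.A_sq ha]; group
        _ = _ := by group
    rw [hw2] at h1
    have h2 : y = r3 * (ρ * c3') * (a * E.xb v.2.2 * a⁻¹) * (r3 * c3' * E.xb v.2.2 * y) := by
      calc y = a * (r3 * c3' * E.xb v.2.2 * y) * a⁻¹ := h1
        _ = (a * r3 * a⁻¹) * (a * c3' * a⁻¹) * (a * E.xb v.2.2 * a⁻¹) * (a * y * a⁻¹) := by group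
        _ = _ := by rw [conj_of_comm (haZ r3 hr3m), e6, hw2]
    have h3 : (a * E.xb v.2.2 * a⁻¹) = (r3 * (ρ * c3'))⁻¹ * (r3 * c3' * E.xb v.2.2)⁻¹ := by
      have h4 : (r3 * (ρ * c3')) * (a * E.xb v.2.2 * a⁻¹) * (r3 * c3' * E.xb v.2.2) = 1 := by
        have h5 : 1 * y = (r3 * (ρ * c3')) * (a * E.xb v.2.2 * a⁻¹) * (r3 * c3' * E.xb v.2.2) * y := by
          rw [one_mul, mul_assoc _ (r3 * c3' * E.xb v.2.2) y]; exact h2
        exact (mul_right_cancel h5).symm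
      calc a * E.xb v.2.2 * a⁻¹ = (r3 * (ρ * c3'))⁻¹ * ((r3 * (ρ * c3')) * (a * E.xb v.2.2 * a⁻¹) *
            (r3 * c3' * E.xb v.2.2)) * (r3 * c3' * E.xb v.2.2)⁻¹ := by group
        _ = _ := by rw [h4, mul_one]
    rw [h3]
    have i1 := S.Z_inv hr3m
    have i2 := S.C_inv hc3m
    have i3 := S.Z_inv hρ
    have i4 : (E.xb v.2.2)⁻¹ = E.xb v.2.2 := WEnv.inv_of_sq (E.xb_sq _)
    have k1 := S.Z_C r3 hr3m c3' hc3m
    have k2 := S.Z_Z hρ hr3m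
    have k3 : E.xb v.2.2 * c3' = c3' * E.xb v.2.2 := (S.C_Q _ hc3m _ (E.b_mem _)).symm
    have k4 : E.xb v.2.2 * r3 = r3 * E.xb v.2.2 := (S.Z_Q _ hr3m _ (E.b_mem _)).symm
    have k5 := S.Z_C ρ hρ c3' hc3m
    rw [mul_inv_rev, mul_inv_rev, mul_inv_rev, mul_inv_rev, i1, i2, i3, i4]
    calc c3' * ρ * r3 * (E.xb v.2.2 * (c3' * r3))
        = c3' * ρ * r3 * (E.xb v.2.2 * c3') * r3 := by group
      _ = c3' * ρ * (r3 * c3') * (E.xb v.2.2 * r3) := by rw [k3]; group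
      _ = c3' * (ρ * c3') * (r3 * r3) * E.xb v.2.2 := by rw [k1, k4]; group
      _ = (c3' * c3') * ρ * (r3 * r3) * E.xb v.2.2 := by rw [k5]; group
      _ = _ := by rw [S.C_sq hc3m, S.Z_sq hr3m, one_mul, mul_one]
  rcases S.A_xb_triv ha hρ h8 with h9 | h9
  · exact ⟨r3, hr3m, c3', hc3m, by rw [hw2, h9, E.xb_zero, mul_one]⟩
  · exact ⟨1, S.Z.one_mem, 1, S.C.one_mem, by rw [h9]; group⟩

end QGrown

end Cfsg.Agent.StdRank2.UFive
end

-- part: StdRank2/UFive/GrowNTwo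
section
/-!
# `QGrown → Grown` (type `U₅(q)`), part 3: the group `N₂` of the elements centralising `Ŵ = Z C B`, acting
trivially on `ŴQ / Ŵ` and moving `t` into `ŴQt`
-/

set_option autoImplicit false
set_option linter.unusedSectionVars false

namespace Cfsg.Agent.StdRank2.UFive

open Subgroup Cfsg.Agent.StdRank2.UFour

variable {F : Type*} [Field F] [CharP F 2] {B : Bar F} {G : Type*} [Group G]

namespace QGrown

open NOne RootLem

/-! ### commutators -/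

/-- `[p, g]` commutes with `x` if `p`, `g` act on `x` by translations. -/
theorem comm_trans {p g x u v : G} (hp : p * x * p⁻¹ = u * x) (hg : g * x * g⁻¹ = v * x)
    (pu : p * u = u * p) (pv : p * v = v * p) (gu : g * u = u * g) (gv : g * v = v * g)
    (uv : u * v = v * u) :
    p * g * p⁻¹ * g⁻¹ * x = x * (p * g * p⁻¹ * g⁻¹) := by
  have e1 : p * g * x = u * v * x * (p * g) := by
    calc p * g * x = p * (g * x * g⁻¹) * g := by group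
      _ = (p * v) * x * g := by rw [hg]; group
      _ = v * (p * x * p⁻¹) * p * g := by rw [pv]; group
      _ = (v * u) * x * (p * g) := by rw [hp]; group
      _ = _ := by rw [← uv]
  have e2 : g * p * x = u * v * x * (g * p) := by
    calc g * p * x = g * (p * x * p⁻¹) * p := by group
      _ = (g * u) * x * p := by rw [hp]; group
      _ = u * (g * x * g⁻¹) * g * p := by rw [gu]; group
      _ = u * v * x * (g * p) := by rw [hg]; group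
  have e3 : (p * g * p⁻¹ * g⁻¹) * (u * v) = u * v * (p * g * p⁻¹ * g⁻¹) := by
    have k1 := comm_mul pu pv
    have k2 := comm_mul gu gv
    have k3 := comm_inv k1
    have k4 := comm_inv k2
    calc (p * g * p⁻¹ * g⁻¹) * (u * v) = p * g * p⁻¹ * (g⁻¹ * (u * v)) := by group
      _ = p * g * (p⁻¹ * (u * v)) * g⁻¹ := by rw [k4]; group
      _ = p * (g * (u * v)) * p⁻¹ * g⁻¹ := by rw [k3]; group
      _ = (p * (u * v)) * g * p⁻¹ * g⁻¹ := by rw [k2]; group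
      _ = _ := by rw [k1]; group
  have e4 : u * v * (p * g * p⁻¹ * g⁻¹ * x) = u * v * (x * (p * g * p⁻¹ * g⁻¹)) := by
    calc u * v * (p * g * p⁻¹ * g⁻¹ * x) = (u * v * (p * g * p⁻¹ * g⁻¹)) * x := by group
      _ = p * g * (g * p)⁻¹ * (u * v * x * (g * p)) * (g * p)⁻¹ := by rw [← e3]; group
      _ = (p * g * x) * (g * p)⁻¹ := by rw [← e2]; group
      _ = _ := by rw [e1]; group
  exact mul_left_cancel e4

/-- the displacement of a commutator. -/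
theorem comm_disp {p g t m n : G} (hp : p * t * p⁻¹ = m * t) (hg : g * t * g⁻¹ = n * t)
    (hw : p * g * p⁻¹ * g⁻¹ * (g * m * g⁻¹ * n) = g * m * g⁻¹ * n * (p * g * p⁻¹ * g⁻¹)) :
    (p * g * p⁻¹ * g⁻¹) * t * (p * g * p⁻¹ * g⁻¹)⁻¹ = (g * m * g⁻¹ * n)⁻¹ * (p * n * p⁻¹ * m) * t := by
  have e1 : g * p * t * (g * p)⁻¹ = (g * m * g⁻¹ * n) * t := by
    calc g * p * t * (g * p)⁻¹ = g * (p * t * p⁻¹) * g⁻¹ := by group
      _ = g * m * g⁻¹ * (g * t * g⁻¹) := by rw [hp]; group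
      _ = _ := by rw [hg]; group
  have e2 : p * g * t * (p * g)⁻¹ = (p * n * p⁻¹ * m) * t := by
    calc p * g * t * (p * g)⁻¹ = p * (g * t * g⁻¹) * p⁻¹ := by group
      _ = p * n * p⁻¹ * (p * t * p⁻¹) := by rw [hg]; group
      _ = _ := by rw [hp]; group
  set w := p * g * p⁻¹ * g⁻¹ with hwd
  have e3 : w * (g * p * t * (g * p)⁻¹) * w⁻¹ = p * g * t * (p * g)⁻¹ := by rw [hwd]; group
  rw [e1, e2] at e3
  calc w * t * w⁻¹ = (g * m * g⁻¹ * n)⁻¹ * ((g * m * g⁻¹ * n * w) * t * w⁻¹) := by group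
    _ = (g * m * g⁻¹ * n)⁻¹ * (w * ((g * m * g⁻¹ * n) * t) * w⁻¹) := by rw [← hw]; group
    _ = _ := by rw [e3]; group

variable {E : Env B G} (S : QGrown E)

/-! ### `Ŵ` -/

/-- `Ŵ = Z C B`. -/
def Wt : Subgroup G where
  carrier := {g | ∃ r ∈ S.Z, ∃ c ∈ S.C, ∃ b ∈ S.Bb, g = r * c * b}
  one_mem' := ⟨1, one_mem _, 1, one_mem _, 1, one_mem _, by group⟩
  mul_mem' := by
    rintro _ _ ⟨r, hr, c, hc, b, hb, rfl⟩ ⟨r', hr', c', hc', b', hb', rfl⟩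
    refine ⟨r * r', S.Z.mul_mem hr hr', c * c', S.C.mul_mem hc hc', b * b', S.Bb.mul_mem hb hb', ?_⟩
    have e1 := S.Z_B r' hr' b hb
    have e2 := S.Z_C r' hr' c hc
    have e3 := S.C_B c' hc' b hb
    calc r * c * b * (r' * c' * b') = r * c * (b * r') * c' * b' := by group
      _ = r * (c * r') * b * c' * b' := by rw [← e1]; group
      _ = r * r' * c * (b * c') * b' := by rw [← e2]; group
      _ = _ := by rw [← e3]; group
  inv_mem' := by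
    rintro _ ⟨r, hr, c, hc, b, hb, rfl⟩
    refine ⟨r⁻¹, S.Z.inv_mem hr, c⁻¹, S.C.inv_mem hc, b⁻¹, S.Bb.inv_mem hb, ?_⟩
    have e1 := S.Z_B _ (S.Z.inv_mem hr) _ (S.Bb.inv_mem hb)
    have e2 := S.Z_C _ (S.Z.inv_mem hr) _ (S.C.inv_mem hc)
    have e3 := S.C_B _ (S.C.inv_mem hc) _ (S.Bb.inv_mem hb)
    calc (r * c * b)⁻¹ = b⁻¹ * (c⁻¹ * r⁻¹) := by group
      _ = (b⁻¹ * r⁻¹) * c⁻¹ := by rw [← e2]; group
      _ = r⁻¹ * (b⁻¹ * c⁻¹) := by rw [← e1]; group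
      _ = _ := by rw [← e3]; group

theorem Z_le_Wt {r : G} (hr : r ∈ S.Z) : r ∈ S.Wt := ⟨r, hr, 1, one_mem _, 1, one_mem _, by group⟩
theorem C_le_Wt {r : G} (hr : r ∈ S.C) : r ∈ S.Wt := ⟨1, one_mem _, r, hr, 1, one_mem _, by group⟩
theorem B_le_Wt {r : G} (hr : r ∈ S.Bb) : r ∈ S.Wt := ⟨1, one_mem _, 1, one_mem _, r, hr, by group⟩

theorem w_mem_Wt (v : B.V) : E.w v ∈ S.Wt :=
  ⟨_, S.xz_mem v.1, _, S.xc_mem v.2.1, _, S.xb_mem v.2.2, rfl⟩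

/-- centralising `Ŵ` -/
theorem comm_Wt {n : G} (hz : ∀ r ∈ S.Z, n * r = r * n) (hc : ∀ r ∈ S.C, n * r = r * n)
    (hb : ∀ r ∈ S.Bb, n * r = r * n) : ∀ ω ∈ S.Wt, n * ω = ω * n := by
  rintro _ ⟨r, hr, c, hc', b, hb', rfl⟩
  exact comm_mul (comm_mul (hz r hr) (hc c hc')) (hb b hb')

theorem Wt_Wt {ω η : G} (hω : ω ∈ S.Wt) (hη : η ∈ S.Wt) : ω * η = η * ω := by
  revert η
  apply S.comm_Wt
  · obtain ⟨r, hr, c, hc, b, hb, rfl⟩ := hω
    intro s hs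
    have := comm_mul (comm_mul (S.Z_Z hs hr) (S.Z_C s hs c hc)) (S.Z_B s hs b hb)
    exact this.symm
  · obtain ⟨r, hr, c, hc, b, hb, rfl⟩ := hω
    intro s hs
    have := comm_mul (comm_mul (S.Z_C r hr s hs).symm (S.C_C hs hc)) (S.C_B s hs b hb)
    exact this.symm
  · obtain ⟨r, hr, c, hc, b, hb, rfl⟩ := hω
    intro s hs
    have := comm_mul (comm_mul (S.Z_B r hr s hs).symm (S.C_B c hc s hs).symm) (S.B_B hs hb)
    exact this.symm

theorem Wt_Q {ω g : G} (hω : ω ∈ S.Wt) (hg : g ∈ E.Q) : ω * g = g * ω := by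
  obtain ⟨r, hr, c, hc, b, hb, rfl⟩ := hω
  exact (comm_mul (comm_mul (S.Z_Q r hr g hg).symm (S.C_Q c hc g hg).symm) (S.B_Q b hb g hg).symm).symm

theorem Wt_sq {ω : G} (hω : ω ∈ S.Wt) : ω * ω = 1 := by
  obtain ⟨r, hr, c, hc, b, hb, rfl⟩ := hω
  have e1 := S.Z_B r hr b hb
  have e2 := S.Z_C r hr c hc
  have e3 := S.C_B c hc b hb
  calc r * c * b * (r * c * b) = r * c * (b * r) * c * b := by group
    _ = r * (c * r) * b * c * b := by rw [← e1]; group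
    _ = (r * r) * c * (b * c) * b := by rw [← e2]; group
    _ = (c * c) * (b * b) := by rw [← e3, S.Z_sq hr]; group
    _ = 1 := by rw [S.C_sq hc, S.B_sq hb, mul_one]

/-- the displacement of an element of `Ŵ` -/
theorem Wt_disp {r c b : G} {x z : B.K} {y : F} (hr : r ∈ S.Z) (hc : c ∈ S.C)
    (h1 : r * E.t * r⁻¹ = E.xz x * E.t) (h2 : c * E.t * c⁻¹ = E.xc y * E.t)
    (h3 : b * E.t * b⁻¹ = E.xb z * E.t) :
    (r * c * b) * E.t * (r * c * b)⁻¹ = E.w (x, y, z) * E.t := by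
  unfold WEnv.w
  calc (r * c * b) * E.t * (r * c * b)⁻¹ = r * (c * (b * E.t * b⁻¹) * c⁻¹) * r⁻¹ := by group
    _ = r * ((c * E.xb z * c⁻¹) * (c * E.t * c⁻¹)) * r⁻¹ := by rw [h3]; group
    _ = (r * E.xb z * r⁻¹) * (r * E.xc y * r⁻¹) * (r * E.t * r⁻¹) := by
        rw [h2, conj_of_comm (S.C_Q c hc _ (E.b_mem z))]; group
    _ = E.xb z * (E.xc y * E.xz x) * E.t := by
        rw [h1, conj_of_comm (S.Z_Q r hr _ (E.b_mem z)), conj_of_comm (S.Z_Q r hr _ (E.c_mem y))]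
        group
    _ = (E.xz x * E.xb z) * E.xc y * E.t := by rw [← E.z_c, E.z_b]; group
    _ = E.xz x * (E.xc y * E.xb z) * E.t := by rw [E.c_b]; group
    _ = _ := by group

theorem Wt_t {ω : G} (hω : ω ∈ S.Wt) : ∃ v, ω * E.t * ω⁻¹ = E.w v * E.t := by
  obtain ⟨r, hr, c, hc, b, hb, rfl⟩ := hω
  obtain ⟨x, hx⟩ := S.rootZ.conj_t r hr
  obtain ⟨y, hy⟩ := S.rootC.conj_t c hc
  obtain ⟨z, hz⟩ := S.rootB.conj_t b hb
  exact ⟨_, S.Wt_disp hr hc hx hy hz⟩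

theorem Wt_cent {r c b : G} (hr : r ∈ S.Z) (hc : c ∈ S.C) (hb : b ∈ S.Bb)
    (h : r * c * b * E.t = E.t * (r * c * b)) :
    ∃ x y z, r = E.xz x ∧ c = E.xc y ∧ b = E.xb z := by
  obtain ⟨x, hx⟩ := S.rootZ.conj_t r hr
  obtain ⟨y, hy⟩ := S.rootC.conj_t c hc
  obtain ⟨z, hz⟩ := S.rootB.conj_t b hb
  have h1 := S.Wt_disp hr hc hx hy hz
  rw [conj_of_comm h] at h1
  have h2 := E.toWEnv.w_eq_one (right_eq_mul.1 h1)
  have x0 : x = 0 := congrArg (fun v : B.V => v.1) h2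
  have y0 : y = 0 := congrArg (fun v : B.V => v.2.1) h2
  have z0 : z = 0 := congrArg (fun v : B.V => v.2.2) h2
  rw [x0, E.xz_zero, one_mul] at hx
  rw [y0, E.xc_zero, one_mul] at hy
  rw [z0, E.xb_zero, one_mul] at hz
  obtain ⟨x', hx'⟩ := S.rootZ.cent r hr (comm_of_conj hx)
  obtain ⟨y', hy'⟩ := S.rootC.cent c hc (comm_of_conj hy)
  obtain ⟨z', hz'⟩ := S.rootB.cent b hb (comm_of_conj hz)
  exact ⟨x', y', z', hx', hy', hz'⟩

theorem Wt_centW {ω : G} (hω : ω ∈ S.Wt) (h : ω * E.t = E.t * ω) : ∃ v, ω = E.w v := by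
  obtain ⟨r, hr, c, hc, b, hb, rfl⟩ := hω
  obtain ⟨x, y, z, rfl, rfl, rfl⟩ := S.Wt_cent hr hc hb h
  exact ⟨(x, y, z), rfl⟩

theorem Wt_inj {r c b : G} (hr : r ∈ S.Z) (hc : c ∈ S.C) (hb : b ∈ S.Bb) (h : r * c * b = 1) :
    r = 1 ∧ c = 1 ∧ b = 1 := by
  obtain ⟨x, y, z, rfl, rfl, rfl⟩ := S.Wt_cent hr hc hb (by rw [h]; group)
  obtain ⟨h1, h2, h3⟩ := E.w_inj _ _ _ h
  rw [h1, h2, h3]
  exact ⟨E.toWEnv.xz_zero, E.toWEnv.xc_zero, E.toWEnv.xb_zero⟩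

theorem Wt_onto (v : B.V) : ∃ ω ∈ S.Wt, ω * E.t * ω⁻¹ = E.w v * E.t := by
  obtain ⟨r, hr, hx⟩ := S.rootZ.onto v.1
  obtain ⟨c, hc, hy⟩ := S.rootC.onto v.2.1
  obtain ⟨b, hb, hz⟩ := S.rootB.onto v.2.2
  exact ⟨_, ⟨r, hr, c, hc, b, hb, rfl⟩, S.Wt_disp hr hc hx hy hz⟩

/-! ### `N₂` -/

structure InN2 (n : G) : Prop where
  w : ∀ ω ∈ S.Wt, n * ω = ω * n
  q : ∀ g ∈ E.Q, ∃ ω ∈ S.Wt, n * g * n⁻¹ = ω * g
  t : ∃ ω ∈ S.Wt, ∃ g ∈ E.Q, n * E.t * n⁻¹ = ω * g * E.t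

variable {S}

theorem InN2.mul {m n : G} (hm : S.InN2 m) (hn : S.InN2 n) : S.InN2 (m * n) where
  w ω hω := by rw [mul_assoc, hn.w ω hω, ← mul_assoc, hm.w ω hω, mul_assoc]
  q g hg := by
    obtain ⟨ω, hω, h1⟩ := hn.q g hg
    obtain ⟨η, hη, h2⟩ := hm.q g hg
    refine ⟨ω * η, S.Wt.mul_mem hω hη, ?_⟩
    rw [mc, h1, cm, h2, conj_of_comm (hm.w ω hω), mul_assoc]
  t := by
    obtain ⟨ω, hω, g, hg, h1⟩ := hn.t
    obtain ⟨η, hη, k, hk, h2⟩ := hm.t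
    obtain ⟨θ, hθ, h3⟩ := hm.q g hg
    refine ⟨ω * θ * η, S.Wt.mul_mem (S.Wt.mul_mem hω hθ) hη, g * k, E.Q.mul_mem hg hk, ?_⟩
    rw [mc, h1, cm, cm, h2, h3, conj_of_comm (hm.w ω hω)]
    have e := S.Wt_Q hη hg
    calc ω * (θ * g) * (η * k * E.t) = ω * θ * (g * η) * k * E.t := by group
      _ = _ := by rw [← e]; group

theorem InN2.one : S.InN2 (1 : G) where
  w ω hω := by group
  q g hg := ⟨1, S.Wt.one_mem, by group⟩
  t := ⟨1, S.Wt.one_mem, 1, E.Q.one_mem, by group⟩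

theorem InN2.inv {n : G} (hn : S.InN2 n) : S.InN2 n⁻¹ where
  w ω hω := comm_inv (hn.w ω hω)
  q g hg := by
    obtain ⟨ω, hω, h1⟩ := hn.q g hg
    refine ⟨ω⁻¹, S.Wt.inv_mem hω, ?_⟩
    have h2 := comm_inv (hn.w _ (S.Wt.inv_mem hω))
    calc n⁻¹ * g * n⁻¹⁻¹ = (n⁻¹ * ω⁻¹) * (ω * g) * n := by group
      _ = ω⁻¹ * n⁻¹ * (n * g * n⁻¹) * n := by rw [h1, h2]
      _ = _ := by group
  t := by
    obtain ⟨ω, hω, g, hg, h1⟩ := hn.t
    obtain ⟨η, hη, h2⟩ := hn.q g⁻¹ (E.Q.inv_mem hg)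
    have e1 := comm_inv (hn.w _ (S.Wt.inv_mem hω))
    have e2 := comm_inv (hn.w _ (S.Wt.inv_mem hη))
    have e3 := S.Wt_Q (S.Wt.inv_mem hω) (E.Q.inv_mem hg)
    refine ⟨ω⁻¹ * η⁻¹, S.Wt.mul_mem (S.Wt.inv_mem hω) (S.Wt.inv_mem hη), g⁻¹, E.Q.inv_mem hg, ?_⟩
    have h3 : n⁻¹ * g⁻¹ * n = η⁻¹ * g⁻¹ := by
      calc n⁻¹ * g⁻¹ * n = (n⁻¹ * η⁻¹) * (η * g⁻¹) * n := by group
        _ = η⁻¹ * n⁻¹ * (n * g⁻¹ * n⁻¹) * n := by rw [h2, e2]
        _ = _ := by group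
    calc n⁻¹ * E.t * n⁻¹⁻¹ = n⁻¹ * (g⁻¹ * ω⁻¹) * (ω * g * E.t) * n := by group
      _ = (n⁻¹ * ω⁻¹) * g⁻¹ * (n * E.t * n⁻¹) * n := by rw [h1, ← e3]; group
      _ = ω⁻¹ * (n⁻¹ * g⁻¹ * n) * E.t := by rw [e1]; group
      _ = _ := by rw [h3]; group

/-- conjugation -/
theorem InN2.conj {k n : G} (hn : S.InN2 n) (hW : ∀ ω ∈ S.Wt, k * ω * k⁻¹ ∈ S.Wt)
    (hW' : ∀ ω ∈ S.Wt, k⁻¹ * ω * k ∈ S.Wt) (hQ : ∀ g, g ∈ E.Q ↔ k * g * k⁻¹ ∈ E.Q)
    (ht : k * E.t = E.t * k) : S.InN2 (k * n * k⁻¹) where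
  w ω hω := by
    have h1 := hn.w _ (hW' ω hω)
    calc k * n * k⁻¹ * ω = k * (n * (k⁻¹ * ω * k)) * k⁻¹ := by group
      _ = _ := by rw [h1]; group
  q g hg := by
    have hg' : k⁻¹ * g * k ∈ E.Q := by
      rw [hQ]
      have e : k * (k⁻¹ * g * k) * k⁻¹ = g := by group
      rwa [e]
    obtain ⟨ω, hω, h1⟩ := hn.q _ hg'
    refine ⟨_, hW ω hω, ?_⟩
    calc k * n * k⁻¹ * g * (k * n * k⁻¹)⁻¹ = k * (n * (k⁻¹ * g * k) * n⁻¹) * k⁻¹ := by group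
      _ = _ := by rw [h1]; group
  t := by
    obtain ⟨ω, hω, g, hg, h1⟩ := hn.t
    refine ⟨_, hW ω hω, _, (hQ g).1 hg, ?_⟩
    have h2 : k⁻¹ * E.t * k = E.t := by rw [comm_inv ht]; group
    calc k * n * k⁻¹ * E.t * (k * n * k⁻¹)⁻¹ = k * (n * (k⁻¹ * E.t * k) * n⁻¹) * k⁻¹ := by group
      _ = k * (ω * g * E.t) * k⁻¹ := by rw [h2, h1]
      _ = (k * ω * k⁻¹) * (k * g * k⁻¹) * (k * E.t * k⁻¹) := by group
      _ = _ := by rw [conj_of_comm ht]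

/-- An element centralising `Ŵ` and acting trivially on `ŴQ/Ŵ` with `n t n⁻¹ ∈ Ŵ t` is in `ŴQ`. -/
theorem fix_t {n ω : G} (hω : ω ∈ S.Wt) (ht : n * E.t * n⁻¹ = ω * E.t) :
    ∃ η ∈ S.Wt, η⁻¹ * n * E.t = E.t * (η⁻¹ * n) := by
  have h1 : ω * E.t * (ω * E.t) = 1 := by
    rw [← ht]
    calc n * E.t * n⁻¹ * (n * E.t * n⁻¹) = n * (E.t * E.t) * n⁻¹ := by group
      _ = 1 := by rw [E.t_sq]; group
  have h2 : ω * E.t = E.t * ω := by
    have h3 : E.t * ω * E.t = ω⁻¹ := by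
      rw [← mul_eq_one_iff_eq_inv]
      calc E.t * ω * E.t * ω = ω⁻¹ * (ω * E.t * (ω * E.t)) * ω := by group
        _ = 1 := by rw [h1]; group
    calc ω * E.t = (ω * ω) * (ω⁻¹ * E.t) := by group
      _ = (E.t * ω * E.t) * E.t := by rw [S.Wt_sq hω, h3, one_mul]
      _ = E.t * ω * (E.t * E.t) := by group
      _ = _ := by rw [E.t_sq, mul_one]
  obtain ⟨v, rfl⟩ := S.Wt_centW hω h2
  obtain ⟨η, hη, h3⟩ := S.Wt_onto v
  refine ⟨η, hη, comm_of_conj ?_⟩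
  calc η⁻¹ * n * E.t * (η⁻¹ * n)⁻¹ = η⁻¹ * (n * E.t * n⁻¹) * η := by group
    _ = E.t := by rw [ht, ← h3]; group

theorem core2 {n ω : G} (hn : ∀ ω ∈ S.Wt, n * ω = ω * n)
    (hq : ∀ g ∈ E.Q, ∃ ω ∈ S.Wt, n * g * n⁻¹ = ω * g)
    (hω : ω ∈ S.Wt) (ht : n * E.t * n⁻¹ = ω * E.t) : ∃ η ∈ S.Wt, ∃ g ∈ E.Q, n = η * g := by
  obtain ⟨η, hη, h1⟩ := fix_t hω ht
  have hw : ∀ ω ∈ S.Wt, η⁻¹ * n * ω = ω * (η⁻¹ * n) := by
    intro ω hω
    rw [mul_assoc, hn ω hω, ← mul_assoc, S.Wt_Wt (S.Wt.inv_mem hη) hω, mul_assoc]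
  have key : ∀ g ∈ E.Q, ∃ x y z, η⁻¹ * n * g * (η⁻¹ * n)⁻¹ = E.xz x * E.xc y * E.xb z * g := by
    intro g hg
    obtain ⟨ω, hω, h2⟩ := hq g hg
    have h3 : η⁻¹ * n * g * (η⁻¹ * n)⁻¹ = ω * g := by
      rw [mc, h2, conj_of_comm]
      exact comm_mul (S.Wt_Wt (S.Wt.inv_mem hη) hω) (S.Wt_Q (S.Wt.inv_mem hη) hg)
    have h4 : ω * E.t = E.t * ω := by
      have e1 : ω = η⁻¹ * n * g * (η⁻¹ * n)⁻¹ * g⁻¹ := by rw [h3]; group
      have e2 := comm_inv (E.t_Q g hg).symm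
      have e3 := comm_inv h1
      have e4 := (E.t_Q g hg).symm
      rw [e1]
      calc η⁻¹ * n * g * (η⁻¹ * n)⁻¹ * g⁻¹ * E.t = η⁻¹ * n * g * (η⁻¹ * n)⁻¹ * (g⁻¹ * E.t) := by group
        _ = η⁻¹ * n * g * ((η⁻¹ * n)⁻¹ * E.t) * g⁻¹ := by rw [e2]; group
        _ = η⁻¹ * n * (g * E.t) * (η⁻¹ * n)⁻¹ * g⁻¹ := by rw [e3]; group
        _ = (η⁻¹ * n * E.t) * g * (η⁻¹ * n)⁻¹ * g⁻¹ := by rw [e4]; group
        _ = _ := by rw [h1]; group
    obtain ⟨v, rfl⟩ := S.Wt_centW hω h4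
    exact ⟨v.1, v.2.1, v.2.2, h3⟩
  obtain ⟨g, hg, h2 | h2⟩ := E.cent_Q2 (η⁻¹ * n) h1 (fun x => hw _ (S.Z_le_Wt (S.xz_mem x)))
    (fun x => hw _ (S.C_le_Wt (S.xc_mem x))) (fun x => hw _ (S.B_le_Wt (S.xb_mem x)))
    (fun q => key _ (E.p1_memQ q)) (fun q => key _ (E.p2_memQ q))
  · exact ⟨η, hη, g, hg, by rw [← h2]; group⟩
  · exact (S.not_t (fun r hr => hw r (S.Z_le_Wt hr)) (fun r hr => (S.Z_Q r hr g hg).symm) h2).elim

theorem core2_cent {n ω : G} (hn : ∀ ω ∈ S.Wt, n * ω = ω * n) (hq : ∀ g ∈ E.Q, n * g = g * n)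
    (hω : ω ∈ S.Wt) (ht : n * E.t * n⁻¹ = ω * E.t) : n ∈ S.Wt := by
  obtain ⟨η, hη, h1⟩ := fix_t hω ht
  obtain ⟨v, hv⟩ := S.mem_W h1
    (fun g hg => by rw [mul_assoc, hq g hg, ← mul_assoc, S.Wt_Q (S.Wt.inv_mem hη) hg, mul_assoc])
    (fun r hr => by
      rw [mul_assoc, hn r (S.Z_le_Wt hr), ← mul_assoc, S.Wt_Wt (S.Wt.inv_mem hη) (S.Z_le_Wt hr),
        mul_assoc])
  have h2 : n = η * E.w v := by rw [← hv]; group
  rw [h2]
  exact S.Wt.mul_mem hη (S.w_mem_Wt v)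

/-- `Q / W` is abelian. -/
theorem Q_comm {g k : G} (hg : g ∈ E.Q) (hk : k ∈ E.Q) : ∃ v, g * k * g⁻¹ = E.w v * k := by
  have h11 : ∀ q q' : Tp B, ∃ v, E.p1 q * E.p1 q' * (E.p1 q)⁻¹ = E.w v * E.p1 q' := by
    intro q q'
    obtain ⟨c, hc⟩ := E.Q1_comm (E.p1_mem1 q') (E.p1_mem1 q)
    refine ⟨(c, 0, 0), ?_⟩
    rw [E.w_z, hc]; group
  have h12 : ∀ q q' : Tp B, ∃ v, E.p1 q * E.p2 q' * (E.p1 q)⁻¹ = E.w v * E.p2 q' := by
    intro q q'
    exact ⟨(0, q'.w * B.s q.w, 0), by rw [E.w_c, E.one_two]⟩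
  -- apply `na`
  have hna : ∀ {g k : G}, (∃ v, g * k * g⁻¹ = E.w v * k) →
      ∃ v, (E.na * g * E.na⁻¹) * (E.na * k * E.na⁻¹) * (E.na * g * E.na⁻¹)⁻¹ =
        E.w v * (E.na * k * E.na⁻¹) := by
    rintro g k ⟨v, h⟩
    refine ⟨B.mn v, ?_⟩
    rw [← E.conj_mn]
    calc (E.na * g * E.na⁻¹) * (E.na * k * E.na⁻¹) * (E.na * g * E.na⁻¹)⁻¹
        = E.na * (g * k * g⁻¹) * E.na⁻¹ := by group
      _ = _ := by rw [h]; group
  have h22 : ∀ q q' : Tp B, ∃ v, E.p2 q * E.p2 q' * (E.p2 q)⁻¹ = E.w v * E.p2 q' := by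
    intro q q'
    have := hna (h11 q q')
    rwa [E.na_1, E.na_1] at this
  have h21 : ∀ q q' : Tp B, ∃ v, E.p2 q * E.p1 q' * (E.p2 q)⁻¹ = E.w v * E.p1 q' := by
    intro q q'
    have := hna (h12 q q')
    rwa [E.na_1, E.na_2] at this
  have hr : ∀ {g : G}, (∀ q, ∃ v, g * E.p1 q * g⁻¹ = E.w v * E.p1 q) →
      (∀ q, ∃ v, g * E.p2 q * g⁻¹ = E.w v * E.p2 q) → (∀ x, g * E.xc x = E.xc x * g) →
      ∀ k ∈ E.Q, ∃ v, g * k * g⁻¹ = E.w v * k := by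
    intro g h1 h2 hc k hk
    obtain ⟨q, x, q', rfl⟩ := (E.mem_Q k).1 hk
    obtain ⟨v, hv⟩ := h1 q
    obtain ⟨u, hu⟩ := h2 q'
    refine ⟨v + u, ?_⟩
    rw [cm, cm, hv, hu, conj_of_comm (hc x), E.w_add]
    have e1 := E.w_Q u (E.p1_memQ q)
    have e2 := E.w_Q u (E.c_mem x)
    calc E.w v * E.p1 q * E.xc x * (E.w u * E.p2 q') = E.w v * E.p1 q * (E.xc x * E.w u) * E.p2 q' := by
          group
      _ = E.w v * (E.p1 q * E.w u) * E.xc x * E.p2 q' := by rw [← e2]; group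
      _ = _ := by rw [← e1]; group
  have hl : ∀ {g g' : G}, g ∈ E.Q → (∃ v, g * k * g⁻¹ = E.w v * k) → (∃ v, g' * k * g'⁻¹ = E.w v * k) →
      ∃ v, g * g' * k * (g * g')⁻¹ = E.w v * k := by
    rintro g g' hg ⟨v, hv⟩ ⟨u, hu⟩
    refine ⟨u + v, ?_⟩
    rw [mc, hu, cm, hv, conj_of_comm (E.w_Q u hg).symm, E.w_add, mul_assoc]
  obtain ⟨q, x, q', rfl⟩ := (E.mem_Q g).1 hg
  refine hl (E.Q.mul_mem (E.p1_memQ q) (E.c_mem x)) (hl (E.p1_memQ q) ?_ ?_) ?_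
  · exact hr (h11 q) (h12 q) (fun x => (E.c_1 x q).symm) k hk
  · exact ⟨0, by rw [E.w_zero, one_mul, conj_of_comm (E.c_Q x k hk)]⟩
  · exact hr (h21 q') (h22 q') (fun x => (E.c_2 x q').symm) k hk

theorem Q_mul_comm {g k : G} (hg : g ∈ E.Q) (hk : k ∈ E.Q) : ∃ v, g * k = E.w v * (k * g) := by
  obtain ⟨v, hv⟩ := Q_comm hg hk
  refine ⟨v, ?_⟩
  calc g * k = (g * k * g⁻¹) * g := by group
    _ = _ := by rw [hv]; group

theorem comm_mem2 {m n : G} (hm : S.InN2 m) (hn : S.InN2 n) : ∃ ω ∈ S.Wt, m * n * m⁻¹ = ω * n := by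
  have hw : ∀ ω ∈ S.Wt, m * n * m⁻¹ * n⁻¹ * ω = ω * (m * n * m⁻¹ * n⁻¹) :=
    (hm.mul hn).mul hm.inv |>.mul hn.inv |>.w
  have hq : ∀ g ∈ E.Q, m * n * m⁻¹ * n⁻¹ * g = g * (m * n * m⁻¹ * n⁻¹) := by
    intro g hg
    obtain ⟨u, hu, h1⟩ := hm.q g hg
    obtain ⟨v, hv, h2⟩ := hn.q g hg
    exact comm_trans h1 h2 (hm.w u hu) (hm.w v hv) (hn.w u hu) (hn.w v hv) (S.Wt_Wt hu hv)
  obtain ⟨μ, hμ, g, hg, h1⟩ := hm.t
  obtain ⟨ν, hν, k, hk, h2⟩ := hn.t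
  obtain ⟨α, hα, h3⟩ := hm.q k hk
  obtain ⟨β, hβ, h4⟩ := hn.q g hg
  have e1 : n * (μ * g) * n⁻¹ = μ * β * g := by rw [cm, h4, conj_of_comm (hn.w μ hμ), mul_assoc]
  have e2 : m * (ν * k) * m⁻¹ = ν * α * k := by rw [cm, h3, conj_of_comm (hm.w ν hν), mul_assoc]
  have h5 := comm_disp h1 h2 (by
    rw [e1]
    exact comm_mul (comm_mul (comm_mul (hw μ hμ) (hw β hβ)) (hq g hg)) (comm_mul (hw ν hν) (hq k hk)))
  rw [e1, e2] at h5
  obtain ⟨v, hv⟩ := Q_mul_comm hk hg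
  have e3 := S.Wt_Q hν hg
  have e4 := S.Wt_Q hμ hk
  have h6 : (μ * β * g * (ν * k))⁻¹ * (ν * α * k * (μ * g)) =
      (μ * β * ν)⁻¹ * (ν * α * μ) * E.w v := by
    have k1 := S.Wt_Q (S.Wt.mul_mem (S.Wt.mul_mem hμ hβ) hν) (E.Q.mul_mem hg hk)
    have k2 : μ * β * g * (ν * k) = μ * β * ν * (g * k) := by
      calc μ * β * g * (ν * k) = μ * β * (g * ν) * k := by group
        _ = _ := by rw [← e3]; group
    have k3 : ν * α * k * (μ * g) = ν * α * μ * (E.w v * (g * k)) := by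
      rw [← hv]
      calc ν * α * k * (μ * g) = ν * α * (k * μ) * g := by group
        _ = _ := by rw [← e4]; group
    have k4 : (μ * β * ν)⁻¹ * (ν * α * μ) * E.w v ∈ S.Wt :=
      S.Wt.mul_mem (S.Wt.mul_mem (S.Wt.inv_mem (S.Wt.mul_mem (S.Wt.mul_mem hμ hβ) hν))
        (S.Wt.mul_mem (S.Wt.mul_mem hν hα) hμ)) (S.w_mem_Wt v)
    have k5 := S.Wt_Q k4 (E.Q.inv_mem (E.Q.mul_mem hg hk))
    rw [k2, k3]
    calc (μ * β * ν * (g * k))⁻¹ * (ν * α * μ * (E.w v * (g * k)))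
        = ((g * k)⁻¹ * ((μ * β * ν)⁻¹ * (ν * α * μ) * E.w v)) * (g * k) := by group
      _ = _ := by rw [← k5]; group
  rw [h6] at h5
  have h7 : m * n * m⁻¹ * n⁻¹ ∈ S.Wt := core2_cent hw hq
    (S.Wt.mul_mem (S.Wt.mul_mem (S.Wt.inv_mem (S.Wt.mul_mem (S.Wt.mul_mem hμ hβ) hν))
        (S.Wt.mul_mem (S.Wt.mul_mem hν hα) hμ)) (S.w_mem_Wt v)) h5
  exact ⟨_, h7, by group⟩

theorem Q_sq {g : G} (hg : g ∈ E.Q) : ∃ v, g * g = E.w v := by
  obtain ⟨q, x, q', rfl⟩ := (E.mem_Q g).1 hg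
  obtain ⟨k1, h1⟩ := E.Q1_sq (E.p1_mem1 q)
  have h2 : ∃ k2, E.p2 q' * E.p2 q' = E.xb k2 := by
    obtain ⟨k2, h2⟩ := E.Q1_sq (E.p1_mem1 q')
    refine ⟨k2, ?_⟩
    rw [← E.na_1, ← E.na_z, ← h2]; group
  obtain ⟨k2, h2⟩ := h2
  obtain ⟨v, hv⟩ := Q_mul_comm (E.p2_memQ q') (E.Q.mul_mem (E.p1_memQ q) (E.c_mem x))
  have e1 := E.c_1 x q
  refine ⟨v + (k1, 0, 0) + (0, 0, k2), ?_⟩
  have e5 := E.w_Q v (E.Q.mul_mem (E.p1_memQ q) (E.c_mem x))
  rw [E.w_add, E.w_add, E.w_z, E.w_b]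
  calc E.p1 q * E.xc x * E.p2 q' * (E.p1 q * E.xc x * E.p2 q')
      = E.p1 q * E.xc x * (E.p2 q' * (E.p1 q * E.xc x)) * E.p2 q' := by group
    _ = ((E.p1 q * E.xc x) * E.w v) * (E.p1 q * E.xc x) * (E.p2 q' * E.p2 q') := by rw [hv]; group
    _ = E.w v * (E.p1 q * (E.xc x * E.p1 q) * E.xc x) * (E.p2 q' * E.p2 q') := by rw [← e5]; group
    _ = E.w v * ((E.p1 q * E.p1 q) * (E.xc x * E.xc x)) * (E.p2 q' * E.p2 q') := by rw [e1]; group
    _ = _ := by rw [h1, h2, E.xc_sq, mul_one]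

theorem sq_mem2 {n : G} (hn : S.InN2 n) : n * n ∈ S.Wt := by
  have hq : ∀ g ∈ E.Q, n * n * g = g * (n * n) := by
    intro g hg
    obtain ⟨u, hu, h1⟩ := hn.q g hg
    apply comm_of_conj
    rw [mc, h1, cm, h1, conj_of_comm (hn.w u hu), ← mul_assoc, S.Wt_sq hu, one_mul]
  obtain ⟨μ, hμ, g, hg, h1⟩ := hn.t
  obtain ⟨α, hα, h3⟩ := hn.q g hg
  obtain ⟨v, hv⟩ := Q_sq hg
  have e3 := S.Wt_Q hμ hg
  have h2 : (n * n) * E.t * (n * n)⁻¹ = (μ * α * μ * E.w v) * E.t := by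
    rw [mc, h1, cm, cm, h1, h3, conj_of_comm (hn.w μ hμ), ← hv]
    calc μ * (α * g) * (μ * g * E.t) = μ * α * (g * μ) * g * E.t := by group
      _ = _ := by rw [← e3]; group
  exact core2_cent (hn.mul hn).w hq
    (S.Wt.mul_mem (S.Wt.mul_mem (S.Wt.mul_mem hμ hα) hμ) (S.w_mem_Wt v)) h2

/-- an element `m ∈ N₂` with `m t` an involution is in `ŴQ`. -/
theorem mem_of_inv {m : G} (hm : S.InN2 m) (h : m * E.t * (m * E.t) = 1) :
    ∃ η ∈ S.Wt, ∃ g ∈ E.Q, m = η * g := by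
  obtain ⟨μ, hμ, g, hg, h1⟩ := hm.t
  have h2 := t_conj h1
  have h3 : m * (E.t * m * E.t⁻¹) = 1 := by
    rw [t_sq', ← h]; group
  rw [h2] at h3
  -- `μ g = m²`
  have h4 : μ * g = m * m := by
    have h5 : (μ * g)⁻¹ = m⁻¹ * m⁻¹ := by
      calc (μ * g)⁻¹ = m⁻¹ * (m * ((μ * g)⁻¹ * m)) * m⁻¹ := by group
        _ = _ := by rw [h3]; group
    rw [← inv_inv (μ * g), h5, mul_inv_rev, inv_inv]
  rw [h4] at h1
  exact core2 hm.w hm.q (sq_mem2 hm) h1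

end QGrown

end Cfsg.Agent.StdRank2.UFive
end

-- part: StdRank2/UFive/GrowR
section
/-!
# `QGrown → Grown` (type `U₅(q)`), part 4: `R = P^na`, `[P, R] ≤ C`, `[A, R] ≤ PC`
-/

set_option autoImplicit false
set_option linter.unusedSectionVars false

namespace Cfsg.Agent.StdRank2.UFive

open Subgroup Cfsg.Agent.StdRank2.UFour

variable {F : Type*} [Field F] [CharP F 2] {B : Bar F} {G : Type*} [Group G]

namespace QGrown

open NOne RootLem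

variable {E : Env B G} (S : QGrown E)

theorem na_inv : E.na⁻¹ = E.na := WEnv.inv_of_sq E.na_sq

theorem na_na (g : G) : E.na * (E.na * g * E.na⁻¹) * E.na⁻¹ = g := by
  have e : E.na * (E.na * g * E.na⁻¹) * E.na⁻¹ = (E.na * E.na) * g * (E.na * E.na)⁻¹ := by group
  rw [e, E.na_sq]; group

/-- `R = P^na`. -/
def R : Subgroup G := S.P.comap (MulAut.conj E.na).toMonoidHom

theorem mem_R {g : G} : g ∈ S.R ↔ E.na * g * E.na⁻¹ ∈ S.P := Iff.rfl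

theorem na_P {g : G} (hg : g ∈ S.P) : E.na * g * E.na⁻¹ ∈ S.R := by
  rw [S.mem_R, na_na]; exact hg

theorem p2_R (q : Tp B) : E.p2 q ∈ S.R := by
  rw [S.mem_R, E.na_2]; exact S.p1_mem q

theorem B_le_R {g : G} (hg : g ∈ S.Bb) : g ∈ S.R := S.mem_R.2 (S.Z_le (S.na_B g hg))

/-- transport of commutation by `na` -/
theorem na_comm {g k : G} (h : (E.na * g * E.na⁻¹) * (E.na * k * E.na⁻¹) =
    (E.na * k * E.na⁻¹) * (E.na * g * E.na⁻¹)) : g * k = k * g := by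
  have h1 : E.na * (g * k) * E.na⁻¹ = E.na * (k * g) * E.na⁻¹ := by
    rw [cm, h, ← cm]
  exact mul_left_cancel (mul_right_cancel h1)

theorem na_Wt {ω : G} (hω : ω ∈ S.Wt) : E.na * ω * E.na⁻¹ ∈ S.Wt := by
  obtain ⟨r, hr, c, hc, b, hb, rfl⟩ := hω
  rw [cm, cm]
  exact S.Wt.mul_mem (S.Wt.mul_mem (S.B_le_Wt (S.na_Z r hr)) (S.C_le_Wt (S.na_C c hc)))
    (S.Z_le_Wt (S.na_B b hb))

theorem na_InN2 {n : G} (hn : S.InN2 n) : S.InN2 (E.na * n * E.na⁻¹) := by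
  refine hn.conj (fun ω hω => S.na_Wt hω) (fun ω hω => ?_) E.na_Q E.t_na.symm
  have := S.na_Wt hω
  rwa [na_inv] at this ⊢

theorem xa_Wt {ω : G} (hω : ω ∈ S.Wt) (s : F) : E.xa s * ω * (E.xa s)⁻¹ ∈ S.Wt := by
  obtain ⟨r, hr, c, hc, b, hb, rfl⟩ := hω
  obtain ⟨r1, hr1, h1⟩ := S.a_C s c hc
  obtain ⟨r2, hr2, c2, hc2, h2⟩ := S.a_B s b hb
  rw [cm, cm, conj_of_comm (S.Z_a r hr s).symm, h1, h2]
  exact S.Wt.mul_mem (S.Wt.mul_mem (S.Z_le_Wt hr) (S.Wt.mul_mem (S.Z_le_Wt hr1) (S.C_le_Wt hc)))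
    (S.Wt.mul_mem (S.Wt.mul_mem (S.Z_le_Wt hr2) (S.C_le_Wt hc2)) (S.B_le_Wt hb))

theorem xa_inv (s : F) : (E.xa s)⁻¹ = E.xa s := WEnv.inv_of_sq (E.xa_sq s)

theorem xa_InN2 {n : G} (hn : S.InN2 n) (s : F) : S.InN2 (E.xa s * n * (E.xa s)⁻¹) := by
  refine hn.conj (fun ω hω => S.xa_Wt hω s) (fun ω hω => ?_)
    (fun g => ⟨E.xa_Q s g, fun h => ?_⟩) (E.t_a s).symm
  · have := S.xa_Wt hω s
    rwa [xa_inv] at this ⊢
  · have h1 := E.xa_Q s _ h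
    have e : E.xa s * (E.xa s * g * (E.xa s)⁻¹) * (E.xa s)⁻¹ = (E.xa s * E.xa s) * g * (E.xa s * E.xa s)⁻¹ := by
      group
    rw [e, E.xa_sq] at h1
    simpa using h1

theorem P_InN2 [Finite G] {p : G} (hp : p ∈ S.P) : S.InN2 p where
  w := S.comm_Wt (fun r hr => S.P_z hp hr) (fun r hr => S.P_c hp hr) (fun r hr => S.P_B hp hr)
  q g hg := by
    obtain ⟨q, x, q', rfl⟩ := (E.mem_Q g).1 hg
    obtain ⟨r, hr, h1⟩ := S.P_comm p hp _ (S.p1_mem q)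
    obtain ⟨c, hc, h2⟩ := S.P_2 p hp q'
    refine ⟨r * c, S.Wt.mul_mem (S.Z_le_Wt hr) (S.C_le_Wt hc), ?_⟩
    rw [cm, cm, h1, h2, conj_of_comm (S.P_c hp (S.xc_mem x))]
    have e1 := S.C_Q c hc _ (E.Q.mul_mem (E.p1_memQ q) (E.c_mem x))
    calc r * E.p1 q * E.xc x * (c * E.p2 q') = r * ((E.p1 q * E.xc x) * c) * E.p2 q' := by group
      _ = _ := by rw [← e1]; group
  t := by
    obtain ⟨r, hr, q, h⟩ := S.P_t p hp
    exact ⟨r, S.Z_le_Wt hr, _, E.p1_memQ q, h⟩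

theorem R_InN2 [Finite G] {g : G} (hg : g ∈ S.R) : S.InN2 g := by
  have h := S.na_InN2 (S.P_InN2 (S.mem_R.1 hg))
  rwa [na_na] at h

/-! ### the action of the torus -/

theorem T_R {k g : G} (hk : k ∈ E.T) (hg : g ∈ S.R) : k * g * k⁻¹ ∈ S.R := by
  rw [S.mem_R]
  have e : E.na * (k * g * k⁻¹) * E.na⁻¹ =
      (E.na * k * E.na⁻¹) * (E.na * g * E.na⁻¹) * (E.na * k * E.na⁻¹)⁻¹ := by group
  rw [e]
  exact S.P_T _ ((E.na_T k).1 hk) _ hg

/-- `h₁` centralises `R`. -/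
theorem h1_R {g : G} (hg : g ∈ S.R) : E.hh S.l 1 * g = g * E.hh S.l 1 := by
  apply na_comm (E := E)
  rw [E.na_hh]
  exact S.P_h _ hg

theorem h1_p1 (q : Tp B) : E.hh S.l 1 * E.p1 q * (E.hh S.l 1)⁻¹ = E.p1 (Tp.sm (S.l : F) q) := by
  rw [E.hh_1]
  congr 2
  have h1 : (S.l : F) ≠ 0 := S.l.ne_zero
  rw [S.l_K, Units.val_one, map_one]
  field_simp

/-- equal products `Z p1` have equal first coordinates -/
theorem Z_p1_w {r r' : G} {q q' : Tp B} (hr : r ∈ S.Z) (hr' : r' ∈ S.Z)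
    (h : r * E.p1 q = r' * E.p1 q') : q.w = q'.w := by
  have h1 : r'⁻¹ * r = E.p1 (q' * q⁻¹) := by
    rw [E.p1_mul, ← E.p1_inv]
    calc r'⁻¹ * r = r'⁻¹ * (r * E.p1 q) * (E.p1 q)⁻¹ := by group
      _ = _ := by rw [h]; group
  have h2 : (q' * q⁻¹).w = 0 := by
    apply w_zero_of_comm (E := E)
    intro q
    rw [← h1]
    exact S.Z_Q _ (S.Z.mul_mem (S.Z.inv_mem hr') hr) _ (E.p1_memQ q)
  rw [Tp.mul_w, Tp.inv_w] at h2
  exact (Tp.eq_of h2).symm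

theorem P_fix {p : G} (hp : p ∈ S.P) (h : E.hh S.l 1 * p = p * E.hh S.l 1) : p = 1 := by
  have fixw : ∀ q : Tp B, (Tp.sm (S.l : F) q).w = q.w → q.w = 0 := fun q hq => S.l_fix hq
  have hT := E.hh_mem S.l 1
  -- step 1: `p t p⁻¹ ∈ Z t`
  obtain ⟨r, hr, q, ht⟩ := S.P_t p hp
  have h1 : r * E.p1 q = (E.hh S.l 1 * r * (E.hh S.l 1)⁻¹) * E.p1 (Tp.sm (S.l : F) q) := by
    apply mul_right_cancel (b := E.t)
    rw [← ht, ← h1_p1, ← cm]
    have e : E.hh S.l 1 * (r * E.p1 q) * (E.hh S.l 1)⁻¹ * E.t =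
        E.hh S.l 1 * (r * E.p1 q * E.t) * (E.hh S.l 1)⁻¹ := by
      rw [cm _ _ E.t, conj_of_comm (E.T_t _ hT).symm]
    rw [e, ← ht]
    calc p * E.t * p⁻¹ = p * (E.hh S.l 1 * E.t * (E.hh S.l 1)⁻¹) * p⁻¹ := by
          rw [conj_of_comm (E.T_t _ hT).symm]
      _ = (p * E.hh S.l 1) * E.t * (p * E.hh S.l 1)⁻¹ := by group
      _ = _ := by rw [← h]; group
  have h2 := fixw q (S.Z_p1_w hr (S.rootZ.conj_T _ hT r hr) h1).symm
  obtain ⟨k, hk⟩ := ofK_of_w (E := E) h2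
  rw [hk] at ht
  obtain ⟨r1, hr1, q1, h3⟩ := S.P_cent p hp _ (S.Z.mul_mem hr (S.xz_mem k)) ht
  -- step 2: `p ∈ Z`
  have h4 : r1 * E.p1 q1 = (E.hh S.l 1 * r1 * (E.hh S.l 1)⁻¹) * E.p1 (Tp.sm (S.l : F) q1) := by
    rw [← h1_p1, ← cm, ← h3, conj_of_comm h]
  have h5 := fixw q1 (S.Z_p1_w hr1 (S.rootZ.conj_T _ hT r1 hr1) h4).symm
  obtain ⟨k1, hk1⟩ := ofK_of_w (E := E) h5
  have hpZ : p ∈ S.Z := by rw [h3, hk1]; exact S.Z.mul_mem hr1 (S.xz_mem k1)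
  -- step 3
  have key : ∀ c : B.K, E.xz (B.nm (S.l : F) * c) = E.xz c → c = 0 := by
    intro c hc
    have h1 : B.nm (S.l : F) * c = c := by
      have h2 : E.w (B.nm (S.l : F) * c, 0, 0) = E.w (c, 0, 0) := by rw [E.w_z, E.w_z, hc]
      exact congrArg (fun v : B.V => v.1) (E.toWEnv.w_injective h2)
    have h2 : (S.l : F) * ((S.l : F) * c) = c := by
      have := congrArg Subtype.val h1
      change (S.l : F) * B.s (S.l : F) * (c : F) = c at this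
      rw [S.l_K] at this
      linear_combination this
    have h3 : (S.l : F) * (c + (S.l : F) * c) = c + (S.l : F) * c := by
      rw [mul_add, h2, add_comm]
    have h5 := S.l_fix (Tp.eq_of (by rw [add_comm]; exact S.l_fix h3))
    exact Subtype.ext h5
  obtain ⟨c, hc⟩ := S.rootZ.conj_t p hpZ
  have h6 : E.xz (B.nm (S.l : F) * c) = E.xz c := by
    rw [← E.hh_z S.l 1]
    apply mul_right_cancel (b := E.t)
    have e : E.hh S.l 1 * E.xz c * (E.hh S.l 1)⁻¹ * E.t = E.hh S.l 1 * (E.xz c * E.t) * (E.hh S.l 1)⁻¹ := by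
      rw [cm _ _ E.t, conj_of_comm (E.T_t _ hT).symm]
    rw [e, ← hc]
    symm
    calc p * E.t * p⁻¹ = p * (E.hh S.l 1 * E.t * (E.hh S.l 1)⁻¹) * p⁻¹ := by
          rw [conj_of_comm (E.T_t _ hT).symm]
      _ = (p * E.hh S.l 1) * E.t * (p * E.hh S.l 1)⁻¹ := by group
      _ = _ := by rw [← h]; group
  rw [key c h6, E.xz_zero, one_mul] at hc
  obtain ⟨x, rfl⟩ := S.rootZ.cent p hpZ (comm_of_conj hc)
  rw [key x (by rw [← E.hh_z S.l 1, conj_of_comm h]), E.xz_zero]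

theorem R_fix {g : G} (hg : g ∈ S.R) (h : E.hh 1 S.l * g = g * E.hh 1 S.l) : g = 1 := by
  have h1 := S.P_fix (S.mem_R.1 hg) (by
    rw [← E.na_hh 1 S.l]
    calc E.na * E.hh 1 S.l * E.na⁻¹ * (E.na * g * E.na⁻¹) = E.na * (E.hh 1 S.l * g) * E.na⁻¹ := by group
      _ = _ := by rw [h]; group)
  calc g = E.na⁻¹ * (E.na * g * E.na⁻¹) * E.na := by group
    _ = 1 := by rw [h1]; group

/-- commutators with a fixed point free element -/
theorem su_of_fix [Finite G] (R : Subgroup G) {h : G} (hR : ∀ y ∈ R, h * y * h⁻¹ ∈ R)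
    (fix : ∀ y ∈ R, h * y = y * h → y = 1) {g : G} (hg : g ∈ R) : ∃ y ∈ R, g = y⁻¹ * (h * y * h⁻¹) := by
  let f : R → R := fun y => ⟨(y : G)⁻¹ * (h * y * h⁻¹), R.mul_mem (R.inv_mem y.2) (hR _ y.2)⟩
  have hinj : Function.Injective f := by
    intro y z hyz
    have h1 : (y : G)⁻¹ * (h * y * h⁻¹) = (z : G)⁻¹ * (h * z * h⁻¹) := congrArg Subtype.val hyz
    have h2 : (z : G) * (y : G)⁻¹ = 1 := by
      apply fix _ (R.mul_mem z.2 (R.inv_mem y.2))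
      have h3 : (z : G) * (y : G)⁻¹ = h * (z * (y : G)⁻¹) * h⁻¹ := by
        calc (z : G) * (y : G)⁻¹ = z * ((y : G)⁻¹ * (h * y * h⁻¹)) * (h * (y : G)⁻¹ * h⁻¹) := by group
          _ = _ := by rw [h1]; group
      calc h * ((z : G) * (y : G)⁻¹) = (h * (z * (y : G)⁻¹) * h⁻¹) * h := by group
        _ = _ := by rw [← h3]
    exact Subtype.ext (mul_inv_eq_one.1 h2).symm
  obtain ⟨y, hy⟩ := (Finite.injective_iff_surjective.1 hinj) ⟨g, hg⟩
  exact ⟨y, y.2, (congrArg Subtype.val hy).symm⟩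

theorem su_R [Finite G] {g : G} (hg : g ∈ S.R) :
    ∃ y ∈ S.R, g = y⁻¹ * (E.hh 1 S.l * y * (E.hh 1 S.l)⁻¹) :=
  su_of_fix S.R (fun _ hy => S.T_R (E.hh_mem _ _) hy) (fun _ hy h => S.R_fix hy h) hg

/-- `[P, R] ≤ C B` -/
theorem P_R_CB [Finite G] {p g : G} (hp : p ∈ S.P) (hg : g ∈ S.R) :
    ∃ c ∈ S.C, ∃ b ∈ S.Bb, p * g * p⁻¹ = c * b * g := by
  obtain ⟨y, hy, rfl⟩ := S.su_R hg
  set h := E.hh 1 S.l with hh
  have hT : h ∈ E.T := E.hh_mem _ _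
  obtain ⟨_, ⟨r, hr, c, hc, b, hb, rfl⟩, h1⟩ := comm_mem2 (S.P_InN2 hp) (S.R_InN2 hy)
  have hr' : h * r = r * h := S.P_h r (S.Z_le hr)
  have hph : h * p = p * h := S.P_h p hp
  have h2 : p * (h * y * h⁻¹) * p⁻¹ = h * (r * c * b * y) * h⁻¹ := by
    rw [← h1]
    calc p * (h * y * h⁻¹) * p⁻¹ = (p * h) * y * (p * h)⁻¹ := by group
      _ = _ := by rw [← hph]; group
  refine ⟨c⁻¹ * (h * c * h⁻¹), S.C.mul_mem (S.C.inv_mem hc) (S.rootC.conj_T h hT c hc),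
    b⁻¹ * (h * b * h⁻¹), S.Bb.mul_mem (S.Bb.inv_mem hb) (S.rootB.conj_T h hT b hb), ?_⟩
  have h3 : p * (y⁻¹ * (h * y * h⁻¹)) * p⁻¹ =
      y⁻¹ * ((r * c * b)⁻¹ * (h * (r * c * b) * h⁻¹)) * (h * y * h⁻¹) := by
    calc p * (y⁻¹ * (h * y * h⁻¹)) * p⁻¹ = (p * y * p⁻¹)⁻¹ * (p * (h * y * h⁻¹) * p⁻¹) := by group
      _ = _ := by rw [h1, h2]; group
  have hc' := S.rootC.conj_T h hT c hc
  have hb' := S.rootB.conj_T h hT b hb
  have h4 : (r * c * b)⁻¹ * (h * (r * c * b) * h⁻¹) = c⁻¹ * (h * c * h⁻¹) * (b⁻¹ * (h * b * h⁻¹)) := by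
    rw [cm, cm, conj_of_comm hr']
    have e1 := S.Z_B r hr b hb
    have e2 := S.Z_C r hr c hc
    have e3 : b⁻¹ * (c⁻¹ * (h * c * h⁻¹)) = c⁻¹ * (h * c * h⁻¹) * b⁻¹ :=
      (S.C_B _ (S.C.mul_mem (S.C.inv_mem hc) hc') _ (S.Bb.inv_mem hb)).symm
    calc (r * c * b)⁻¹ * (r * (h * c * h⁻¹) * (h * b * h⁻¹))
        = (b⁻¹ * (c⁻¹ * (h * c * h⁻¹))) * (h * b * h⁻¹) := by group
      _ = _ := by rw [e3]; group
  have h5 : c⁻¹ * (h * c * h⁻¹) * (b⁻¹ * (h * b * h⁻¹)) ∈ S.Wt :=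
    S.Wt.mul_mem (S.C_le_Wt (S.C.mul_mem (S.C.inv_mem hc) hc')) (S.B_le_Wt (S.Bb.mul_mem (S.Bb.inv_mem hb) hb'))
  have h6 := (S.R_InN2 (S.R.inv_mem hy)).w _ h5
  rw [h3, h4, h6]
  group

/-- `[P, R] ≤ C` -/
theorem P_R [Finite G] {p g : G} (hp : p ∈ S.P) (hg : g ∈ S.R) : ∃ c ∈ S.C, p * g * p⁻¹ = c * g := by
  obtain ⟨c, hc, b, hb, h1⟩ := S.P_R_CB hp hg
  obtain ⟨c', hc', b', hb', h2⟩ := S.P_R_CB (S.mem_R.1 hg) (S.na_P hp)
  have h3 : g * p * g⁻¹ = (E.na * c' * E.na⁻¹) * (E.na * b' * E.na⁻¹) * p := by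
    calc g * p * g⁻¹ = (E.na * (E.na * g * E.na⁻¹) * E.na⁻¹) * (E.na * (E.na * p * E.na⁻¹) * E.na⁻¹) *
          (E.na * (E.na * g * E.na⁻¹) * E.na⁻¹)⁻¹ := by rw [na_na, na_na]
      _ = E.na * ((E.na * g * E.na⁻¹) * (E.na * p * E.na⁻¹) * (E.na * g * E.na⁻¹)⁻¹) * E.na⁻¹ := by group
      _ = (E.na * c' * E.na⁻¹) * (E.na * b' * E.na⁻¹) * (E.na * (E.na * p * E.na⁻¹) * E.na⁻¹) := by
          rw [h2]; group
      _ = _ := by rw [na_na]
  have hc2 := S.na_C c' hc'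
  have hb2 := S.na_B b' hb'
  set c2 := E.na * c' * E.na⁻¹ with hc2d
  set r2 := E.na * b' * E.na⁻¹ with hr2d
  have h4 : r2 * (c2 * c) * b = 1 := by
    have e1 : c * b = p * g * p⁻¹ * g⁻¹ := by rw [h1]; group
    have e2 : c2 * r2 = g * p * g⁻¹ * p⁻¹ := by rw [h3]; group
    have e3 := S.Z_C r2 hb2 c2 hc2
    calc r2 * (c2 * c) * b = (r2 * c2) * (c * b) := by group
      _ = (g * p * g⁻¹ * p⁻¹) * (p * g * p⁻¹ * g⁻¹) := by rw [e3, e1, e2]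
      _ = 1 := by group
  have h5 := (S.Wt_inj hb2 (S.C.mul_mem hc2 hc) hb h4).2.2
  exact ⟨c, hc, by rw [h1, h5, mul_one]⟩

end QGrown

end Cfsg.Agent.StdRank2.UFive
end

-- part: StdRank2/UFive/GrowAR
section
/-!
# `QGrown → Grown` (type `U₅(q)`), part 5: `[A, R] ≤ PC`, conclusion
-/

set_option autoImplicit false
set_option linter.unusedSectionVars false

namespace Cfsg.Agent.StdRank2.UFive

open Subgroup Cfsg.Agent.StdRank2.UFour

variable {F : Type*} [Field F] [CharP F 2] {B : Bar F} {G : Type*} [Group G]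

namespace QGrown

open NOne RootLem

variable {E : Env B G} (S : QGrown E)

/-- `PC` -/
def PC : Subgroup G where
  carrier := {g | ∃ p ∈ S.P, ∃ c ∈ S.C, g = p * c}
  one_mem' := ⟨1, one_mem _, 1, one_mem _, by group⟩
  mul_mem' := by
    rintro _ _ ⟨p, hp, c, hc, rfl⟩ ⟨p', hp', c', hc', rfl⟩
    refine ⟨p * p', S.P.mul_mem hp hp', c * c', S.C.mul_mem hc hc', ?_⟩
    have e1 := S.C_P c hc p' hp'
    calc p * c * (p' * c') = p * (c * p') * c' := by group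
      _ = _ := by rw [e1]; group
  inv_mem' := by
    rintro _ ⟨p, hp, c, hc, rfl⟩
    refine ⟨p⁻¹, S.P.inv_mem hp, c⁻¹, S.C.inv_mem hc, ?_⟩
    rw [mul_inv_rev]
    exact S.C_P _ (S.C.inv_mem hc) _ (S.P.inv_mem hp)

theorem P_PC {g : G} (hg : g ∈ S.P) : g ∈ S.PC := ⟨g, hg, 1, one_mem _, by group⟩
theorem C_PC {g : G} (hg : g ∈ S.C) : g ∈ S.PC := ⟨1, one_mem _, g, hg, by group⟩

theorem A_PC {a y : G} (ha : a ∈ S.A) (hy : y ∈ S.PC) : a * y * a⁻¹ ∈ S.PC := by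
  obtain ⟨p, hp, c, hc, rfl⟩ := hy
  obtain ⟨r, hr, h⟩ := S.A_C a ha c hc
  rw [cm, conj_of_comm (S.A_P a ha p hp), h]
  exact S.PC.mul_mem (S.P_PC hp) (S.PC.mul_mem (S.P_PC (S.Z_le hr)) (S.C_PC hc))

theorem T_PC {k y : G} (hk : k ∈ E.T) (hy : y ∈ S.PC) : k * y * k⁻¹ ∈ S.PC := by
  obtain ⟨p, hp, c, hc, rfl⟩ := hy
  rw [cm]
  exact S.PC.mul_mem (S.P_PC (S.P_T k hk p hp)) (S.C_PC (S.rootC.conj_T k hk c hc))

theorem C_R {c g : G} (hc : c ∈ S.C) (hg : g ∈ S.R) : c * g = g * c := by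
  apply na_comm (E := E)
  exact S.C_P _ (S.na_C c hc) _ (S.mem_R.1 hg)

/-- displacements of elements of `R` -/
theorem R_t {g : G} (hg : g ∈ S.R) : ∃ b ∈ S.Bb, ∃ q, g * E.t * g⁻¹ = b * E.p2 q * E.t := by
  obtain ⟨r, hr, q, h⟩ := S.P_t _ (S.mem_R.1 hg)
  refine ⟨_, S.na_Z r hr, q, ?_⟩
  have h1 : E.na * (g * E.t * g⁻¹) * E.na⁻¹ = r * E.p1 q * E.t := by
    rw [← h, cm, cm, ci, conj_of_comm E.t_na.symm]
  calc g * E.t * g⁻¹ = E.na * (E.na * (g * E.t * g⁻¹) * E.na⁻¹) * E.na⁻¹ := (na_na _).symm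
    _ = (E.na * r * E.na⁻¹) * (E.na * E.p1 q * E.na⁻¹) * (E.na * E.t * E.na⁻¹) := by rw [h1]; group
    _ = _ := by rw [E.na_1, conj_of_comm E.t_na.symm]

theorem R_onto (w : F) : ∃ g ∈ S.R, ∃ b ∈ S.Bb, ∃ q : Tp B, q.w = w ∧ g * E.t * g⁻¹ = b * E.p2 q * E.t := by
  obtain ⟨p, hp, r, hr, q, hq, h⟩ := S.P_onto w
  refine ⟨_, S.na_P hp, _, S.na_Z r hr, q, hq, ?_⟩
  calc (E.na * p * E.na⁻¹) * E.t * (E.na * p * E.na⁻¹)⁻¹
      = (E.na * p * E.na⁻¹) * (E.na * E.t * E.na⁻¹) * (E.na * p * E.na⁻¹)⁻¹ := by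
        rw [conj_of_comm E.t_na.symm]
    _ = E.na * (p * E.t * p⁻¹) * E.na⁻¹ := by group
    _ = (E.na * r * E.na⁻¹) * (E.na * E.p1 q * E.na⁻¹) * (E.na * E.t * E.na⁻¹) := by rw [h]; group
    _ = _ := by rw [E.na_1, conj_of_comm E.t_na.symm]

/-- `R` acts on `p1` by translations -/
theorem R_1 {g : G} (hg : g ∈ S.R) (q : Tp B) : ∃ c ∈ S.C, g * E.p1 q * g⁻¹ = c * E.p1 q := by
  obtain ⟨c, hc, h⟩ := S.P_2 _ (S.mem_R.1 hg) q
  refine ⟨_, S.na_C c hc, ?_⟩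
  calc g * E.p1 q * g⁻¹ = E.na * ((E.na * g * E.na⁻¹) * (E.na * E.p1 q * E.na⁻¹) *
        (E.na * g * E.na⁻¹)⁻¹) * E.na⁻¹ := by
        rw [← ci, ← cm, ← cm, na_na]
    _ = _ := by rw [E.na_1, h, cm, E.na_2]

theorem Q_R {g : G} (hg : g ∈ E.Q) : ∃ p ∈ S.P, ∃ c ∈ S.C, ∃ k ∈ S.R, g = p * c * k := by
  obtain ⟨q, x, q', rfl⟩ := (E.mem_Q g).1 hg
  exact ⟨_, S.p1_mem q, _, S.xc_mem x, _, S.p2_R q', rfl⟩

theorem Wt_R {g : G} (hg : g ∈ S.Wt) : ∃ p ∈ S.P, ∃ c ∈ S.C, ∃ k ∈ S.R, g = p * c * k := by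
  obtain ⟨r, hr, c, hc, b, hb, rfl⟩ := hg
  exact ⟨_, S.Z_le hr, c, hc, _, S.B_le_R hb, rfl⟩

theorem PCR_mul [Finite G] {g g' : G} (h : ∃ p ∈ S.P, ∃ c ∈ S.C, ∃ k ∈ S.R, g = p * c * k)
    (h' : ∃ p ∈ S.P, ∃ c ∈ S.C, ∃ k ∈ S.R, g' = p * c * k) :
    ∃ p ∈ S.P, ∃ c ∈ S.C, ∃ k ∈ S.R, g * g' = p * c * k := by
  obtain ⟨p, hp, c, hc, k, hk, rfl⟩ := h
  obtain ⟨p', hp', c', hc', k', hk', rfl⟩ := h'
  obtain ⟨c2, hc2, h2⟩ := S.P_R (S.P.inv_mem hp') hk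
  refine ⟨p * p', S.P.mul_mem hp hp', c * c2 * c', S.C.mul_mem (S.C.mul_mem hc hc2) hc', k * k',
    S.R.mul_mem hk hk', ?_⟩
  have e1 : k * p' = p' * (c2 * k) := by
    rw [← h2]; group
  have e2 := S.C_P c hc p' hp'
  have e3 := (S.C_R hc' hk).symm
  calc p * c * k * (p' * c' * k') = p * c * (k * p') * c' * k' := by group
    _ = p * (c * p') * c2 * (k * c') * k' := by rw [e1]; group
    _ = _ := by rw [e2, e3]; group

/-- `N₂ = P C R`. -/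
theorem N2_le [Finite G] {n : G} (hn : S.InN2 n) : ∃ p ∈ S.P, ∃ c ∈ S.C, ∃ g ∈ S.R, n = p * c * g := by
  obtain ⟨ω, hω, g0, hg0, h1⟩ := hn.t
  obtain ⟨q, x, q', rfl⟩ := (E.mem_Q g0).1 hg0
  obtain ⟨p, hp, r, hr, q1, hq1, hpt⟩ := S.P_onto q.w
  obtain ⟨g, hg, b, hb, q2, hq2, hgt⟩ := S.R_onto q'.w
  obtain ⟨k1, hk1⟩ := Env.exists_ofK hq1
  obtain ⟨k2, hk2⟩ := Env.exists_ofK hq2
  have hN : S.InN2 (p * g) := (S.P_InN2 hp).mul (S.R_InN2 hg)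
  -- the displacement of `p g`
  have h2 : ∃ η ∈ S.Wt, (p * g) * E.t * (p * g)⁻¹ = η * (E.p1 q * E.xc x * E.p2 q') * E.t := by
    obtain ⟨c1, hc1, h3⟩ := S.P_2 p hp q2
    obtain ⟨v, hv⟩ := Q_mul_comm (E := E) (E.p2_memQ q') (E.p1_memQ q)
    have e1 : E.p1 q1 = E.xz k1 * E.p1 q := by rw [hk1, E.p1_mul, E.p1_K]
    have e2 : E.p2 q2 = E.xb k2 * E.p2 q' := by rw [hk2, E.p2_mul, E.p2_K]
    have hW1 : b * c1 * E.xb k2 ∈ S.Wt :=
      S.Wt.mul_mem (S.Wt.mul_mem (S.B_le_Wt hb) (S.C_le_Wt hc1)) (S.B_le_Wt (S.xb_mem k2))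
    have hW2 : r * E.xz k1 ∈ S.Wt := S.Wt.mul_mem (S.Z_le_Wt hr) (S.Z_le_Wt (S.xz_mem k1))
    refine ⟨b * c1 * E.xb k2 * (r * E.xz k1) * E.w v * E.xc x,
      S.Wt.mul_mem (S.Wt.mul_mem (S.Wt.mul_mem hW1 hW2) (S.w_mem_Wt v)) (S.C_le_Wt (S.xc_mem x)), ?_⟩
    have e3 := S.Wt_Q hW2 (E.p2_memQ q')
    have e4 := E.c_1 x q
    calc (p * g) * E.t * (p * g)⁻¹ = p * (g * E.t * g⁻¹) * p⁻¹ := by group
      _ = (p * b * p⁻¹) * (p * E.p2 q2 * p⁻¹) * (p * E.t * p⁻¹) := by rw [hgt]; group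
      _ = b * (c1 * E.p2 q2) * (r * E.p1 q1 * E.t) := by rw [conj_of_comm (S.P_B hp hb), h3, hpt]
      _ = b * c1 * E.xb k2 * (E.p2 q' * (r * E.xz k1)) * E.p1 q * E.t := by rw [e1, e2]; group
      _ = b * c1 * E.xb k2 * (r * E.xz k1) * (E.p2 q' * E.p1 q) * E.t := by rw [← e3]; group
      _ = b * c1 * E.xb k2 * (r * E.xz k1) * E.w v * (E.p1 q * (E.xc x * E.xc x)) * E.p2 q' * E.t := by
          rw [hv, E.xc_sq]; group
      _ = b * c1 * E.xb k2 * (r * E.xz k1) * E.w v * ((E.xc x * E.p1 q) * E.xc x) * E.p2 q' * E.t := by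
          rw [e4]; group
      _ = _ := by group
  obtain ⟨η, hη, h2⟩ := h2
  have h3 : ((p * g)⁻¹ * n) * E.t * ((p * g)⁻¹ * n)⁻¹ = (ω * η⁻¹) * E.t := by
    have hW := S.Wt.mul_mem hω (S.Wt.inv_mem hη)
    calc ((p * g)⁻¹ * n) * E.t * ((p * g)⁻¹ * n)⁻¹ = (p * g)⁻¹ * (n * E.t * n⁻¹) * (p * g) := by group
      _ = (p * g)⁻¹ * ((ω * η⁻¹) * (η * (E.p1 q * E.xc x * E.p2 q') * E.t)) * (p * g) := by
          rw [h1]; group
      _ = ((p * g)⁻¹ * (ω * η⁻¹)) * (p * g) * E.t := by rw [← h2]; group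
      _ = _ := by rw [hN.inv.w _ hW]; group
  have hM : S.InN2 ((p * g)⁻¹ * n) := hN.inv.mul hn
  obtain ⟨θ, hθ, k, hk, h4⟩ := core2 hM.w hM.q (S.Wt.mul_mem hω (S.Wt.inv_mem hη)) h3
  have h5 : n = p * (g * (θ * k)) := by rw [← h4]; group
  rw [h5]
  refine S.PCR_mul ⟨p, hp, 1, one_mem _, 1, one_mem _, by group⟩
    (S.PCR_mul ⟨1, one_mem _, 1, one_mem _, g, hg, by group⟩ (S.PCR_mul (S.Wt_R hθ) (S.Q_R hk)))

/-- `N₂ = (PC) R` -/
theorem N2_le' [Finite G] {n : G} (hn : S.InN2 n) : ∃ y ∈ S.PC, ∃ g ∈ S.R, n = y * g := by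
  obtain ⟨p, hp, c, hc, g, hg, rfl⟩ := S.N2_le hn
  exact ⟨p * c, ⟨p, hp, c, hc, rfl⟩, g, hg, rfl⟩

theorem PC_N2 [Finite G] {y : G} (hy : y ∈ S.PC) : S.InN2 y := by
  obtain ⟨p, hp, c, hc, rfl⟩ := hy
  refine (S.P_InN2 hp).mul ⟨?_, ?_, ?_⟩
  · exact S.comm_Wt (fun r hr => (S.Z_C r hr c hc).symm) (fun r hr => S.C_C hc hr) (fun r hr => S.C_B c hc r hr)
  · exact fun g hg => ⟨1, S.Wt.one_mem, by rw [one_mul, conj_of_comm (S.C_Q c hc g hg)]⟩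
  · obtain ⟨x, hx⟩ := S.rootC.conj_t c hc
    exact ⟨_, S.C_le_Wt (S.xc_mem x), 1, E.Q.one_mem, by rw [hx, mul_one]⟩

/-- the torus argument: `a = [h₁, a']` -/
theorem A_R_aux [Finite G] {a' g : G} (ha' : a' ∈ S.A) (hg : g ∈ S.R) (h : S.InN2 (a'⁻¹ * g * a')) :
    ∃ y ∈ S.PC, (E.hh S.l 1 * a' * (E.hh S.l 1)⁻¹ * a'⁻¹) * g * (E.hh S.l 1 * a' * (E.hh S.l 1)⁻¹ * a'⁻¹)⁻¹ =
      y * g := by
  obtain ⟨y1, hy1, g1, hg1, h1⟩ := S.N2_le' h
  set k := E.hh S.l 1 with hk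
  have hT : k ∈ E.T := E.hh_mem _ _
  have hkg : k * g = g * k := S.h1_R hg
  have hkg1 : k⁻¹ * g1 = g1 * k⁻¹ := comm_inv (S.h1_R hg1)
  have hy2 : k⁻¹ * y1 * k ∈ S.PC := by
    have := S.T_PC (E.T.inv_mem hT) hy1
    rwa [inv_inv] at this
  have h2 : k⁻¹ * (a'⁻¹ * g * a') * k = (k⁻¹ * y1 * k * y1⁻¹) * (a'⁻¹ * g * a') := by
    calc k⁻¹ * (a'⁻¹ * g * a') * k = k⁻¹ * y1 * k * (k⁻¹ * g1) * k := by rw [h1]; group
      _ = k⁻¹ * y1 * k * y1⁻¹ * (y1 * g1) := by rw [hkg1]; group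
      _ = _ := by rw [h1]
  have h3 : a' * (k⁻¹ * y1 * k * y1⁻¹) * a'⁻¹ ∈ S.PC :=
    S.A_PC ha' (S.PC.mul_mem hy2 (S.PC.inv_mem hy1))
  refine ⟨_, S.T_PC hT h3, ?_⟩
  calc (k * a' * k⁻¹ * a'⁻¹) * g * (k * a' * k⁻¹ * a'⁻¹)⁻¹
      = k * a' * (k⁻¹ * (a'⁻¹ * g * a') * k) * a'⁻¹ * k⁻¹ := by group
    _ = k * (a' * (k⁻¹ * y1 * k * y1⁻¹) * a'⁻¹) * k⁻¹ * (k * g * k⁻¹) := by rw [h2]; group
    _ = _ := by rw [conj_of_comm hkg]

theorem h1_a (s : F) : E.hh S.l 1 * E.xa s * (E.hh S.l 1)⁻¹ = E.xa ((S.l : F) * s) := by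
  rw [E.hh_a]
  congr 1
  rw [Units.val_one, inv_one, mul_one]

/-- `[X_a, R] ≤ PC` -/
theorem xa_R [Finite G] (s : F) {g : G} (hg : g ∈ S.R) :
    ∃ y ∈ S.PC, E.xa s * g * (E.xa s)⁻¹ = y * g := by
  have hl : (S.l : F) + 1 ≠ 0 := fun h => S.l_ne (Tp.eq_of h)
  obtain ⟨y, hy, h⟩ := S.A_R_aux (S.xa_mem (s / ((S.l : F) + 1))) hg (by
    have := S.xa_InN2 (S.R_InN2 hg) (s / ((S.l : F) + 1))
    rwa [xa_inv] at this ⊢)
  refine ⟨y, hy, ?_⟩
  have e : E.hh S.l 1 * E.xa (s / ((S.l : F) + 1)) * (E.hh S.l 1)⁻¹ * (E.xa (s / ((S.l : F) + 1)))⁻¹ =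
      E.xa s := by
    rw [S.h1_a, xa_inv, ← E.xa_add]
    congr 1
    field_simp
  rwa [e] at h

/-- `a R a⁻¹ ≤ N₂` -/
theorem A_R_N2 [Finite G] {a g : G} (ha : a ∈ S.A) (hg : g ∈ S.R) : S.InN2 (a * g * a⁻¹) := by
  have hgN := S.R_InN2 hg
  have hai := S.A_inv ha
  have hw : ∀ ω ∈ S.Wt, a * ω * a⁻¹ ∈ S.Wt := by
    rintro _ ⟨r, hr, c, hc, b, hb, rfl⟩
    obtain ⟨r1, hr1, h1⟩ := S.A_C a ha c hc
    obtain ⟨r2, hr2, c2, hc2, h2⟩ := S.A_B ha hb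
    rw [cm, cm, conj_of_comm (S.Z_A r hr a ha).symm, h1, h2]
    exact S.Wt.mul_mem (S.Wt.mul_mem (S.Z_le_Wt hr) (S.Wt.mul_mem (S.Z_le_Wt hr1) (S.C_le_Wt hc)))
      (S.Wt.mul_mem (S.Wt.mul_mem (S.Z_le_Wt hr2) (S.C_le_Wt hc2)) (S.B_le_Wt hb))
  have hw' : ∀ ω ∈ S.Wt, a⁻¹ * ω * a ∈ S.Wt := by
    intro ω hω
    have := hw ω hω
    rwa [hai] at this ⊢
  have cw : ∀ ω ∈ S.Wt, a * g * a⁻¹ * ω = ω * (a * g * a⁻¹) := by
    intro ω hω
    have h1 := hgN.w _ (hw' ω hω)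
    calc a * g * a⁻¹ * ω = a * (g * (a⁻¹ * ω * a)) * a⁻¹ := by group
      _ = _ := by rw [h1]; group
  -- `Q`
  have q1 : ∀ q, ∃ ω ∈ S.Wt, (a * g * a⁻¹) * E.p1 q * (a * g * a⁻¹)⁻¹ = ω * E.p1 q := by
    intro q
    obtain ⟨c, hc, h⟩ := S.R_1 hg q
    have h1 := S.A_P a ha _ (S.p1_mem q)
    refine ⟨_, hw c (S.C_le_Wt hc), ?_⟩
    calc (a * g * a⁻¹) * E.p1 q * (a * g * a⁻¹)⁻¹ = a * (g * (a⁻¹ * E.p1 q) * a * g⁻¹) * a⁻¹ := by group
      _ = a * (g * E.p1 q * g⁻¹) * a⁻¹ := by rw [comm_inv h1]; group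
      _ = (a * c * a⁻¹) * (a * E.p1 q * a⁻¹) := by rw [h]; group
      _ = _ := by rw [conj_of_comm h1]
  have q2 : ∀ q, ∃ ω ∈ S.Wt, (a * g * a⁻¹) * E.p2 q * (a * g * a⁻¹)⁻¹ = ω * E.p2 q := by
    intro q
    obtain ⟨p, hp, c, hc, h⟩ := S.A_2 _ (S.A.inv_mem ha) q
    rw [inv_inv] at h
    obtain ⟨c1, hc1, h1⟩ := comm_mem2 hgN (S.P_InN2 hp)
    obtain ⟨b, hb, h2⟩ := hgN.q _ (E.p2_memQ q)
    have h3 : g * (p * c * E.p2 q) * g⁻¹ = (c1 * b) * (p * c * E.p2 q) := by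
      rw [cm, cm, h1, h2, conj_of_comm (S.C_R hc hg).symm]
      have e1 := (S.PC_N2 (S.PC.mul_mem (S.P_PC hp) (S.C_PC hc))).w b hb
      calc c1 * p * c * (b * E.p2 q) = c1 * (p * c * b) * E.p2 q := by group
        _ = _ := by rw [e1]; group
    refine ⟨_, hw _ (S.Wt.mul_mem hc1 hb), ?_⟩
    calc (a * g * a⁻¹) * E.p2 q * (a * g * a⁻¹)⁻¹ = a * (g * (a⁻¹ * E.p2 q * a) * g⁻¹) * a⁻¹ := by group
      _ = a * (c1 * b) * (a⁻¹ * E.p2 q * a) * a⁻¹ := by rw [h, h3]; group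
      _ = _ := by group
  have cq : ∀ k ∈ E.Q, ∃ ω ∈ S.Wt, (a * g * a⁻¹) * k * (a * g * a⁻¹)⁻¹ = ω * k := by
    intro k hk
    obtain ⟨q, x, q', rfl⟩ := (E.mem_Q k).1 hk
    obtain ⟨ω, hω, h1⟩ := q1 q
    obtain ⟨η, hη, h2⟩ := q2 q'
    refine ⟨ω * η, S.Wt.mul_mem hω hη, ?_⟩
    rw [cm _ _ (E.p2 q'), cm _ _ (E.xc x), h1, h2, conj_of_comm (cw _ (S.C_le_Wt (S.xc_mem x)))]
    have e1 := S.Wt_Q hη (E.Q.mul_mem (E.p1_memQ q) (E.c_mem x))
    calc ω * E.p1 q * E.xc x * (η * E.p2 q') = ω * ((E.p1 q * E.xc x) * η) * E.p2 q' := by group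
      _ = _ := by rw [← e1]; group
  -- the displacement
  obtain ⟨s, hs⟩ := S.rootA.conj_t a ha
  obtain ⟨b, hb, q, hgt⟩ := S.R_t hg
  obtain ⟨y, hy, h1⟩ := S.xa_R s hg
  have h2 : g * E.xa s * g⁻¹ = y⁻¹ * E.xa s := by
    have : E.xa s * g = y * g * E.xa s := by rw [← h1]; group
    calc g * E.xa s * g⁻¹ = y⁻¹ * (y * g * E.xa s) * g⁻¹ := by group
      _ = _ := by rw [← this]; group
  obtain ⟨p3, hp3, c3, hc3, h3⟩ := S.A_2 a ha q
  have hat : a⁻¹ * E.t * a = E.xa s * E.t := by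
    rw [← hs, hai]
  have h4 : (a * g * a⁻¹) * E.t * (a * g * a⁻¹)⁻¹ =
      (a * y⁻¹ * a⁻¹) * (E.xa s * ((a * b * a⁻¹) * (p3 * c3 * E.p2 q)) * (E.xa s)⁻¹) * E.t := by
    calc (a * g * a⁻¹) * E.t * (a * g * a⁻¹)⁻¹ = a * (g * (a⁻¹ * E.t * a) * g⁻¹) * a⁻¹ := by group
      _ = a * ((g * E.xa s * g⁻¹) * (g * E.t * g⁻¹)) * a⁻¹ := by rw [hat]; group
      _ = (a * y⁻¹ * a⁻¹) * (a * E.xa s * a⁻¹) * (a * b * a⁻¹) * (a * E.p2 q * a⁻¹) *
            (a * E.t * a⁻¹) := by rw [h2, hgt]; group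
      _ = (a * y⁻¹ * a⁻¹) * E.xa s * (a * b * a⁻¹) * (p3 * c3 * E.p2 q) * (E.xa s * E.t) := by
          rw [conj_of_comm (S.A_A' ha (S.xa_mem s)), h3, hs]
      _ = _ := by rw [xa_inv]; group
  have hN1 : S.InN2 ((a * b * a⁻¹) * (p3 * c3 * E.p2 q)) := by
    refine InN2.mul ?_ (InN2.mul (S.PC_N2 (S.PC.mul_mem (S.P_PC hp3) (S.C_PC hc3))) (S.R_InN2 (S.p2_R q)))
    obtain ⟨r, hr, c, hc, h5⟩ := S.A_B ha hb
    rw [h5]
    exact (S.PC_N2 (S.PC.mul_mem (S.P_PC (S.Z_le hr)) (S.C_PC hc))).mul (S.R_InN2 (S.B_le_R hb))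
  have hN2 := (S.PC_N2 (S.A_PC ha (S.PC.inv_mem hy))).mul (S.xa_InN2 hN1 s)
  obtain ⟨η, hη, k, hk, h5⟩ := mem_of_inv hN2 (by
    rw [← h4]
    calc (a * g * a⁻¹) * E.t * (a * g * a⁻¹)⁻¹ * ((a * g * a⁻¹) * E.t * (a * g * a⁻¹)⁻¹)
        = (a * g * a⁻¹) * (E.t * E.t) * (a * g * a⁻¹)⁻¹ := by group
      _ = 1 := by rw [E.t_sq]; group)
  exact ⟨cw, cq, η, hη, k, hk, by rw [h4, h5]⟩

/-- `A = [A, h₁]` -/
theorem su_A [Finite G] {a : G} (ha : a ∈ S.A) :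
    ∃ a' ∈ S.A, a = E.hh S.l 1 * a' * (E.hh S.l 1)⁻¹ * a'⁻¹ := by
  have key : ∀ c : F, E.xa ((S.l : F) * c) = E.xa c → E.xa c = 1 := by
    intro c hc
    rw [S.l_fix (QL.xa_injective hc), E.xa_zero]
  obtain ⟨b, hb, h⟩ := RootLem.su S.rootA (E.hh_mem S.l 1) (fun c hc => key c (by
    rw [← S.h1_a, conj_of_comm hc])) (fun c hc => key c (by
      have := mul_right_cancel hc
      rwa [S.h1_a] at this)) ha
  refine ⟨b, hb, ?_⟩
  have h2 := S.rootA.conj_T _ (E.hh_mem S.l 1) b hb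
  rw [h]
  exact S.A_A' (S.A.inv_mem hb) h2

theorem A_R [Finite G] {a g : G} (ha : a ∈ S.A) (hg : g ∈ S.R) :
    ∃ p ∈ S.P, ∃ c ∈ S.C, a * g * a⁻¹ = p * c * g := by
  obtain ⟨a', ha', rfl⟩ := S.su_A ha
  obtain ⟨y, ⟨p, hp, c, hc, rfl⟩, h⟩ := S.A_R_aux ha' hg (by
    have := S.A_R_N2 (S.A.inv_mem ha') hg
    rwa [inv_inv] at this)
  exact ⟨p, hp, c, hc, h⟩

/-- **L4.** -/
def grown [Finite G] : Grown E where
  toQGrown := S
  R := S.R
  mem_R _ := Iff.rfl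
  P_B _ hg _ hk := S.P_B hg hk
  A_B _ ha _ hk := S.A_B ha hk
  P_R _ hg _ hk := S.P_R hg hk
  A_R _ ha _ hk := S.A_R ha hk

end QGrown

end Cfsg.Agent.StdRank2.UFive
end

-- part: StdRank2/UFive/SeedU5
section
/-!
# The primitive data of the seed for `U₅(q)`

`Pre E.toWEnv F` from `UFive.Env` and the rank one relation `nb p2(r) nb ∈ U h(1, β) nb U`.
-/

set_option autoImplicit false
set_option linter.unusedSectionVars false

namespace Cfsg.Agent.StdRank2.UFive.SeedU5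

open Subgroup Cfsg.Agent.StdRank2.UFour
open Cfsg.Agent.StdRank2.UFour.Seeding Cfsg.Agent.StdRank2.UFour.SeedMove
open Cfsg.Agent.StdRank2.UFour.SeedPre Cfsg.Agent.StdRank2.UFour.SeedOdd
open Cfsg.Agent.StdRank2.UFive.NOne

variable {F : Type*} [Field F] [CharP F 2] {B : Bar F} {G : Type*} [Group G]
variable (E : Cfsg.Agent.StdRank2.UFive.Env B G)

theorem hh_one : E.hh 1 1 = 1 := by
  have := E.hh_mul 1 1 1 1
  rw [mul_one] at this
  exact left_eq_mul.1 this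

/-- the torus `h(1, β)`. -/
def H1 : Subgroup G where
  carrier := {g | ∃ β, g = E.hh 1 β}
  one_mem' := ⟨1, (hh_one E).symm⟩
  mul_mem' := by
    rintro _ _ ⟨β, rfl⟩ ⟨β', rfl⟩
    exact ⟨β * β', by rw [← E.hh_mul, mul_one]⟩
  inv_mem' := by
    rintro _ ⟨β, rfl⟩
    refine ⟨β⁻¹, ?_⟩
    rw [inv_eq_iff_mul_eq_one, ← E.hh_mul, mul_inv_cancel, mul_one, hh_one]

/-- the rank one relation. -/
def Rank1 : Prop := ∀ r : Tp B, r ≠ 1 → ∃ u ∈ UU E.toWEnv, ∃ β : Fˣ, ∃ u' ∈ UU E.toWEnv,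
  E.nb * E.p2 r * E.nb = u * E.hh 1 β * E.nb * u'

variable {E}

theorem nb_inv : E.nb⁻¹ = E.nb := WEnv.inv_of_sq E.nb_sq

theorem h_a (β : Fˣ) (x : F) : E.hh 1 β * E.xa x * (E.hh 1 β)⁻¹ = E.xa ((β : F)⁻¹ * x) := by
  rw [E.hh_a, Units.val_one, one_mul]

theorem h_c (β : Fˣ) (x : F) : E.hh 1 β * E.xc x * (E.hh 1 β)⁻¹ = E.xc (B.s β * x) := by
  rw [E.hh_c, Units.val_one, one_mul]

theorem h_z (β : Fˣ) (x : B.K) : E.hh 1 β * E.xz x * (E.hh 1 β)⁻¹ = E.xz x := by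
  rw [E.hh_z, Units.val_one, B.nm_one, one_mul]

theorem h_1 (β : Fˣ) (q : Tp B) : E.hh 1 β * E.p1 q * (E.hh 1 β)⁻¹ =
    E.p1 (Tp.sm (B.s β * (β : F)⁻¹) q) := by
  rw [E.hh_1, Units.val_one, map_one, inv_one, mul_one, mul_one, one_mul]

theorem h_2 (β : Fˣ) (q : Tp B) : E.hh 1 β * E.p2 q * (E.hh 1 β)⁻¹ =
    E.p2 (Tp.sm (B.s β * B.s β * (β : F)⁻¹) q) := by
  rw [E.hh_2, Units.val_one, map_one, inv_one, mul_one, mul_one]

theorem q1_mem (q : Tp B) (x s : F) : E.q1 q x s ∈ E.Q1 := ⟨q, x, s, rfl⟩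

theorem xa_eq (s : F) : E.xa s = E.q1 1 0 s := by
  unfold Env.q1; rw [E.p1_one, E.toWEnv.xc_zero]; simp
theorem xc_eq (x : F) : E.xc x = E.q1 1 x 0 := by
  unfold Env.q1; rw [E.p1_one, E.toWEnv.xa_zero]; simp
theorem p1_eq (q : Tp B) : E.p1 q = E.q1 q 0 0 := by
  unfold Env.q1; rw [E.toWEnv.xc_zero, E.toWEnv.xa_zero]; simp
theorem xz_eq (k : B.K) : E.xz k = E.q1 (Tp.ofK k) 0 0 := by rw [← p1_eq, E.p1_K]
/-! ### `Q₁` -/

/-- `Q₁` acts on `p2` -/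
theorem q1_p2 (q : Tp B) (x s : F) (r : Tp B) : E.q1 q x s * E.p2 r * (E.q1 q x s)⁻¹ =
    E.p1 (q * Tp.sm (B.s s) r * q⁻¹) * E.xc (s * B.s r.c + r.w * B.s q.w) * E.p2 r := by
  unfold Env.q1
  have e1 := E.a_2 s r
  have e2 := E.one_two q r
  rw [E.p1_mul, E.p1_mul, ← E.p1_inv, E.xc_add]
  calc E.p1 q * E.xc x * E.xa s * E.p2 r * (E.p1 q * E.xc x * E.xa s)⁻¹
      = E.p1 q * E.xc x * (E.xa s * E.p2 r * (E.xa s)⁻¹) * (E.xc x)⁻¹ * (E.p1 q)⁻¹ := by group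
    _ = E.p1 q * (E.xc x * E.p1 (Tp.sm (B.s s) r)) * E.xc (s * B.s r.c) * (E.p2 r * (E.xc x)⁻¹) *
          (E.p1 q)⁻¹ := by rw [e1]; group
    _ = E.p1 q * E.p1 (Tp.sm (B.s s) r) * (E.xc x * E.xc (s * B.s r.c) * (E.xc x)⁻¹) * E.p2 r *
          (E.p1 q)⁻¹ := by rw [E.c_1, ← comm_inv (E.c_2 x r)]; group
    _ = E.p1 q * E.p1 (Tp.sm (B.s s) r) * E.xc (s * B.s r.c) * E.p2 r * (E.p1 q)⁻¹ := by
        rw [conj_of_comm]
        rw [← E.xc_add, ← E.xc_add, add_comm]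
    _ = E.p1 q * E.p1 (Tp.sm (B.s s) r) * (E.xc (s * B.s r.c) * (E.p1 q)⁻¹) *
          (E.p1 q * E.p2 r * (E.p1 q)⁻¹) := by group
    _ = _ := by
        rw [e2, E.p1_inv, E.c_1]
        group

theorem nb_Q1 {k : G} (hk : k ∈ E.Q1) : E.nb * k * E.nb⁻¹ ∈ E.Q1 := by
  obtain ⟨q, x, s, rfl⟩ := hk
  rw [E.q1_conj, E.nb_1, E.nb_c, E.nb_a]
  exact E.Q1.mul_mem (E.Q1.mul_mem (E.p1_mem1 _) (E.xa_mem1 _)) (E.xc_mem1 _)

theorem T_Q1 {k : G} (hk : k ∈ E.T) {g : G} (hg : g ∈ E.Q1) : k * g * k⁻¹ ∈ E.Q1 := by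
  obtain ⟨q, x, s, rfl⟩ := hg
  obtain ⟨μ, ν, h1, h2, -, -⟩ := E.T_act k hk
  obtain ⟨ω, ω', h3, -⟩ := E.T_act' k hk
  rw [E.q1_conj, h3, h2, h1]
  exact E.Q1.mul_mem (E.Q1.mul_mem (E.p1_mem1 _) (E.xc_mem1 _)) (E.xa_mem1 _)

/-- `p2` normalises `Q₁`. -/
theorem p2_Q1 (r : Tp B) {g : G} (hg : g ∈ E.Q1) : E.p2 r * g * (E.p2 r)⁻¹ ∈ E.Q1 := by
  obtain ⟨q, x, s, rfl⟩ := hg
  have h1 := q1_p2 (E := E) q x s r
  have h2 : E.p2 r * E.q1 q x s * (E.p2 r)⁻¹ =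
      (E.p1 (q * Tp.sm (B.s s) r * q⁻¹) * E.xc (s * B.s r.c + r.w * B.s q.w))⁻¹ * E.q1 q x s := by
    have h3 : E.q1 q x s * E.p2 r = E.p1 (q * Tp.sm (B.s s) r * q⁻¹) *
        E.xc (s * B.s r.c + r.w * B.s q.w) * E.p2 r * E.q1 q x s := by rw [← h1]; group
    calc E.p2 r * E.q1 q x s * (E.p2 r)⁻¹
        = (E.p1 (q * Tp.sm (B.s s) r * q⁻¹) * E.xc (s * B.s r.c + r.w * B.s q.w))⁻¹ *
          (E.p1 (q * Tp.sm (B.s s) r * q⁻¹) * E.xc (s * B.s r.c + r.w * B.s q.w) * E.p2 r *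
            E.q1 q x s) * (E.p2 r)⁻¹ := by group
      _ = _ := by rw [← h3]; group
  rw [h2]
  exact E.Q1.mul_mem (E.Q1.inv_mem (E.Q1.mul_mem (E.p1_mem1 _) (E.xc_mem1 _))) (q1_mem q x s)

theorem mem_U {g : G} : g ∈ UU E.toWEnv ↔ ∃ g1 ∈ E.Q1, ∃ r, g = g1 * E.p2 r := by
  constructor
  · rintro ⟨k, hk, s, rfl⟩
    obtain ⟨q, x, r, rfl⟩ := (E.mem_Q k).1 hk
    refine ⟨E.p1 q * E.xc x * (E.p2 r * E.xa s * (E.p2 r)⁻¹),
      mul_mem (mul_mem (E.p1_mem1 q) (E.xc_mem1 x)) (p2_Q1 r (E.xa_mem1 s)), r, by group⟩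
  · rintro ⟨g1, ⟨q, x, s, rfl⟩, r, rfl⟩
    exact mul_mem (mul_mem (mul_mem (Q_le E.toWEnv (E.p1_memQ q)) (Q_le E.toWEnv (E.c_mem x)))
      (a_mem E.toWEnv s)) (Q_le E.toWEnv (E.p2_memQ r))

theorem Q1_le : E.Q1 ≤ UU E.toWEnv := fun g hg => mem_U.2 ⟨g, hg, 1, by rw [E.p2_one, mul_one]⟩

theorem U_Q1 {u : G} (hu : u ∈ UU E.toWEnv) {k : G} (hk : k ∈ E.Q1) : u * k * u⁻¹ ∈ E.Q1 := by
  obtain ⟨g1, hg1, r, rfl⟩ := mem_U.1 hu
  have e : g1 * E.p2 r * k * (g1 * E.p2 r)⁻¹ = g1 * (E.p2 r * k * (E.p2 r)⁻¹) * g1⁻¹ := by group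
  rw [e]
  exact mul_mem (mul_mem hg1 (p2_Q1 r hk)) (inv_mem hg1)

theorem Hp_faith {k : G} (hk : k ∈ H1 E) (h : ∀ s, k * E.xa s * k⁻¹ = E.xa s) : k = 1 := by
  obtain ⟨β, rfl⟩ := hk
  have h1 := h 1
  rw [h_a, mul_one, xa_eq, xa_eq] at h1
  have h2 := (E.q1_injective h1).2.2
  have h3 : (β : F) = 1 := inv_eq_one.1 h2
  have h4 : β = 1 := Units.ext h3
  rw [h4, hh_one]

theorem b_not : E.xb 1 ∉ E.Q1 := by
  rintro ⟨q, x, s, h⟩
  have h0 : E.xb 1 * E.xa 0 = (E.p1 q * E.xc x) * E.xa s := by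
    rw [E.toWEnv.xa_zero, mul_one]; exact h
  have hs := a_coord (E.b_mem 1) (mul_mem (E.p1_memQ q) (E.c_mem x)) h0
  rw [← hs, E.toWEnv.xa_zero, mul_one, mul_one] at h0
  have h1 : E.p1 q * E.xc x * E.p2 (Tp.ofK 1)⁻¹ * E.xa 0 = 1 := by
    rw [← E.p2_inv, E.p2_K, ← h0, E.toWEnv.xa_zero]; group
  obtain ⟨-, -, h2, -⟩ := E.u_inj _ _ _ _ h1
  have h3 : (Tp.ofK 1 : Tp B) = 1 := inv_eq_one.1 h2
  have h4 := congrArg Tp.c h3
  exact one_ne_zero h4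

/-! ### `U` -/

theorem conj_xc (g1 : G) (hg1 : g1 ∈ E.Q) (s y : F) (h : (g1 * E.xa s) * E.xc y = E.xc y * (g1 * E.xa s)) :
    B.tr (s * B.s y) = 0 := by
  have h1 := SeedEnv.conj_c_form (E := E.toWEnv) hg1 s y
  rw [conj_of_comm h] at h1
  have h2 : E.xz (B.tr (s * B.s y)) = E.xz 0 := by rw [E.toWEnv.xz_zero]; exact right_eq_mul.1 h1
  exact SeedEnv.xz_inj h2

theorem cent_U {g : G} (hg : g ∈ UU E.toWEnv) (h : ∀ x ∈ E.Q1, g * x = x * g) : ∃ x, g = E.xz x := by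
  obtain ⟨k, hk, s, rfl⟩ := hg
  have hs : s = 0 := SeedEnv.tr_nondeg (B := B) fun y => conj_xc k hk s y (h _ (E.xc_mem1 y))
  subst hs
  rw [E.toWEnv.xa_zero, mul_one] at h ⊢
  obtain ⟨q, x, r, rfl⟩ := (E.mem_Q k).1 hk
  -- commute with `xa 1`
  have h1 := h _ (E.xa_mem1 1)
  have h2 : E.q1 1 0 1 * E.p2 r * (E.q1 1 0 1)⁻¹ = E.p1 (1 * Tp.sm (B.s 1) r * 1⁻¹) *
    E.xc (1 * B.s r.c + r.w * B.s (1 : Tp B).w) * E.p2 r := q1_p2 _ _ _ _
  rw [← xa_eq] at h2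
  have h3 := E.a_c 1 x
  have h4 : E.xa 1 * (E.p1 q * E.xc x * E.p2 r) * (E.xa 1)⁻¹ =
      E.p1 q * (E.xz (B.tr (1 * B.s x)) * E.xc x) * (E.p1 (1 * Tp.sm (B.s 1) r * 1⁻¹) *
        E.xc (1 * B.s r.c + r.w * B.s (1 : Tp B).w) * E.p2 r) := by
    rw [cm, cm, conj_of_comm (E.a_1 1 q), h3, h2]
  rw [conj_of_comm h1.symm, ← E.p1_K] at h4
  have h5 : E.q1 (q * Tp.ofK (B.tr (1 * B.s x)) * Tp.sm (B.s 1) r) (x + B.s r.c) 0 = E.q1 q x 0 := by
    have e1 : E.p1 q * E.xc x * E.p2 r = E.p1 q * (E.p1 (Tp.ofK (B.tr (1 * B.s x))) * E.xc x) *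
        (E.p1 (Tp.sm (B.s 1) r) * E.xc (B.s r.c)) * E.p2 r := by
      rw [h4]; simp only [mul_assoc, _root_.one_mul, _root_.map_one, _root_.inv_one, _root_.mul_one, _root_.Cfsg.Agent.StdRank2.UFive.Tp.one_w, _root_.map_zero, _root_.MulZeroClass.mul_zero, _root_.add_zero]
    have e2 := mul_right_cancel e1
    unfold Env.q1
    rw [E.toWEnv.xa_zero, mul_one, mul_one, e2, E.p1_mul, E.p1_mul, E.xc_add]
    have e3 := E.c_1 x (Tp.sm (B.s 1) r)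
    calc E.p1 q * E.p1 (Tp.ofK (B.tr (1 * B.s x))) * E.p1 (Tp.sm (B.s 1) r) * (E.xc x * E.xc (B.s r.c))
        = E.p1 q * E.p1 (Tp.ofK (B.tr (1 * B.s x))) * (E.p1 (Tp.sm (B.s 1) r) * E.xc x) * E.xc (B.s r.c) := by
          group
      _ = _ := by rw [← e3]; group
  obtain ⟨h6, h7, -⟩ := E.q1_injective h5
  have hrc : B.s r.c = 0 := by linear_combination h7
  have hrc' : r.c = 0 := by
    have := congrArg B.s hrc
    rwa [B.invol, map_zero] at this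
  have hrw : r.w = 0 := by
    have h8 := r.ok
    rw [hrc', map_zero, add_zero] at h8
    rcases mul_eq_zero.1 h8.symm with h9 | h9
    · exact h9
    · have := congrArg B.s h9
      rwa [B.invol, map_zero] at this
  have hr : r = 1 := by ext <;> assumption
  rw [hr, E.p2_one, mul_one] at h ⊢
  exact E.center_Q1 (mul_mem (E.p1_mem1 q) (E.xc_mem1 x)) h

theorem D_char {g : G} (hg : g ∈ E.Q1) (h : ∀ u ∈ UU E.toWEnv, ∃ x, g * u * g⁻¹ = E.xz x * u) :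
    ∃ x y, g = E.xz x * E.xc y := by
  obtain ⟨q, x, s, rfl⟩ := hg
  have key : ∀ r : Tp B, s * B.s r.c + r.w * B.s q.w = 0 ∧ B.s s * r.w = 0 := by
    intro r
    obtain ⟨k, hk⟩ := h _ (Q_le E.toWEnv (E.p2_memQ r))
    rw [q1_p2] at hk
    have h1 := mul_right_cancel hk
    rw [xz_eq] at h1
    have h2 : E.q1 (q * Tp.sm (B.s s) r * q⁻¹) (s * B.s r.c + r.w * B.s q.w) 0 = E.q1 (Tp.ofK k) 0 0 := by
      rw [← h1]; unfold Env.q1; rw [E.toWEnv.xa_zero, mul_one]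
    obtain ⟨h3, h4, -⟩ := E.q1_injective h2
    refine ⟨h4, ?_⟩
    have h5 := congrArg Tp.w h3
    simp only [Tp.mul_w, Tp.sm_w, Tp.inv_w, Tp.ofK_w] at h5
    have h6 := CharTwo.add_self_eq_zero q.w
    linear_combination h5 - h6
  obtain ⟨c, hc⟩ := B.tr_surj (B.nm 1)
  let r : Tp B := ⟨1, c, congrArg Subtype.val hc⟩
  have hs : s = 0 := by
    have h1 := (key r).2
    change B.s s * 1 = 0 at h1
    rw [mul_one] at h1
    have := congrArg B.s h1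
    rwa [B.invol, map_zero] at this
  have hq : q.w = 0 := by
    have h1 := (key r).1
    rw [hs, zero_mul, zero_add] at h1
    change 1 * B.s q.w = 0 at h1
    rw [one_mul] at h1
    have := congrArg B.s h1
    rwa [B.invol, map_zero] at this
  obtain ⟨k, hk⟩ := Env.exists_ofK (u := q) (v := 1) (by rw [hq]; rfl)
  refine ⟨k, x, ?_⟩
  unfold Env.q1
  rw [hs, E.toWEnv.xa_zero, mul_one, hk, mul_one, E.p1_K]

theorem U_two : IsPGroup 2 (UU E.toWEnv) := by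
  rintro ⟨g, hg⟩
  refine ⟨3, Subtype.ext ?_⟩
  change g ^ 2 ^ 3 = 1
  obtain ⟨q, hq, s, rfl⟩ := hg
  have h1 : q * E.xa s * (q * E.xa s) = q * (E.xa s * q * (E.xa s)⁻¹) := by
    calc q * E.xa s * (q * E.xa s) = q * (E.xa s * q * (E.xa s)⁻¹) * (E.xa s * E.xa s) := by group
      _ = _ := by rw [E.xa_sq, mul_one]
  have h2 : q * (E.xa s * q * (E.xa s)⁻¹) ∈ E.Q := mul_mem hq (E.xa_Q s q hq)
  obtain ⟨v, hv⟩ := QGrown.Q_sq (E := E) h2
  have e : ∀ g : G, g ^ 2 ^ 3 = ((g * g) * (g * g)) * ((g * g) * (g * g)) := fun g => by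
    rw [show 2 ^ 3 = 2 * 2 * 2 from rfl, pow_mul, pow_mul, pow_two, pow_two, pow_two]
  rw [e, h1, hv, E.w_sq]

theorem exists_Tp (w : F) : ∃ q : Tp B, q.w = w := by
  obtain ⟨c, hc⟩ := B.tr_surj (B.nm w)
  exact ⟨⟨w, c, congrArg Subtype.val hc⟩, rfl⟩

theorem exists_l (E : Cfsg.Agent.StdRank2.UFive.Env B G) : ∃ l : Fˣ, B.s (l : F) = l ∧ (l : F) + 1 ≠ 0 ∧
    (l : F)⁻¹ + 1 ≠ 0 ∧ B.nm (l : F) + 1 ≠ 0 := by
  have h2 : ∀ a : F, a + a = 0 := fun a => CharTwo.add_self_eq_zero a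
  have hl0 : ((E.lam : B.K) : F) ≠ 0 := fun h => E.lam.ne_zero (Subtype.ext h)
  have hl1 : ((E.lam : B.K) : F) ≠ 1 := fun h => E.lam_ne (Subtype.ext h)
  refine ⟨Units.mk0 _ hl0, ?_, ?_, ?_, ?_⟩
  · rw [Units.val_mk0, B.s_K]
  · rw [Units.val_mk0]
    intro h
    exact hl1 (by linear_combination h - h2 1)
  · rw [Units.val_mk0]
    intro h
    have h3 : ((E.lam : B.K) : F)⁻¹ = 1 := by linear_combination h - h2 1
    exact hl1 (inv_eq_one.1 h3)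
  · rw [Units.val_mk0, B.nm_K]
    intro h
    have h4 : (E.lam : B.K) * E.lam = 1 := by linear_combination h - B.K_add_self 1
    have h5 : ((E.lam : B.K) + 1) * ((E.lam : B.K) + 1) = 0 := by
      linear_combination h4 + B.K_add_self (E.lam : B.K) + B.K_add_self 1
    rcases mul_self_eq_zero.1 h5 with h6
    exact E.lam_ne (by linear_combination h6 - B.K_add_self 1)

/-- `U` is generated by the commutators with the torus `h(1, β)`. -/
theorem U_gen : UU E.toWEnv ≤ _root_.Subgroup.closure {g | ∃ k ∈ H1 E, ∃ u ∈ UU E.toWEnv, g = k * u * k⁻¹ * u⁻¹} := by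
  set C := _root_.Subgroup.closure {g | ∃ k ∈ H1 E, ∃ u ∈ UU E.toWEnv, g = k * u * k⁻¹ * u⁻¹} with hC
  obtain ⟨l, hl, n1, n2, n3⟩ := exists_l E
  have ca : ∀ s, E.xa s ∈ C := by
    intro s
    refine subset_closure ⟨_, ⟨l, rfl⟩, E.xa (((l : F)⁻¹ + 1)⁻¹ * s), a_mem E.toWEnv _, ?_⟩
    rw [h_a, WEnv.inv_of_sq (E.xa_sq _), ← E.xa_add]
    congr 1
    have e : ((l : F)⁻¹ + 1) * ((l : F)⁻¹ + 1)⁻¹ = 1 := mul_inv_cancel₀ n2
    linear_combination -s * e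
  have cc : ∀ s, E.xc s ∈ C := by
    intro s
    refine subset_closure ⟨_, ⟨l, rfl⟩, E.xc (((l : F) + 1)⁻¹ * s), Q_le E.toWEnv (E.c_mem _), ?_⟩
    rw [h_c, hl, WEnv.inv_of_sq (E.xc_sq _), ← E.xc_add]
    congr 1
    have e : ((l : F) + 1) * ((l : F) + 1)⁻¹ = 1 := mul_inv_cancel₀ n1
    linear_combination -s * e
  have cb : ∀ s, E.xb s ∈ C := by
    intro s
    refine subset_closure ⟨_, ⟨l, rfl⟩, E.xb ((B.nm (l : F) + 1)⁻¹ * s), Q_le E.toWEnv (E.b_mem _), ?_⟩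
    rw [E.hh_b, WEnv.inv_of_sq (E.xb_sq _), ← E.xb_add]
    congr 1
    have e : (B.nm (l : F) + 1) * (B.nm (l : F) + 1)⁻¹ = 1 := mul_inv_cancel₀ n3
    linear_combination -s * e
  have cz : ∀ x, E.xz x ∈ C := by
    intro x
    obtain ⟨s, hs⟩ := B.tr_surj x
    have h1 := E.a_c s 1
    rw [map_one, mul_one, hs] at h1
    have h2 : E.xz x = E.xa s * E.xc 1 * (E.xa s)⁻¹ * (E.xc 1)⁻¹ := by rw [h1]; group
    rw [h2]
    exact mul_mem (mul_mem (mul_mem (ca s) (cc 1)) (inv_mem (ca s))) (inv_mem (cc 1))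
  have c2 : ∀ q, E.p2 q ∈ C := by
    intro q
    obtain ⟨q', hq'⟩ := exists_Tp (B := B) (((l : F) + 1)⁻¹ * q.w)
    have h1 : E.hh 1 l * E.p2 q' * (E.hh 1 l)⁻¹ * (E.p2 q')⁻¹ ∈ C :=
      subset_closure ⟨_, ⟨l, rfl⟩, _, Q_le E.toWEnv (E.p2_memQ q'), rfl⟩
    rw [h_2, E.p2_inv, ← E.p2_mul] at h1
    obtain ⟨k, hk⟩ := Env.exists_ofK (u := q)
      (v := Tp.sm (B.s (l : F) * B.s (l : F) * (l : F)⁻¹) q' * q'⁻¹) (by
        simp only [Tp.mul_w, Tp.sm_w, Tp.inv_w]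
        rw [hq', hl]
        have e : ((l : F) + 1) * ((l : F) + 1)⁻¹ = 1 := mul_inv_cancel₀ n1
        have e2 : (l : F) * (l : F)⁻¹ = 1 := mul_inv_cancel₀ l.ne_zero
        linear_combination -q.w * e - (l : F) * (((l : F) + 1)⁻¹ * q.w) * e2)
    rw [hk, E.p2_mul, E.p2_K]
    exact mul_mem (cb k) h1
  have c1 : ∀ q, E.p1 q ∈ C := by
    intro q
    obtain ⟨x, hx0, hx1, hxs⟩ := SeedEnd.exists_moving B
    set ω : F := B.s x * x⁻¹ with hω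
    have hω1 : ω + 1 ≠ 0 := by
      intro h
      have h2 : ω = 1 := Tp.eq_of h
      apply hxs
      rw [hω] at h2
      field_simp at h2
      exact h2
    obtain ⟨q', hq'⟩ := exists_Tp (B := B) ((ω + 1)⁻¹ * q.w)
    have h1 : E.hh 1 (Units.mk0 x hx0) * E.p1 q' * (E.hh 1 (Units.mk0 x hx0))⁻¹ * (E.p1 q')⁻¹ ∈ C :=
      subset_closure ⟨_, ⟨_, rfl⟩, _, Q_le E.toWEnv (E.p1_memQ q'), rfl⟩
    rw [h_1, E.p1_inv, ← E.p1_mul, Units.val_mk0] at h1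
    obtain ⟨k, hk⟩ := Env.exists_ofK (u := q) (v := Tp.sm (B.s x * x⁻¹) q' * q'⁻¹) (by
        simp only [Tp.mul_w, Tp.sm_w, Tp.inv_w]
        rw [hq', ← hω]
        have e : (ω + 1) * (ω + 1)⁻¹ = 1 := mul_inv_cancel₀ hω1
        linear_combination -q.w * e)
    rw [hk, E.p1_mul, E.p1_K]
    exact mul_mem (cz k) h1
  rintro _ ⟨k, hk, s, rfl⟩
  obtain ⟨q, x, r, rfl⟩ := (E.mem_Q k).1 hk
  exact mul_mem (mul_mem (mul_mem (c1 q) (cc x)) (c2 r)) (ca s)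

/-! ### Coordinates -/

variable (E) in
open Classical in
/-- the coordinates of an element of `Q₁`. -/
noncomputable def co1 (g : G) : Tp B × F × F :=
  if h : ∃ p : Tp B × F × F, g = E.q1 p.1 p.2.1 p.2.2 then h.choose else (1, 0, 0)

theorem co1_q1 (q : Tp B) (x s : F) : co1 E (E.q1 q x s) = (q, x, s) := by
  have h : ∃ p : Tp B × F × F, E.q1 q x s = E.q1 p.1 p.2.1 p.2.2 := ⟨(q, x, s), rfl⟩
  unfold co1
  rw [dif_pos h]
  obtain ⟨h1, h2, h3⟩ := E.q1_injective h.choose_spec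
  exact Prod.ext h1.symm (Prod.ext h2.symm h3.symm)

variable (E) in
/-- a set theoretic section of `p1 / Z`. -/
noncomputable def xv (w : F) : G :=
  E.p1 ⟨w, (B.tr_surj 1).choose * (w * B.s w), by
    have h : (B.tr_surj 1).choose + B.s (B.tr_surj 1).choose = 1 :=
      congrArg Subtype.val (B.tr_surj 1).choose_spec
    rw [map_mul, map_mul, B.invol]
    linear_combination (w * B.s w) * h⟩

theorem xv_mem (w : F) : xv E w ∈ E.Q1 := E.p1_mem1 _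

theorem h_v (β : Fˣ) (w : F) : E.hh 1 β * xv E w * (E.hh 1 β)⁻¹ = xv E (B.s β * (β : F)⁻¹ * w) := by
  unfold xv
  rw [h_1]
  congr 1
  refine Tp.ext rfl ?_
  simp only [Tp.sm_c, map_mul, map_inv₀, B.invol]
  ring

/-- the extra relation. -/
theorem braid_rel : E.nb * E.xb 1 * E.nb = E.xb 1 * E.nb * E.xb 1 := by
  have hb := E.nb_b
  have h1 : E.nb⁻¹ = E.nb := nb_inv
  have h2 : (E.xb 1)⁻¹ = E.xb 1 := WEnv.inv_of_sq (E.xb_sq 1)
  have h3 : E.nb * E.xb 1 * E.nb * (E.xb 1 * E.nb * E.xb 1) = 1 := by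
    rw [← hb]; group
  rw [eq_inv_of_mul_eq_one_left h3, mul_inv_rev, mul_inv_rev, h1, h2, mul_assoc]

theorem nb_gen : E.nb ∈ _root_.Subgroup.closure ((UU E.toWEnv : Set G) ∪ {g | ∃ u ∈ UU E.toWEnv, g = E.nb * u * E.nb⁻¹}) := by
  have h1 : E.nb = E.xb 1 * (E.nb * E.xb 1 * E.nb⁻¹) * E.xb 1 := by
    have h2 := E.xb_sq 1
    rw [nb_inv, braid_rel]
    calc E.nb = (E.xb 1 * E.xb 1) * E.nb * (E.xb 1 * E.xb 1) := by rw [h2]; group
      _ = _ := by group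
  have h2 : E.xb 1 ∈ _root_.Subgroup.closure ((UU E.toWEnv : Set G) ∪ {g | ∃ u ∈ UU E.toWEnv, g = E.nb * u * E.nb⁻¹}) :=
    _root_.Subgroup.subset_closure (Or.inl (Q_le E.toWEnv (E.b_mem 1)))
  have h3 : E.nb * E.xb 1 * E.nb⁻¹ ∈
      _root_.Subgroup.closure ((UU E.toWEnv : Set G) ∪ {g | ∃ u ∈ UU E.toWEnv, g = E.nb * u * E.nb⁻¹}) :=
    _root_.Subgroup.subset_closure (Or.inr ⟨_, Q_le E.toWEnv (E.b_mem 1), rfl⟩)
  have h4 := mul_mem (mul_mem h2 h3) h2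
  rw [← h1] at h4
  exact h4

/-- **The primitive data for `U₅(q)`.** -/
noncomputable def pre (hr : Rank1 E) : Pre E.toWEnv F where
  Q1 := E.Q1
  Hp := H1 E
  nb := E.nb
  Xβ := {r | ∃ q, r = E.p2 q}
  chi := fun μ => μ / B.s μ
  xv := xv E
  pa := fun g => (co1 E g).2.2
  pv := fun g => (co1 E g).1.w
  pc := fun g => (co1 E g).2.1
  chi_eq := fun μ _ => Or.inr rfl
  V_gen := ⟨1, fun w => ⟨w, by simp⟩⟩
  nb_sq := E.nb_sq
  t_nb := E.t_nb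
  nb_z := fun x => by rw [← E.p1_K, E.nb_1]
  nb_c := E.nb_c
  nb_T := fun g => (E.nb_T g).1
  nb_Q1 := fun _ hg => nb_Q1 hg
  nb_gen := nb_gen
  Hp_T := by rintro _ ⟨β, rfl⟩; exact E.hh_mem 1 β
  Hp_z := by rintro _ ⟨β, rfl⟩ x; exact h_z β x
  nb_Hp := by
    rintro _ ⟨β, rfl⟩
    have hs : B.s (β : F) ≠ 0 := (map_ne_zero_iff B.s B.s.injective).2 β.ne_zero
    exact ⟨(Units.mk0 _ hs)⁻¹, E.nb_hh 1 β _ (by simp [hs])⟩
  Hp_act := by
    rintro _ ⟨β, rfl⟩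
    refine ⟨(β : F)⁻¹, inv_ne_zero β.ne_zero, h_a β, fun y => ?_, fun v => ⟨0, ?_⟩⟩
    · rw [h_c, map_inv₀, inv_inv]
    · rw [h_v, E.toWEnv.xz_zero, one_mul]
      congr 1
      rw [smul_eq_mul, map_inv₀, div_inv_eq_mul, mul_comm (B.s (β : F))]
  Hp_onto := by
    intro μ hμ
    refine ⟨E.hh 1 (Units.mk0 μ hμ)⁻¹, ⟨_, rfl⟩, fun x => ?_, fun y => ?_, fun v => ⟨0, ?_⟩⟩
    · rw [h_a]; congr 2; simp
    · rw [h_c]; congr 2; simp
    · rw [h_v, E.toWEnv.xz_zero, one_mul]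
      congr 1
      rw [smul_eq_mul, Units.val_inv_eq_inv_val, Units.val_mk0, map_inv₀, inv_inv]
      ring
  Hp_faith := fun _ hk h => Hp_faith hk h
  Q1_le := Q1_le
  U_Q1 := fun _ hu _ hg => U_Q1 hu hg
  Hp_Q1 := by rintro _ ⟨β, rfl⟩ g hg; exact T_Q1 (E.hh_mem 1 β) hg
  b_not := b_not
  a_mem := E.xa_mem1
  c_mem := E.xc_mem1
  v_mem := xv_mem
  v_Q := fun _ => E.p1_memQ _
  U_split := by
    intro g hg
    obtain ⟨g1, hg1, r, h⟩ := mem_U.1 hg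
    exact ⟨g1, hg1, _, ⟨r, rfl⟩, h⟩
  Xβ_U := by
    rintro _ ⟨r, rfl⟩
    exact Q_le E.toWEnv (E.p2_memQ r)
  rank1 := by
    rintro _ ⟨r, rfl⟩
    by_cases h : r = 1
    · left; rw [h, E.p2_one]
    · right
      obtain ⟨u, hu, β, u', hu', e⟩ := hr r h
      exact ⟨u, hu, _, ⟨β, rfl⟩, u', hu', e⟩
  U_two := U_two
  U_gen := U_gen
  D_char := fun _ hg h => D_char hg h
  cent_U := fun _ hg h => cent_U hg h
  cent_t := by
    intro c hc h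
    obtain ⟨q, x, s, h1⟩ := E.cent_Q1 c hc (fun x => h _ (E.xz_mem1 x))
      (fun x => ⟨0, by rw [E.toWEnv.xz_zero, one_mul, h _ (E.xa_mem1 x), mul_inv_cancel_right]⟩)
      (fun x => ⟨0, by rw [E.toWEnv.xz_zero, one_mul, h _ (E.xc_mem1 x), mul_inv_cancel_right]⟩)
      (fun x => ⟨0, by rw [E.toWEnv.xz_zero, one_mul, h _ (E.p1_mem1 x), mul_inv_cancel_right]⟩)
    exact ⟨_, q1_mem q x s, h1⟩
  pa_mul := by
    rintro _ ⟨q, x, s, rfl⟩ _ ⟨q', x', s', rfl⟩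
    rw [E.q1_mul, co1_q1, co1_q1, co1_q1]
  pv_mul := by
    rintro _ ⟨q, x, s, rfl⟩ _ ⟨q', x', s', rfl⟩
    rw [E.q1_mul, co1_q1, co1_q1, co1_q1]
    simp
  pc_mul := by
    rintro _ ⟨q, x, s, rfl⟩ _ ⟨q', x', s', rfl⟩
    rw [E.q1_mul, co1_q1, co1_q1, co1_q1]
  ker := by
    rintro _ ⟨q, x, s, rfl⟩ h1 h2 h3
    rw [co1_q1] at h1 h2 h3
    simp only at h1 h2 h3
    obtain ⟨k, hk⟩ := Env.exists_ofK (u := q) (v := 1) (by rw [h2]; rfl)
    refine ⟨k, ?_⟩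
    unfold Env.q1
    rw [h1, h3, E.toWEnv.xa_zero, E.toWEnv.xc_zero, mul_one, mul_one, hk, mul_one, E.p1_K]
  pa_z := fun x => by rw [xz_eq, co1_q1]
  pv_z := fun x => by rw [xz_eq, co1_q1]; rfl
  pc_z := fun x => by rw [xz_eq, co1_q1]
  pa_a := fun x => by rw [xa_eq, co1_q1]
  pv_a := fun x => by rw [xa_eq, co1_q1]; rfl
  pc_a := fun x => by rw [xa_eq, co1_q1]
  pa_v := fun x => by unfold xv; rw [p1_eq, co1_q1]
  pv_v := fun x => by unfold xv; rw [p1_eq, co1_q1]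
  pc_v := fun x => by unfold xv; rw [p1_eq, co1_q1]
  pa_c := fun x => by rw [xc_eq, co1_q1]
  pv_c := fun x => by rw [xc_eq, co1_q1]; rfl
  pc_c := fun x => by rw [xc_eq, co1_q1]

variable (E) in
/-- `P = ⟨U, U^{nb}, h(1, β)⟩`. -/
def P : Subgroup G :=
  _root_.Subgroup.closure ((UU E.toWEnv : Set G) ∪ {g | ∃ u ∈ UU E.toWEnv, g = E.nb * u * E.nb⁻¹} ∪ H1 E)

end Cfsg.Agent.StdRank2.UFive.SeedU5
end

-- part: StdRank2/UFive/Class
section
/-!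
# The grown group `S₀ = A N₂ = A P C R` of type `U₅(q)` and the class of `t`
-/

set_option autoImplicit false
set_option linter.unusedSectionVars false

namespace Cfsg.Agent.StdRank2.UFive

open Subgroup Cfsg.Agent.StdRank2.UFour
open Cfsg.Agent.StdRank2.UFour.SeedPre

variable {F : Type*} [Field F] [CharP F 2] {B : Bar F} {G : Type*} [Group G]

namespace QGrown

open NOne RootLem

variable {E : Env B G} (S : QGrown E)

/-- `N₂` as a subgroup. -/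
def N2 : Subgroup G where
  carrier := {n | S.InN2 n}
  mul_mem' := InN2.mul
  one_mem' := InN2.one
  inv_mem' := InN2.inv

theorem Wt_le_N2 : S.Wt ≤ S.N2 := by
  intro ω hω
  refine ⟨fun η hη => S.Wt_Wt hω hη, fun g hg => ⟨1, S.Wt.one_mem, ?_⟩, ?_⟩
  · rw [one_mul, conj_of_comm (S.Wt_Q hω hg)]
  · obtain ⟨v, hv⟩ := S.Wt_t hω
    exact ⟨_, S.w_mem_Wt v, 1, E.Q.one_mem, by rw [hv, mul_one]⟩

theorem Q_le_N2 : E.Q ≤ S.N2 := by
  intro g hg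
  refine ⟨fun η hη => (S.Wt_Q hη hg).symm, fun k hk => ?_, 1, S.Wt.one_mem, 1, E.Q.one_mem, ?_⟩
  · obtain ⟨v, hv⟩ := Q_comm (E := E) hg hk
    exact ⟨_, S.w_mem_Wt v, hv⟩
  · rw [one_mul, one_mul, conj_of_comm (E.t_Q g hg).symm]

theorem A_conj_N2 [Finite G] {a n : G} (ha : a ∈ S.A) (hn : n ∈ S.N2) : a * n * a⁻¹ ∈ S.N2 := by
  obtain ⟨p, hp, c, hc, g, hg, rfl⟩ := S.N2_le hn
  have e : a * (p * c * g) * a⁻¹ = (a * (p * c) * a⁻¹) * (a * g * a⁻¹) := by group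
  rw [e]
  exact mul_mem (S.PC_N2 (S.A_PC ha (mul_mem (S.P_PC hp) (S.C_PC hc)))) (S.A_R_N2 ha hg)

theorem t_N2 {n : G} (hn : n ∈ S.N2) : E.t * n * E.t⁻¹ ∈ S.N2 := by
  obtain ⟨ω, hω, g, hg, h1⟩ := hn.t
  rw [t_conj h1]
  exact mul_mem (inv_mem (mul_mem (S.Wt_le_N2 hω) (S.Q_le_N2 hg))) hn

/-- `A ∩ N₂ = 1`. -/
theorem A_inf_N2 {a : G} (ha : a ∈ S.A) (hn : a ∈ S.N2) : a = 1 := by
  -- elements of `X_a`
  have key : ∀ s, E.xa s ∈ S.N2 → s = 0 := by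
    intro s hs
    apply Seeding.SeedEnv.tr_nondeg (B := B)
    intro y
    have h1 := E.a_c s y
    rw [conj_of_comm (hs.w _ (S.C_le_Wt (S.xc_mem y)))] at h1
    have h2 : E.xz (B.tr (s * B.s y)) = E.xz 0 := by rw [E.toWEnv.xz_zero]; exact right_eq_mul.1 h1
    exact Seeding.SeedEnv.xz_inj h2
  obtain ⟨s, hs⟩ := S.rootA.conj_t a ha
  have h1 : E.xa s ∈ S.N2 := by
    have h2 : E.xa s = a * (E.t * a⁻¹ * E.t⁻¹) := by
      calc E.xa s = (E.xa s * E.t) * E.t⁻¹ := by group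
        _ = _ := by rw [← hs]; group
    rw [h2]
    exact mul_mem hn (S.t_N2 (inv_mem hn))
  rw [key s h1, E.toWEnv.xa_zero, one_mul] at hs
  obtain ⟨s', rfl⟩ := S.rootA.cent a ha (comm_of_conj hs)
  rw [key s' hn, E.toWEnv.xa_zero]

/-- `S₀ = A N₂`. -/
def S0 [Finite G] : Subgroup G where
  carrier := {x | ∃ a ∈ S.A, ∃ n ∈ S.N2, x = a * n}
  one_mem' := ⟨1, one_mem _, 1, one_mem _, by group⟩
  mul_mem' := by
    rintro _ _ ⟨a, ha, n, hn, rfl⟩ ⟨b, hb, m, hm, rfl⟩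
    refine ⟨a * b, mul_mem ha hb, b⁻¹ * n * b * m, mul_mem ?_ hm, by group⟩
    have := S.A_conj_N2 (inv_mem hb) hn
    rwa [inv_inv] at this
  inv_mem' := by
    rintro _ ⟨a, ha, n, hn, rfl⟩
    exact ⟨a⁻¹, inv_mem ha, a * n⁻¹ * a⁻¹, S.A_conj_N2 ha (inv_mem hn), by group⟩

variable [Finite G]

theorem mem_S0 {x : G} : x ∈ S.S0 ↔ ∃ a ∈ S.A, ∃ n ∈ S.N2, x = a * n := Iff.rfl

theorem A_le : S.A ≤ S.S0 := fun a ha => ⟨a, ha, 1, one_mem _, by group⟩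
theorem N2_le_S0 : S.N2 ≤ S.S0 := fun n hn => ⟨1, one_mem _, n, hn, by group⟩
theorem P_le : S.P ≤ S.S0 := fun _ h => S.N2_le_S0 (S.P_InN2 h)
theorem C_le : S.C ≤ S.S0 := fun _ h => S.N2_le_S0 (S.PC_N2 (S.C_PC h))
theorem R_le : S.R ≤ S.S0 := fun _ h => S.N2_le_S0 (S.R_InN2 h)
theorem Z_le_S0 : S.Z ≤ S.S0 := fun _ h => S.P_le (S.Z_le h)
theorem B_le_S0 : S.Bb ≤ S.S0 := fun _ h => S.R_le (S.B_le_R h)

/-- `S₀ = A P C R` -/
theorem S0_form {x : G} (hx : x ∈ S.S0) : ∃ a ∈ S.A, ∃ p ∈ S.P, ∃ c ∈ S.C, ∃ g ∈ S.R, x = a * p * c * g := by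
  obtain ⟨a, ha, n, hn, rfl⟩ := hx
  obtain ⟨p, hp, c, hc, g, hg, rfl⟩ := S.N2_le hn
  exact ⟨a, ha, p, hp, c, hc, g, hg, by group⟩

theorem S0_eq_sup : S.S0 = S.A ⊔ S.P ⊔ S.C ⊔ S.R := by
  apply le_antisymm
  · intro x hx
    obtain ⟨a, ha, p, hp, c, hc, g, hg, rfl⟩ := S.S0_form hx
    exact mul_mem (mul_mem (mul_mem (le_sup_left (b := S.R) (le_sup_left (b := S.C) (le_sup_left (b := S.P) ha)))
      (le_sup_left (b := S.R) (le_sup_left (b := S.C) (le_sup_right (a := S.A) hp))))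
      (le_sup_left (b := S.R) (le_sup_right (a := S.A ⊔ S.P) hc))) (le_sup_right (a := S.A ⊔ S.P ⊔ S.C) hg)
  · exact sup_le (sup_le (sup_le S.A_le S.P_le) S.C_le) S.R_le

theorem U_le : UU E.toWEnv ≤ S.S0 := by
  rintro _ ⟨q, hq, s, rfl⟩
  exact mul_mem (S.N2_le_S0 (S.Q_le_N2 hq)) (S.A_le (S.xa_mem s))

theorem t_S0 {x : G} (hx : x ∈ S.S0) : E.t * x * E.t⁻¹ ∈ S.S0 := by
  obtain ⟨a, ha, n, hn, rfl⟩ := hx
  obtain ⟨s, hs⟩ := S.rootA.conj_t a ha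
  have e : E.t * (a * n) * E.t⁻¹ = (E.t * a * E.t⁻¹) * (E.t * n * E.t⁻¹) := by group
  rw [e, t_conj hs]
  exact mul_mem (mul_mem (inv_mem (S.A_le (S.xa_mem s))) (S.A_le ha)) (S.N2_le_S0 (S.t_N2 hn))

/-- `S₀` is a 2-group. -/
theorem isPGroup_S0 : IsPGroup 2 S.S0 := by
  rintro ⟨x, hx⟩
  refine ⟨3, Subtype.ext ?_⟩
  change x ^ 2 ^ 3 = 1
  obtain ⟨a, ha, n, hn, rfl⟩ := hx
  have h1 : a * n * (a * n) = (a * n * a⁻¹) * n := by
    calc a * n * (a * n) = (a * n * a⁻¹) * (a * a) * n := by group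
      _ = _ := by rw [S.A_sq ha, mul_one]
  have h2 : S.InN2 ((a * n * a⁻¹) * n) := mul_mem (S.A_conj_N2 ha hn) hn
  have e : ∀ g : G, g ^ 2 ^ 3 = ((g * g) * (g * g)) * ((g * g) * (g * g)) := fun g => by
    rw [show 2 ^ 3 = 2 * 2 * 2 from rfl, pow_mul, pow_mul, pow_two, pow_two, pow_two]
  rw [e, h1]
  exact S.Wt_sq (sq_mem2 h2)

/-- `C_{N₂}(t) = Q`. -/
theorem N2_cent {n : G} (hn : n ∈ S.N2) (h : n * E.t = E.t * n) : n ∈ E.Q := by
  obtain ⟨ω, hω, g, hg, rfl⟩ := core2 hn.w hn.q S.Wt.one_mem (by rw [one_mul, conj_of_comm h])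
  have h1 : ω * E.t = E.t * ω := by
    have h2 := (E.t_Q g hg).symm
    calc ω * E.t = (ω * (g * E.t)) * g⁻¹ := by rw [h2]; group
      _ = (ω * g * E.t) * g⁻¹ := by group
      _ = _ := by rw [h]; group
  obtain ⟨v, rfl⟩ := S.Wt_centW hω h1
  exact mul_mem (E.w_mem_Q v) hg

/-- `C_{S₀}(t) = U`. -/
theorem S0_cent {x : G} (hx : x ∈ S.S0) (h : x * E.t = E.t * x) : x ∈ UU E.toWEnv := by
  obtain ⟨a, ha, n, hn, rfl⟩ := hx
  obtain ⟨s, hs⟩ := S.rootA.conj_t a ha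
  obtain ⟨ω, hω, g, hg, h1⟩ := hn.t
  have e1 := t_conj hs
  have e2 := t_conj h1
  have h2 : (E.xa s)⁻¹ * a * ((ω * g)⁻¹ * n) = a * n := by
    rw [← e1, ← e2]
    calc E.t * a * E.t⁻¹ * (E.t * n * E.t⁻¹) = (E.t * (a * n)) * E.t⁻¹ := by group
      _ = _ := by rw [← h]; group
  have h3 : E.xa s = a * (ω * g)⁻¹ * a⁻¹ := by
    have h4 : (E.xa s)⁻¹ * (a * (ω * g)⁻¹ * a⁻¹) = 1 := by
      calc (E.xa s)⁻¹ * (a * (ω * g)⁻¹ * a⁻¹) = ((E.xa s)⁻¹ * a * ((ω * g)⁻¹ * n)) * (a * n)⁻¹ := by group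
        _ = 1 := by rw [h2]; group
    exact (inv_mul_eq_one.1 h4)
  have h4 : E.xa s ∈ S.N2 := by
    rw [h3]
    exact S.A_conj_N2 ha (inv_mem (mul_mem (S.Wt_le_N2 hω) (S.Q_le_N2 hg)))
  have h5 := S.A_inf_N2 (S.xa_mem s) h4
  rw [h5, one_mul] at hs
  obtain ⟨s', rfl⟩ := S.rootA.cent a ha (comm_of_conj hs)
  have h6 : n * E.t = E.t * n := by
    have h7 := E.t_a s'
    calc n * E.t = (E.xa s')⁻¹ * (E.xa s' * n * E.t) := by group
      _ = (E.xa s')⁻¹ * (E.t * E.xa s') * n := by rw [h]; group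
      _ = _ := by rw [h7]; group
  exact mul_mem (a_mem E.toWEnv s') (Q_le E.toWEnv (S.N2_cent hn h6))

/-- every element of `Q` is the displacement of an element of `N₂`, modulo `Ŵ`. -/
theorem N2_onto {g : G} (hg : g ∈ E.Q) : ∃ n ∈ S.N2, ∃ η ∈ S.Wt, n * E.t * n⁻¹ = η * g * E.t := by
  obtain ⟨q, x, q', rfl⟩ := (E.mem_Q g).1 hg
  obtain ⟨p, hp, r, hr, q1, hq1, hpt⟩ := S.P_onto q.w
  obtain ⟨k, hk, b, hb, q2, hq2, hgt⟩ := S.R_onto q'.w
  obtain ⟨k1, hk1⟩ := Env.exists_ofK hq1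
  obtain ⟨k2, hk2⟩ := Env.exists_ofK hq2
  refine ⟨p * k, mul_mem (S.P_InN2 hp) (S.R_InN2 hk), ?_⟩
  obtain ⟨c1, hc1, h3⟩ := S.P_2 p hp q2
  obtain ⟨v, hv⟩ := Q_mul_comm (E := E) (E.p2_memQ q') (E.p1_memQ q)
  have e1 : E.p1 q1 = E.xz k1 * E.p1 q := by rw [hk1, E.p1_mul, E.p1_K]
  have e2 : E.p2 q2 = E.xb k2 * E.p2 q' := by rw [hk2, E.p2_mul, E.p2_K]
  have hW1 : b * c1 * E.xb k2 ∈ S.Wt :=
    S.Wt.mul_mem (S.Wt.mul_mem (S.B_le_Wt hb) (S.C_le_Wt hc1)) (S.B_le_Wt (S.xb_mem k2))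
  have hW2 : r * E.xz k1 ∈ S.Wt := S.Wt.mul_mem (S.Z_le_Wt hr) (S.Z_le_Wt (S.xz_mem k1))
  refine ⟨b * c1 * E.xb k2 * (r * E.xz k1) * E.w v * E.xc x,
    S.Wt.mul_mem (S.Wt.mul_mem (S.Wt.mul_mem hW1 hW2) (S.w_mem_Wt v)) (S.C_le_Wt (S.xc_mem x)), ?_⟩
  have e3 := S.Wt_Q hW2 (E.p2_memQ q')
  have e4 := E.c_1 x q
  calc (p * k) * E.t * (p * k)⁻¹ = p * (k * E.t * k⁻¹) * p⁻¹ := by group
    _ = (p * b * p⁻¹) * (p * E.p2 q2 * p⁻¹) * (p * E.t * p⁻¹) := by rw [hgt]; group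
    _ = b * (c1 * E.p2 q2) * (r * E.p1 q1 * E.t) := by rw [conj_of_comm (S.P_B hp hb), h3, hpt]
    _ = b * c1 * E.xb k2 * (E.p2 q' * (r * E.xz k1)) * E.p1 q * E.t := by rw [e1, e2]; group
    _ = b * c1 * E.xb k2 * (r * E.xz k1) * (E.p2 q' * E.p1 q) * E.t := by rw [← e3]; group
    _ = b * c1 * E.xb k2 * (r * E.xz k1) * E.w v * (E.p1 q * (E.xc x * E.xc x)) * E.p2 q' * E.t := by
        rw [hv, E.xc_sq]; group
    _ = b * c1 * E.xb k2 * (r * E.xz k1) * E.w v * ((E.xc x * E.p1 q) * E.xc x) * E.p2 q' * E.t := by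
        rw [e4]; group
    _ = _ := by group

/-- an involution `θ t`, `θ ∈ Ŵ`, is `Ŵ`-conjugate to `t`. -/
theorem Wt_conj_t {θ : G} (hθ : θ ∈ S.Wt) (h1 : θ * E.t * (θ * E.t) = 1) :
    ∃ ρ ∈ S.Wt, ρ * E.t * ρ⁻¹ = θ * E.t := by
  have h2 : θ * E.t = E.t * θ := by
    have h3 : E.t * θ * E.t = θ⁻¹ := by
      rw [← mul_eq_one_iff_eq_inv]
      calc E.t * θ * E.t * θ = θ⁻¹ * (θ * E.t * (θ * E.t)) * θ := by group
        _ = 1 := by rw [h1]; group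
    calc θ * E.t = (θ * θ) * (θ⁻¹ * E.t) := by group
      _ = (E.t * θ * E.t) * E.t := by rw [S.Wt_sq hθ, h3, one_mul]
      _ = E.t * θ * (E.t * E.t) := by group
      _ = _ := by rw [E.t_sq, mul_one]
  obtain ⟨v, rfl⟩ := S.Wt_centW hθ h2
  exact S.Wt_onto v

/-- the involutions of `N₂ t` are `N₂`-conjugate to `t`. -/
theorem N2_conj_t {n : G} (hn : n ∈ S.N2) (h : n * E.t * (n * E.t) = 1) :
    ∃ m ∈ S.N2, m * E.t * m⁻¹ = n * E.t := by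
  obtain ⟨ω, hω, g, hg, rfl⟩ := mem_of_inv hn h
  obtain ⟨m, hm, η, hη, h1⟩ := S.N2_onto hg
  have hW : ω * η⁻¹ ∈ S.Wt := mul_mem hω (inv_mem hη)
  have h2 : m⁻¹ * (ω * g * E.t) * m = ω * η⁻¹ * E.t := by
    have h3 := (InN2.inv hm).w _ hW
    calc m⁻¹ * (ω * g * E.t) * m = (m⁻¹ * (ω * η⁻¹)) * (η * g * E.t) * m := by group
      _ = ω * η⁻¹ * (m⁻¹ * (η * g * E.t) * m) := by rw [h3]; group
      _ = _ := by rw [← h1]; group
  obtain ⟨ρ, hρ, h4⟩ := S.Wt_conj_t hW (by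
    rw [← h2]
    calc m⁻¹ * (ω * g * E.t) * m * (m⁻¹ * (ω * g * E.t) * m) =
          m⁻¹ * (ω * g * E.t * (ω * g * E.t)) * m := by group
      _ = 1 := by rw [h]; group)
  refine ⟨m * ρ, mul_mem hm (S.Wt_le_N2 hρ), ?_⟩
  calc m * ρ * E.t * (m * ρ)⁻¹ = m * (ρ * E.t * ρ⁻¹) * m⁻¹ := by group
    _ = _ := by rw [h4, ← h2]; group

/-- **The involutions of `S₀ t` are `S₀`-conjugate to `t`.** -/
theorem conj_t {x : G} (hx : x ∈ S.S0) (h : x * E.t * (x * E.t) = 1) :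
    ∃ y ∈ S.S0, y * E.t * y⁻¹ = x * E.t := by
  obtain ⟨a, ha, n, hn, rfl⟩ := hx
  obtain ⟨s, hs⟩ := S.rootA.conj_t a ha
  have e1 := t_conj hs
  have ti := t_sq' (E := E)
  -- `a ∈ X_a`
  have hsN : E.xa s ∈ S.N2 := by
    have h1 : a * n * ((E.xa s)⁻¹ * a * (E.t * n * E.t⁻¹)) = 1 := by
      rw [← e1, ← h]
      calc a * n * (E.t * a * E.t⁻¹ * (E.t * n * E.t⁻¹)) = a * n * E.t * (a * n * E.t⁻¹) := by group
        _ = _ := by rw [ti]
    have h2 : E.xa s = (a * (E.t * n * E.t⁻¹) * a⁻¹) * (a * a) * n := by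
      have h3 : (E.xa s)⁻¹ = (a * n)⁻¹ * (a * (E.t * n * E.t⁻¹))⁻¹ := by
        calc (E.xa s)⁻¹ = (a * n)⁻¹ * (a * n * ((E.xa s)⁻¹ * a * (E.t * n * E.t⁻¹))) *
              (a * (E.t * n * E.t⁻¹))⁻¹ := by group
          _ = _ := by rw [h1, mul_one]
      calc E.xa s = ((E.xa s)⁻¹)⁻¹ := (inv_inv _).symm
        _ = _ := by rw [h3]; group
    rw [h2, S.A_sq ha, mul_one]
    exact mul_mem (S.A_conj_N2 ha (S.t_N2 hn)) hn
  have hs1 := S.A_inf_N2 (S.xa_mem s) hsN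
  rw [hs1, one_mul] at hs
  obtain ⟨s', rfl⟩ := S.rootA.cent a ha (comm_of_conj hs)
  obtain ⟨a1, ha1, h1⟩ := S.rootA.onto s'
  -- move into `N₂ t`
  set b := E.t * a1 * E.t⁻¹ with hb
  have hbA : b ∈ S.A := by
    rw [hb, t_conj h1]
    exact mul_mem (inv_mem (S.xa_mem s')) ha1
  have hn1 : b⁻¹ * n * b ∈ S.N2 := by
    have := S.A_conj_N2 (inv_mem hbA) hn
    rwa [inv_inv] at this
  have h2 : a1⁻¹ * (E.xa s' * n * E.t) * a1 = b⁻¹ * n * b * E.t := by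
    have h3 : E.xa s' = a1 * E.t * a1⁻¹ * E.t⁻¹ := by rw [h1]; group
    rw [h3, hb]
    group
  obtain ⟨m, hm, h4⟩ := S.N2_conj_t hn1 (by
    rw [← h2]
    calc a1⁻¹ * (E.xa s' * n * E.t) * a1 * (a1⁻¹ * (E.xa s' * n * E.t) * a1)
        = a1⁻¹ * (E.xa s' * n * E.t * (E.xa s' * n * E.t)) * a1 := by group
      _ = 1 := by rw [h]; group)
  refine ⟨a1 * m, mul_mem (S.A_le ha1) (S.N2_le_S0 hm), ?_⟩
  calc a1 * m * E.t * (a1 * m)⁻¹ = a1 * (m * E.t * m⁻¹) * a1⁻¹ := by group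
    _ = _ := by rw [h4, ← h2]; group

end QGrown

end Cfsg.Agent.StdRank2.UFive
end

private theorem dce_0dca6e924274 : _root_.True := by
  try have : _root_.True := by simp only [_root_.Cfsg.Agent.StdRank2.UFour.SeedPre.UU.congr_simp]
  try have : _root_.True := by simp only [_root_.Cfsg.Agent.StdRank2.UFive.Tp.mk.congr_simp]
  try have : _root_.True := by simp only [_root_.Cfsg.Agent.StdRank2.UFive.Tp.ofK.congr_simp]
  try have : _root_.True := by simp only [_root_.Cfsg.Agent.StdRank2.UFive.QGrown.S0.congr_simp]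
  exact _root_.True.intro
end

-- part: StdRank2/UFour/SeedU4
section
prune_inst 0x101005000422020800002506000020000000000000000000c0000102014040000062000038001400001008102008000001100000420000000a0004000004010000a8000000400000000098000084000000000000000000000000000000000000000000000
set_option linter.all false
open scoped Cfsg.Agent.FastGrp

/-!
# The seed for `U₄(q)`

`U4In E`: the two extra facts: `(nb xb(1))³ = 1` and `P = ⟨U, nb, C_T(Z)⟩` is normal in `C(⟨t⟩ Z)`.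
`exists_seed`: an element of `N(⟨t⟩ Z)` moving `t` to `z t` gives a `Seed` whose group commutes with `nb`.
-/

set_option autoImplicit false
set_option linter.unusedSectionVars false

namespace Cfsg.Agent.StdRank2.UFour.SeedU4

open Subgroup
open Cfsg.Agent.StdEven.Syl
open Cfsg.Agent.StdRank2.UFour.Seeding Cfsg.Agent.StdRank2.UFour.SeedMove
open Cfsg.Agent.StdRank2.UFour.SeedPre Cfsg.Agent.StdRank2.UFour.SeedOdd

variable {F : Type*} [Field F] [CharP F 2] {B : Bar F} {G : Type*} [Group G] (E : Env B G)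

/-- `Q₁ = X_z X_c X_a`. -/
def Q1 : Subgroup G where
  carrier := {g | ∃ x y s, g = E.xz x * E.xc y * E.xa s}
  mul_mem' := by
    rintro _ _ ⟨x, y, s, rfl⟩ ⟨x', y', s', rfl⟩
    refine ⟨x + x' + B.tr (s * B.s y'), y + y', s + s', ?_⟩
    have h1 : E.xa s * E.xc y' = E.xz (B.tr (s * B.s y')) * E.xc y' * E.xa s :=
      mul_inv_eq_iff_eq_mul.1 (E.a_c s y')
    calc E.xz x * E.xc y * E.xa s * (E.xz x' * E.xc y' * E.xa s')
        = E.xz x * E.xc y * (E.xa s * E.xz x') * E.xc y' * E.xa s' := by group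
      _ = E.xz x * (E.xc y * E.xz x') * (E.xa s * E.xc y') * E.xa s' := by rw [← E.z_a]; group
      _ = E.xz x * E.xz x' * (E.xc y * E.xz (B.tr (s * B.s y'))) * E.xc y' * E.xa s * E.xa s' := by
          rw [← E.z_c, h1]; group
      _ = _ := by rw [← E.z_c, E.xz_add, E.xz_add, E.xc_add, E.xa_add]; group
  one_mem' := ⟨0, 0, 0, by rw [E.xz_zero, E.xc_zero, E.xa_zero]; group⟩
  inv_mem' := by
    rintro _ ⟨x, y, s, rfl⟩
    refine ⟨x + B.tr (s * B.s y), y, s, ?_⟩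
    have h1 : E.xa s * E.xc y = E.xz (B.tr (s * B.s y)) * E.xc y * E.xa s :=
      mul_inv_eq_iff_eq_mul.1 (E.a_c s y)
    have iz : (E.xz x)⁻¹ = E.xz x := WEnv.inv_of_sq (E.xz_sq x)
    have ic : (E.xc y)⁻¹ = E.xc y := WEnv.inv_of_sq (E.xc_sq y)
    have ia : (E.xa s)⁻¹ = E.xa s := WEnv.inv_of_sq (E.xa_sq s)
    rw [mul_inv_rev, mul_inv_rev, iz, ic, ia]
    calc E.xa s * (E.xc y * E.xz x) = E.xa s * (E.xz x * E.xc y) := by rw [← E.z_c]
      _ = (E.xa s * E.xz x) * E.xc y := by group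
      _ = E.xz x * (E.xa s * E.xc y) := by rw [← E.z_a]; group
      _ = _ := by rw [h1, E.xz_add]; group

variable {E}

theorem z_mem (x : B.K) : E.xz x ∈ Q1 E := ⟨x, 0, 0, by rw [E.xc_zero, E.xa_zero]; group⟩
theorem c_mem (y : F) : E.xc y ∈ Q1 E := ⟨0, y, 0, by rw [E.xz_zero, E.xa_zero]; group⟩
theorem a_mem' (s : F) : E.xa s ∈ Q1 E := ⟨0, 0, s, by rw [E.xz_zero, E.xc_zero]; group⟩

theorem Q1_inj {x x' : B.K} {y y' s s' : F}
    (h : E.xz x * E.xc y * E.xa s = E.xz x' * E.xc y' * E.xa s') : x = x' ∧ y = y' ∧ s = s' := by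
  have h1 : s = s' := a_coord (mul_mem (E.z_mem x) (E.c_mem y)) (mul_mem (E.z_mem x') (E.c_mem y')) h
  subst h1
  have h2 : E.w (x, y, 0) = E.w (x', y', 0) := by
    unfold WEnv.w
    simp only [E.xb_zero, mul_one]
    exact mul_right_cancel h
  have h3 := E.w_injective h2
  exact ⟨congrArg Prod.fst h3, congrArg (fun p => p.2.1) h3, rfl⟩

/-- conjugation of `Q₁` by an element normalising the root groups modulo lower ones. -/
theorem conj_Q1 {g : G} (hz : ∀ x, g * E.xz x * g⁻¹ ∈ Q1 E) (hc : ∀ x, g * E.xc x * g⁻¹ ∈ Q1 E)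
    (ha : ∀ x, g * E.xa x * g⁻¹ ∈ Q1 E) {k : G} (hk : k ∈ Q1 E) : g * k * g⁻¹ ∈ Q1 E := by
  obtain ⟨x, y, s, rfl⟩ := hk
  have e : g * (E.xz x * E.xc y * E.xa s) * g⁻¹ =
      (g * E.xz x * g⁻¹) * (g * E.xc y * g⁻¹) * (g * E.xa s * g⁻¹) := by group
  rw [e]
  exact mul_mem (mul_mem (hz x) (hc y)) (ha s)

theorem Q_z {g : G} (hg : g ∈ E.Q) (x : B.K) : g * E.xz x * g⁻¹ = E.xz x := by
  rw [← E.z_Q x g hg]; group

theorem Q_c {g : G} (hg : g ∈ E.Q) (x : F) : g * E.xc x * g⁻¹ = E.xc x := by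
  rw [← E.c_Q x g hg]; group

/-- conjugation of `X_a` by an element of `W`. -/
theorem w_a (v : B.V) (s : F) : E.w v * E.xa s * (E.w v)⁻¹ =
    E.xz (B.tr (s * B.s v.2.1) + B.nm s * v.2.2) * E.xc (s * v.2.2) * E.xa s := by
  have h2 : E.xa s * E.w v = E.w (B.ma s v) * E.xa s := mul_inv_eq_iff_eq_mul.1 (E.conj_ma s v)
  rw [E.w_inv, mul_assoc, h2, ← mul_assoc, ← E.w_add]
  congr 1
  have e : v + B.ma s v = (B.tr (s * B.s v.2.1) + B.nm s * v.2.2, s * v.2.2, 0) := by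
    unfold Bar.ma
    refine Prod.ext ?_ (Prod.ext ?_ ?_)
    · change v.1 + (v.1 + B.tr (s * B.s v.2.1) + B.nm s * v.2.2) = _
      have := B.K_add_self v.1
      linear_combination this
    · change v.2.1 + (v.2.1 + s * v.2.2) = s * v.2.2
      have := Bar.add_self v.2.1
      linear_combination this
    · change v.2.2 + v.2.2 = 0
      exact B.K_add_self _
  rw [e]
  unfold WEnv.w
  simp only [E.xb_zero, mul_one]

theorem mem_Q {q : G} (hq : q ∈ E.Q) : ∃ v, q = E.w v := by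
  obtain ⟨x, y, z, h⟩ := E.Q_le q hq
  exact ⟨(x, y, z), h⟩

theorem U_Q1 {u : G} (hu : u ∈ UU E.toWEnv) {k : G} (hk : k ∈ Q1 E) : u * k * u⁻¹ ∈ Q1 E := by
  have hq : ∀ q ∈ E.Q, ∀ k ∈ Q1 E, q * k * q⁻¹ ∈ Q1 E := by
    intro q hq k hk
    apply conj_Q1 _ _ _ hk
    · intro x; rw [Q_z hq]; exact z_mem x
    · intro x; rw [Q_c hq]; exact c_mem x
    · intro s
      obtain ⟨v, rfl⟩ := mem_Q hq
      rw [w_a]
      exact ⟨_, _, _, rfl⟩
  obtain ⟨q, hq', s, rfl⟩ := hu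
  have e : q * E.xa s * k * (q * E.xa s)⁻¹ = q * (E.xa s * k * (E.xa s)⁻¹) * q⁻¹ := by group
  rw [e]
  exact hq q hq' _ (mul_mem (mul_mem (a_mem' s) hk) (inv_mem (a_mem' s)))

theorem nb_Q1 {k : G} (hk : k ∈ Q1 E) : E.nb * k * E.nb⁻¹ ∈ Q1 E := by
  apply conj_Q1 _ _ _ hk
  · intro x; rw [E.nb_z]; exact z_mem x
  · intro x; rw [E.nb_c]; exact a_mem' x
  · intro x; rw [E.nb_a]; exact c_mem x

theorem T_Q1 {t : G} (ht : t ∈ E.T) {k : G} (hk : k ∈ Q1 E) : t * k * t⁻¹ ∈ Q1 E := by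
  obtain ⟨μ, ν, h1, h2, h3, h4⟩ := E.T_act t ht
  apply conj_Q1 _ _ _ hk
  · intro x; rw [h4]; exact z_mem _
  · intro x; rw [h2]; exact c_mem _
  · intro x; rw [h1]; exact a_mem' _

variable (E) in
/-- the torus centralising `Z`. -/
def Hp : Subgroup G where
  carrier := {k | k ∈ E.T ∧ ∀ x, k * E.xz x * k⁻¹ = E.xz x}
  mul_mem' := by
    rintro a b ⟨ha, ha'⟩ ⟨hb, hb'⟩
    refine ⟨mul_mem ha hb, fun x => ?_⟩
    have e : a * b * E.xz x * (a * b)⁻¹ = a * (b * E.xz x * b⁻¹) * a⁻¹ := by group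
    rw [e, hb', ha']
  one_mem' := ⟨one_mem _, fun x => by group⟩
  inv_mem' := by
    rintro a ⟨ha, ha'⟩
    refine ⟨inv_mem ha, fun x => ?_⟩
    conv_lhs => rw [← ha' x]
    group

theorem xc_inj {x y : F} (h : E.xc x = E.xc y) : x = y := by
  have h1 : E.w (0, x, 0) = E.w (0, y, 0) := by rw [E.w_c, E.w_c, h]
  exact congrArg (fun p => p.2.1) (E.w_injective h1)

theorem xa_inj {x y : F} (h : E.xa x = E.xa y) : x = y :=
  a_coord (one_mem E.Q) (one_mem E.Q) (by rw [one_mul, one_mul, h])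

/-- the weights of an element of `Hp`. -/
theorem Hp_wt {k : G} (hk : k ∈ Hp E) : ∃ μ : Fˣ, (∀ x, k * E.xa x * k⁻¹ = E.xa (μ * x)) ∧
    (∀ x, k * E.xc x * k⁻¹ = E.xc ((B.s μ)⁻¹ * x)) ∧
    (∀ x, k * E.xb x * k⁻¹ = E.xb ((B.nm μ)⁻¹ * x)) := by
  obtain ⟨μ, ν, h1, h2, h3, h4⟩ := E.T_act k hk.1
  have h5 : B.nm (μ : F) * (ν : B.K) = 1 := by
    have h6 := h4 1
    rw [hk.2, mul_one] at h6
    exact (SeedEnv.xz_inj h6).symm
  have hN : B.nm (μ : F) ≠ 0 := fun h => μ.ne_zero (B.nm_eq_zero.1 h)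
  have hν : (ν : B.K) = (B.nm (μ : F))⁻¹ := eq_inv_of_mul_eq_one_right h5
  have hs : B.s (μ : F) ≠ 0 := (map_ne_zero_iff B.s B.s.injective).2 μ.ne_zero
  refine ⟨μ, h1, fun x => ?_, fun x => ?_⟩
  · rw [h2, hν]
    congr 1
    have e : (((B.nm (μ : F))⁻¹ : B.K) : F) = ((μ : F) * B.s μ)⁻¹ := by
      rw [← B.coe_nm]; rfl
    rw [e, mul_inv, ← mul_assoc, mul_inv_cancel₀ μ.ne_zero, one_mul]
  · rw [h3, hν]

/-- the element of `Hp` with a given weight. -/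
theorem exists_Hp (μ : Fˣ) : ∃ k ∈ Hp E, (∀ x, k * E.xa x * k⁻¹ = E.xa (μ * x)) ∧
    (∀ x, k * E.xc x * k⁻¹ = E.xc ((B.s μ)⁻¹ * x)) ∧
    (∀ x, k * E.xb x * k⁻¹ = E.xb ((B.nm μ)⁻¹ * x)) := by
  have hN : B.nm (μ : F) ≠ 0 := fun h => μ.ne_zero (B.nm_eq_zero.1 h)
  let ν : B.Kˣ := (Units.mk0 _ hN)⁻¹
  have hν : (ν : B.K) = (B.nm (μ : F))⁻¹ := by simp [ν]
  have hk : E.h μ ν ∈ Hp E := by
    refine ⟨E.h_mem μ ν, fun x => ?_⟩
    rw [E.h_z, hν, mul_inv_cancel₀ hN, one_mul]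
  have hs : B.s (μ : F) ≠ 0 := (map_ne_zero_iff B.s B.s.injective).2 μ.ne_zero
  refine ⟨_, hk, E.h_a μ ν, fun x => ?_, fun x => ?_⟩
  · rw [E.h_c, hν]
    congr 1
    have e : (((B.nm (μ : F))⁻¹ : B.K) : F) = ((μ : F) * B.s μ)⁻¹ := by
      rw [← B.coe_nm]; rfl
    rw [e, mul_inv, ← mul_assoc, mul_inv_cancel₀ μ.ne_zero, one_mul]
  · rw [E.h_b, hν]

/-- `Hp` is faithful on `X_a`. -/
theorem Hp_faith {k : G} (hk : k ∈ Hp E) (h : ∀ s, k * E.xa s * k⁻¹ = E.xa s) : k = 1 := by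
  obtain ⟨μ, h1, h2, h3⟩ := Hp_wt hk
  have hμ : (μ : F) = 1 := by
    have h4 := h 1
    rw [h1, mul_one] at h4
    exact xa_inj h4
  have h5 : ∀ v, k * E.w v * k⁻¹ = E.w v := by
    intro v
    have e : k * E.w v * k⁻¹ = (k * E.xz v.1 * k⁻¹) * (k * E.xc v.2.1 * k⁻¹) * (k * E.xb v.2.2 * k⁻¹) := by
      unfold WEnv.w; group
    rw [e, hk.2, h2, h3, hμ, map_one, B.nm_one, inv_one, inv_one, one_mul, one_mul]
    rfl
  have h6 : ∀ g ∈ E.Q, k * g = g * k := by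
    intro g hg
    obtain ⟨v, rfl⟩ := mem_Q hg
    exact mul_inv_eq_iff_eq_mul.1 (h5 v)
  obtain ⟨v, hv⟩ := E.cent_w (E.T_t k hk.1).symm h6
  have h7 : k * k = 1 := by
    rcases hv with hv | hv
    · rw [hv, E.w_sq]
    · rw [hv]
      calc E.t * E.w v * (E.t * E.w v) = E.t * (E.w v * E.t) * E.w v := by group
        _ = (E.t * E.t) * (E.w v * E.w v) := by rw [← E.t_w]; group
        _ = 1 := by rw [E.t_sq, E.w_sq, one_mul]
  obtain ⟨m, ⟨r, rfl⟩, hm⟩ := E.T_odd k hk.1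
  rw [pow_succ, pow_mul, pow_two, h7, one_pow, one_mul] at hm
  exact hm

theorem b_not : E.xb 1 ∉ Q1 E := by
  rintro ⟨x, y, s, h⟩
  have h1 : E.w (0, 0, 1) * E.xa 0 = E.w (x, y, 0) * E.xa s := by
    rw [E.w_b, E.xa_zero, mul_one, h]
    unfold WEnv.w
    simp only [E.xb_zero, mul_one]
  have h2 := a_coord (E.w_mem_Q _) (E.w_mem_Q _) h1
  rw [← h2] at h1
  have h3 := E.w_injective (mul_right_cancel h1)
  exact one_ne_zero (congrArg (fun p => p.2.2) h3)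

theorem cent_w' {v : B.V} (h : ∀ s, E.w v * E.xa s = E.xa s * E.w v) : ∃ x, E.w v = E.xz x := by
  have h1 : ∀ s, B.ma s v = v := by
    intro s
    apply E.w_injective
    rw [← E.conj_ma, ← h]; group
  have h2 : v.2.2 = 0 := by
    have h3 := congrArg (fun p => p.2.1) (h1 1)
    change v.2.1 + 1 * (v.2.2 : F) = v.2.1 at h3
    have h4 : (v.2.2 : F) = 0 := by linear_combination h3
    exact Subtype.ext h4
  have h5 : v.2.1 = 0 := by
    apply SeedEnv.tr_nondeg (B := B)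
    intro s
    have h3 := congrArg Prod.fst (h1 s)
    change v.1 + B.tr (s * B.s v.2.1) + B.nm s * v.2.2 = v.1 at h3
    rw [h2, mul_zero, add_zero] at h3
    have h4 : B.tr (s * B.s v.2.1) = 0 := left_eq_add.1 h3.symm
    rw [← B.tr_s, map_mul, B.invol, mul_comm]
    exact h4
  refine ⟨v.1, ?_⟩
  rw [← E.w_z]
  congr 1
  exact Prod.ext rfl (Prod.ext h5 h2)

theorem cent_U {g : G} (hg : g ∈ UU E.toWEnv) (h : ∀ x ∈ Q1 E, g * x = x * g) : ∃ x, g = E.xz x := by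
  obtain ⟨q, hq, s, rfl⟩ := hg
  have hs : s = 0 := by
    apply SeedEnv.tr_nondeg (B := B)
    intro y
    have h1 := SeedEnv.conj_c_form (E := E.toWEnv) hq s y
    rw [h _ (c_mem y), mul_inv_cancel_right] at h1
    have h2 : E.xz (B.tr (s * B.s y)) = E.xz 0 := by rw [E.xz_zero]; exact right_eq_mul.1 h1
    exact SeedEnv.xz_inj h2
  subst hs
  rw [E.xa_zero, mul_one] at h ⊢
  obtain ⟨v, rfl⟩ := mem_Q hq
  exact cent_w' fun s => h _ (a_mem' s)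

theorem D_char {g : G} (hg : g ∈ Q1 E) (h : ∀ u ∈ UU E.toWEnv, ∃ x, g * u * g⁻¹ = E.xz x * u) :
    ∃ x y, g = E.xz x * E.xc y := by
  obtain ⟨x, y, s, rfl⟩ := hg
  obtain ⟨z, hz⟩ := h _ (Q_le E.toWEnv (E.b_mem 1))
  have h1 : E.xz x * E.xc y * E.xa s * E.xb 1 * (E.xz x * E.xc y * E.xa s)⁻¹ = E.w (B.ma s (0, 0, 1)) := by
    have e : E.xz x * E.xc y * E.xa s * E.xb 1 * (E.xz x * E.xc y * E.xa s)⁻¹ =
        (E.xz x * E.xc y) * (E.xa s * E.xb 1 * (E.xa s)⁻¹) * (E.xz x * E.xc y)⁻¹ := by group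
    have e2 : E.xz x * E.xc y = E.w (x, y, 0) := by
      unfold WEnv.w; simp only [E.xb_zero, mul_one]
    rw [e, ← E.w_b, E.conj_ma, e2, E.w_comm, mul_inv_cancel_right]
  rw [h1, ← E.w_b, ← E.w_z, ← E.w_add] at hz
  have h2 := congrArg (fun p => p.2.1) (E.w_injective hz)
  change (0 : F) + s * ((1 : B.K) : F) = 0 + 0 at h2
  have hs : s = 0 := by
    have : ((1 : B.K) : F) = 1 := rfl
    rw [this] at h2
    linear_combination h2
  exact ⟨x, y, by rw [hs, E.xa_zero, mul_one]⟩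

/-! ### Coordinates -/

variable (E) in
open Classical in
/-- the a-coordinate. -/
noncomputable def pa (g : G) : F :=
  if h : ∃ x y s, g = E.xz x * E.xc y * E.xa s then h.choose_spec.choose_spec.choose else 0

variable (E) in
open Classical in
/-- the c-coordinate. -/
noncomputable def pc (g : G) : F :=
  if h : ∃ x y s, g = E.xz x * E.xc y * E.xa s then h.choose_spec.choose else 0

theorem pa_eq {x : B.K} {y s : F} : pa E (E.xz x * E.xc y * E.xa s) = s := by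
  have h : ∃ x' y' s', E.xz x * E.xc y * E.xa s = E.xz x' * E.xc y' * E.xa s' := ⟨x, y, s, rfl⟩
  unfold pa
  rw [dif_pos h]
  exact (Q1_inj h.choose_spec.choose_spec.choose_spec).2.2.symm

theorem pc_eq {x : B.K} {y s : F} : pc E (E.xz x * E.xc y * E.xa s) = y := by
  have h : ∃ x' y' s', E.xz x * E.xc y * E.xa s = E.xz x' * E.xc y' * E.xa s' := ⟨x, y, s, rfl⟩
  unfold pc
  rw [dif_pos h]
  exact (Q1_inj h.choose_spec.choose_spec.choose_spec).2.1.symm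

theorem mul_form (x x' : B.K) (y y' s s' : F) :
    E.xz x * E.xc y * E.xa s * (E.xz x' * E.xc y' * E.xa s') =
      E.xz (x + x' + B.tr (s * B.s y')) * E.xc (y + y') * E.xa (s + s') := by
  have h1 : E.xa s * E.xc y' = E.xz (B.tr (s * B.s y')) * E.xc y' * E.xa s :=
    mul_inv_eq_iff_eq_mul.1 (E.a_c s y')
  calc E.xz x * E.xc y * E.xa s * (E.xz x' * E.xc y' * E.xa s')
      = E.xz x * E.xc y * (E.xa s * E.xz x') * E.xc y' * E.xa s' := by group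
    _ = E.xz x * (E.xc y * E.xz x') * (E.xa s * E.xc y') * E.xa s' := by rw [← E.z_a]; group
    _ = E.xz x * E.xz x' * (E.xc y * E.xz (B.tr (s * B.s y'))) * E.xc y' * E.xa s * E.xa s' := by
        rw [← E.z_c, h1]; group
    _ = _ := by rw [← E.z_c, E.xz_add, E.xz_add, E.xc_add, E.xa_add]; group

/-! ### The group is a 2-group generated by commutators -/

theorem U_two : IsPGroup 2 (UU E.toWEnv) := by
  rintro ⟨g, hg⟩
  refine ⟨2, Subtype.ext ?_⟩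
  change g ^ 2 ^ 2 = 1
  obtain ⟨q, hq, s, rfl⟩ := hg
  have h1 : q * E.xa s * (q * E.xa s) = q * (E.xa s * q * (E.xa s)⁻¹) := by
    calc q * E.xa s * (q * E.xa s) = q * (E.xa s * q * (E.xa s)⁻¹) * (E.xa s * E.xa s) := by group
      _ = _ := by rw [E.xa_sq, mul_one]
  have h2 : q * (E.xa s * q * (E.xa s)⁻¹) ∈ E.Q := mul_mem hq (E.xa_Q s q hq)
  obtain ⟨v, hv⟩ := mem_Q h2
  have e : ∀ g : G, g ^ 2 ^ 2 = (g * g) * (g * g) := fun g => by
    rw [show 2 ^ 2 = 2 * 2 from rfl, pow_mul, pow_two, pow_two]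
  rw [e, h1, hv, E.w_sq]

theorem exists_mu (E : Env B G) : ∃ μ : Fˣ, (μ : F) + 1 ≠ 0 ∧ (B.s (μ : F))⁻¹ + 1 ≠ 0 ∧
    (B.nm (μ : F))⁻¹ + 1 ≠ 0 := by
  have h2 : ∀ a : F, a + a = 0 := fun a => CharTwo.add_self_eq_zero a
  have hl0 : ((E.lam : B.K) : F) ≠ 0 := fun h => E.lam.ne_zero (Subtype.ext h)
  have hl1 : ((E.lam : B.K) : F) ≠ 1 := fun h => E.lam_ne (Subtype.ext h)
  refine ⟨Units.mk0 _ hl0, ?_, ?_, ?_⟩
  · rw [Units.val_mk0]
    intro h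
    exact hl1 (by linear_combination h - h2 1)
  · rw [Units.val_mk0, B.s_K]
    intro h
    have h3 : ((E.lam : B.K) : F)⁻¹ = 1 := by linear_combination h - h2 1
    exact hl1 (inv_eq_one.1 h3)
  · rw [Units.val_mk0, B.nm_K]
    intro h
    have h3 : ((E.lam : B.K) * E.lam)⁻¹ = 1 := by linear_combination h - B.K_add_self 1
    have h4 : (E.lam : B.K) * E.lam = 1 := inv_eq_one.1 h3
    have h5 : ((E.lam : B.K) + 1) * ((E.lam : B.K) + 1) = 0 := by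
      linear_combination h4 + B.K_add_self (E.lam : B.K) + B.K_add_self 1
    rcases mul_self_eq_zero.1 h5 with h6
    exact E.lam_ne (by linear_combination h6 - B.K_add_self 1)

theorem U_gen : UU E.toWEnv ≤ closure {g | ∃ k ∈ Hp E, ∃ u ∈ UU E.toWEnv, g = k * u * k⁻¹ * u⁻¹} := by
  set C := closure {g | ∃ k ∈ Hp E, ∃ u ∈ UU E.toWEnv, g = k * u * k⁻¹ * u⁻¹} with hC
  obtain ⟨μ, n1, n2, n3⟩ := exists_mu E
  obtain ⟨k, hk, ha, hc, hb⟩ := exists_Hp (E := E) μ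
  have ca : ∀ s, E.xa s ∈ C := by
    intro s
    refine subset_closure ⟨k, hk, E.xa (((μ : F) + 1)⁻¹ * s), a_mem E.toWEnv _, ?_⟩
    rw [ha, WEnv.inv_of_sq (E.xa_sq _), ← E.xa_add]
    congr 1
    have e : ((μ : F) + 1) * ((μ : F) + 1)⁻¹ = 1 := mul_inv_cancel₀ n1
    linear_combination -s * e
  have cc : ∀ s, E.xc s ∈ C := by
    intro s
    refine subset_closure ⟨k, hk, E.xc (((B.s (μ : F))⁻¹ + 1)⁻¹ * s),
      Q_le E.toWEnv (E.c_mem _), ?_⟩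
    rw [hc, WEnv.inv_of_sq (E.xc_sq _), ← E.xc_add]
    congr 1
    have e : ((B.s (μ : F))⁻¹ + 1) * ((B.s (μ : F))⁻¹ + 1)⁻¹ = 1 := mul_inv_cancel₀ n2
    linear_combination -s * e
  have cb : ∀ s, E.xb s ∈ C := by
    intro s
    refine subset_closure ⟨k, hk, E.xb (((B.nm (μ : F))⁻¹ + 1)⁻¹ * s),
      Q_le E.toWEnv (E.b_mem _), ?_⟩
    rw [hb, WEnv.inv_of_sq (E.xb_sq _), ← E.xb_add]
    congr 1
    have e : ((B.nm (μ : F))⁻¹ + 1) * ((B.nm (μ : F))⁻¹ + 1)⁻¹ = 1 := mul_inv_cancel₀ n3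
    linear_combination -s * e
  have cz : ∀ x, E.xz x ∈ C := by
    intro x
    obtain ⟨s, hs⟩ := B.tr_surj x
    have h1 := E.a_c s 1
    rw [map_one, mul_one, hs] at h1
    have h2 : E.xz x = E.xa s * E.xc 1 * (E.xa s)⁻¹ * (E.xc 1)⁻¹ := by rw [h1]; group
    rw [h2]
    exact mul_mem (mul_mem (mul_mem (ca s) (cc 1)) (inv_mem (ca s))) (inv_mem (cc 1))
  rintro _ ⟨q, hq, s, rfl⟩
  obtain ⟨v, rfl⟩ := mem_Q hq
  exact mul_mem (mul_mem (mul_mem (cz _) (cc _)) (cb _)) (ca s)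

/-! ### The `Pre` structure -/

variable (E) in
/-- The extra relation. -/
def Braid : Prop := (E.nb * E.xb 1) ^ 3 = 1

theorem braid_rel (hb : Braid E) : E.nb * E.xb 1 * E.nb = E.xb 1 * E.nb * E.xb 1 := by
  unfold Braid at hb
  have h1 : E.nb⁻¹ = E.nb := WEnv.inv_of_sq E.nb_sq
  have h2 : (E.xb 1)⁻¹ = E.xb 1 := WEnv.inv_of_sq (E.xb_sq 1)
  have h3 : E.nb * E.xb 1 * E.nb * (E.xb 1 * E.nb * E.xb 1) = 1 := by
    rw [← hb]; simp only [pow_succ, pow_zero, one_mul, mul_assoc]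
  rw [eq_inv_of_mul_eq_one_left h3, mul_inv_rev, mul_inv_rev, h1, h2, mul_assoc]

theorem sqrt_K [Finite F] (x : B.K) : ∃ y : B.K, y * y = x := by
  have : Finite B.K := Finite.of_injective (fun x : B.K => (x : F)) Subtype.val_injective
  have := Fintype.ofFinite B.K
  have h2 : ringChar B.K = 2 := by
    have : CharP B.K 2 := (CharP.subring' F 2 B.K.toSubring : CharP B.K.toSubring 2)
    exact ringChar.eq B.K 2 ▸ rfl
  obtain ⟨s, hs⟩ := FiniteField.isSquare_of_char_two (F := B.K) h2 x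
  exact ⟨s, hs.symm⟩

theorem rank1 [Finite F] (hb : Braid E) (x : B.K) : E.xb x = 1 ∨
    ∃ u ∈ UU E.toWEnv, ∃ k ∈ Hp E, ∃ u' ∈ UU E.toWEnv, E.nb * E.xb x * E.nb = u * k * E.nb * u' := by
  by_cases hx : x = 0
  · left; rw [hx, E.xb_zero]
  right
  obtain ⟨y, hy⟩ := sqrt_K x⁻¹
  have hy0 : y ≠ 0 := by
    rintro rfl
    rw [mul_zero] at hy
    exact inv_ne_zero hx hy.symm
  have hyF : (y : F) ≠ 0 := fun h => hy0 (Subtype.ext h)
  obtain ⟨k, hk, ha, hc, hbk⟩ := exists_Hp (E := E) (Units.mk0 (y : F) hyF)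
  have h1 : k * E.xb 1 * k⁻¹ = E.xb x := by
    rw [hbk, Units.val_mk0, B.nm_K, hy, inv_inv, mul_one]
  have hn : E.nb⁻¹ = E.nb := WEnv.inv_of_sq E.nb_sq
  -- `k' = nb k nb⁻¹`
  have hk' : E.nb * k * E.nb⁻¹ ∈ Hp E := by
    refine ⟨(E.nb_T k).1 hk.1, fun z => ?_⟩
    have h2 : E.nb⁻¹ * E.xz z * E.nb = E.xz z := by
      have := E.nb_z z
      rw [hn] at this ⊢
      exact this
    calc E.nb * k * E.nb⁻¹ * E.xz z * (E.nb * k * E.nb⁻¹)⁻¹
        = E.nb * (k * (E.nb⁻¹ * E.xz z * E.nb) * k⁻¹) * E.nb⁻¹ := by group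
      _ = _ := by rw [h2, hk.2, E.nb_z]
  have hkT := hk.1
  have hk'T := hk'.1
  obtain ⟨μ', ν', -, -, hb', -⟩ := E.T_act _ hk'T
  have h3 : (E.nb * k * E.nb⁻¹) * E.xb 1 * (E.nb * k * E.nb⁻¹)⁻¹ = E.xb ((ν' : B.K) * 1) := hb' 1
  have hk2 : E.nb * (E.nb * k * E.nb⁻¹)⁻¹ = k⁻¹ * E.nb := by
    rw [mul_inv_rev, mul_inv_rev, inv_inv]
    calc E.nb * (E.nb * (k⁻¹ * E.nb⁻¹)) = (E.nb * E.nb) * k⁻¹ * E.nb⁻¹ := by group
      _ = k⁻¹ * E.nb := by rw [E.nb_sq, hn, one_mul]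
  refine ⟨E.xb ((ν' : B.K) * 1), Q_le E.toWEnv (E.b_mem _), (E.nb * k * E.nb⁻¹) * k⁻¹,
    mul_mem hk' (inv_mem hk), E.xb ((ν' : B.K) * 1), Q_le E.toWEnv (E.b_mem _), ?_⟩
  rw [← h3, ← h1]
  calc E.nb * (k * E.xb 1 * k⁻¹) * E.nb
      = (E.nb * k * E.nb⁻¹) * (E.nb * E.xb 1 * E.nb) * (E.nb⁻¹ * k⁻¹ * E.nb) := by group
    _ = (E.nb * k * E.nb⁻¹) * (E.nb * E.xb 1 * E.nb) * (E.nb * k * E.nb⁻¹)⁻¹ := by
        rw [mul_inv_rev, mul_inv_rev, inv_inv, hn]; simp only [mul_assoc]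
    _ = (E.nb * k * E.nb⁻¹) * (E.xb 1 * E.nb * E.xb 1) * (E.nb * k * E.nb⁻¹)⁻¹ := by rw [braid_rel hb]
    _ = (E.nb * k * E.nb⁻¹) * E.xb 1 * (E.nb * (E.nb * k * E.nb⁻¹)⁻¹) *
          ((E.nb * k * E.nb⁻¹) * E.xb 1 * (E.nb * k * E.nb⁻¹)⁻¹) := by group
    _ = _ := by rw [hk2]; group


/-- **The primitive data for `U₄(q)`.** -/
noncomputable def pre [Finite F] (hb : Braid E) : Pre E.toWEnv PUnit.{1} where
  Q1 := Q1 E
  Hp := Hp E
  nb := E.nb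
  Xβ := {r | ∃ x, r = E.xb x}
  chi := fun μ => μ / B.s μ
  xv := fun _ => 1
  pa := pa E
  pv := fun _ => PUnit.unit
  pc := pc E
  chi_eq := fun μ _ => Or.inr rfl
  V_gen := ⟨PUnit.unit, fun _ => ⟨0, rfl⟩⟩
  nb_sq := E.nb_sq
  t_nb := E.t_nb
  nb_z := E.nb_z
  nb_c := E.nb_c
  nb_T := fun g => (E.nb_T g).1
  nb_Q1 := fun _ hg => nb_Q1 hg
  nb_gen := by
    have h1 : E.nb = E.xb 1 * (E.nb * E.xb 1 * E.nb⁻¹) * E.xb 1 := by
      have hn : E.nb⁻¹ = E.nb := WEnv.inv_of_sq E.nb_sq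
      have h2 := E.xb_sq 1
      rw [hn, braid_rel hb]
      calc E.nb = (E.xb 1 * E.xb 1) * E.nb * (E.xb 1 * E.xb 1) := by rw [h2]; group
        _ = _ := by group
    have h2 : E.xb 1 ∈ closure ((UU E.toWEnv : Set G) ∪ {g | ∃ u ∈ UU E.toWEnv, g = E.nb * u * E.nb⁻¹}) :=
      subset_closure (Or.inl (Q_le E.toWEnv (E.b_mem 1)))
    have h3 : E.nb * E.xb 1 * E.nb⁻¹ ∈
        closure ((UU E.toWEnv : Set G) ∪ {g | ∃ u ∈ UU E.toWEnv, g = E.nb * u * E.nb⁻¹}) :=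
      subset_closure (Or.inr ⟨_, Q_le E.toWEnv (E.b_mem 1), rfl⟩)
    have h4 := mul_mem (mul_mem h2 h3) h2
    rw [← h1] at h4
    exact h4
  Hp_T := fun _ hk => hk.1
  Hp_z := fun _ hk => hk.2
  nb_Hp := by
    intro k hk
    have hn : E.nb⁻¹ = E.nb := WEnv.inv_of_sq E.nb_sq
    refine ⟨(E.nb_T k).1 hk.1, fun z => ?_⟩
    have h2 : E.nb⁻¹ * E.xz z * E.nb = E.xz z := by
      have := E.nb_z z
      rw [hn] at this ⊢
      exact this
    calc E.nb * k * E.nb⁻¹ * E.xz z * (E.nb * k * E.nb⁻¹)⁻¹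
        = E.nb * (k * (E.nb⁻¹ * E.xz z * E.nb) * k⁻¹) * E.nb⁻¹ := by group
      _ = _ := by rw [h2, hk.2, E.nb_z]
  Hp_act := by
    intro k hk
    obtain ⟨μ, h1, h2, -⟩ := Hp_wt hk
    exact ⟨μ, μ.ne_zero, h1, h2, fun v => ⟨0, by rw [E.xz_zero]; group⟩⟩
  Hp_onto := by
    intro μ hμ
    obtain ⟨k, hk, h1, h2, -⟩ := exists_Hp (E := E) (Units.mk0 μ hμ)
    exact ⟨k, hk, h1, h2, fun v => ⟨0, by rw [E.xz_zero]; group⟩⟩
  Hp_faith := fun _ hk h => Hp_faith hk h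
  Q1_le := by
    rintro _ ⟨x, y, s, rfl⟩
    exact ⟨_, mul_mem (E.z_mem x) (E.c_mem y), s, rfl⟩
  U_Q1 := fun _ hu _ hg => U_Q1 hu hg
  Hp_Q1 := fun _ hk _ hg => T_Q1 hk.1 hg
  b_not := b_not
  a_mem := a_mem'
  c_mem := c_mem
  v_mem := fun _ => one_mem _
  v_Q := fun _ => one_mem _
  U_split := by
    rintro _ ⟨q, hq, s, rfl⟩
    obtain ⟨v, rfl⟩ := mem_Q hq
    refine ⟨E.xz v.1 * E.xc v.2.1 * (E.w (0, 0, v.2.2) * E.xa s * (E.w (0, 0, v.2.2))⁻¹), ?_,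
      E.xb v.2.2, ⟨_, rfl⟩, ?_⟩
    · rw [w_a]
      exact mul_mem (mul_mem (z_mem _) (c_mem _)) ⟨_, _, _, rfl⟩
    · rw [E.w_b]
      unfold WEnv.w
      group
  Xβ_U := by
    rintro _ ⟨x, rfl⟩
    exact Q_le E.toWEnv (E.b_mem x)
  rank1 := by
    rintro _ ⟨x, rfl⟩
    exact rank1 hb x
  U_two := U_two
  U_gen := U_gen
  D_char := fun _ hg h => D_char hg h
  cent_U := fun _ hg h => cent_U hg h
  cent_t := by
    intro c hc h
    obtain ⟨x, y, s, h1⟩ := E.cent_Q c hc (fun x => h _ (z_mem x))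
      (fun x => ⟨0, by rw [E.xz_zero, one_mul, h _ (a_mem' x), mul_inv_cancel_right]⟩)
      (fun x => ⟨0, by rw [E.xz_zero, one_mul, h _ (c_mem x), mul_inv_cancel_right]⟩)
    exact ⟨_, ⟨x, y, s, rfl⟩, h1⟩
  pa_mul := by
    rintro _ ⟨x, y, s, rfl⟩ _ ⟨x', y', s', rfl⟩
    rw [mul_form, pa_eq, pa_eq, pa_eq]
  pv_mul := fun _ _ _ _ => rfl
  pc_mul := by
    rintro _ ⟨x, y, s, rfl⟩ _ ⟨x', y', s', rfl⟩
    rw [mul_form, pc_eq, pc_eq, pc_eq]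
  ker := by
    rintro _ ⟨x, y, s, rfl⟩ h1 - h2
    rw [pa_eq] at h1
    rw [pc_eq] at h2
    exact ⟨x, by rw [h1, h2, E.xc_zero, E.xa_zero, mul_one, mul_one]⟩
  pa_z := by
    intro x
    have : E.xz x = E.xz x * E.xc 0 * E.xa 0 := by rw [E.xc_zero, E.xa_zero]; group
    rw [this, pa_eq]
  pv_z := fun _ => rfl
  pc_z := by
    intro x
    have : E.xz x = E.xz x * E.xc 0 * E.xa 0 := by rw [E.xc_zero, E.xa_zero]; group
    rw [this, pc_eq]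
  pa_a := by
    intro s
    have : E.xa s = E.xz 0 * E.xc 0 * E.xa s := by rw [E.xc_zero, E.xz_zero]; group
    rw [this, pa_eq]
  pv_a := fun _ => rfl
  pc_a := by
    intro s
    have : E.xa s = E.xz 0 * E.xc 0 * E.xa s := by rw [E.xc_zero, E.xz_zero]; group
    rw [this, pc_eq]
  pa_v := by
    intro _
    have : (1 : G) = E.xz 0 * E.xc 0 * E.xa 0 := by rw [E.xc_zero, E.xz_zero, E.xa_zero]; group
    rw [this, pa_eq]
  pv_v := fun _ => rfl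
  pc_v := by
    intro _
    have : (1 : G) = E.xz 0 * E.xc 0 * E.xa 0 := by rw [E.xc_zero, E.xz_zero, E.xa_zero]; group
    rw [this, pc_eq]
  pa_c := by
    intro s
    have : E.xc s = E.xz 0 * E.xc s * E.xa 0 := by rw [E.xa_zero, E.xz_zero]; group
    rw [this, pa_eq]
  pv_c := fun _ => rfl
  pc_c := by
    intro s
    have : E.xc s = E.xz 0 * E.xc s * E.xa 0 := by rw [E.xa_zero, E.xz_zero]; group
    rw [this, pc_eq]

variable (E) in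
/-- `P = ⟨U, U^{nb}, C_T(Z)⟩`. -/
def P : Subgroup G :=
  closure ((UU E.toWEnv : Set G) ∪ {g | ∃ u ∈ UU E.toWEnv, g = E.nb * u * E.nb⁻¹} ∪ Hp E)

/-- the elements of `N` centralising `⟨t⟩ Z` and trivial on `X_a` modulo `W` are in `⟨t⟩ U`. -/
theorem hcent [Finite F] [Finite G] (hb : Braid E) {m : G} (hm : m ∈ (pre hb).toSeedEnv.N)
    (hmt : m * E.t = E.t * m) (hmz : ∀ x, m * E.xz x = E.xz x * m)
    (hma : ∀ g ∈ (pre hb).toSeedEnv.Q1, (pre hb).toSeedEnv.pa (m * g * m⁻¹) = (pre hb).toSeedEnv.pa g)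
    (hmc : ∀ y, ∃ x, m * E.xc y * m⁻¹ = E.xz x * E.xc y) :
    m ∈ P E ∨ E.t * m ∈ P E := by
  have hmz' : ∀ x, m * E.xz x * m⁻¹ = E.xz x := fun x => mul_inv_eq_iff_eq_mul.2 (hmz x)
  -- action on `X_a`
  have ha : ∀ s, ∃ y z, m * E.xa s * m⁻¹ = E.xz z * E.xc y * E.xa s := by
    intro s
    have h1 := SeedEnv.N_Q1 hm ((pre hb).toSeedEnv.a_mem s)
    obtain ⟨x, y, s', h2⟩ := h1
    have h3 := hma _ ((pre hb).toSeedEnv.a_mem s)
    rw [(pre hb).toSeedEnv.pa_a, h2] at h3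
    have h4 : s' = s := by
      rw [← h3]
      exact (pa_eq (E := E)).symm
    rw [h4] at h2
    exact ⟨y, x, h2⟩
  -- `m` normalises `Q`
  have hQ : ∀ q ∈ E.Q, m * q * m⁻¹ ∈ E.Q := by
    intro q hq
    have h1 : m * q * m⁻¹ ∈ UU E.toWEnv := SeedEnv.N_U hm (Q_le E.toWEnv hq)
    obtain ⟨r, hr, s, h2⟩ := h1
    have h3 : ∀ y, m * q * m⁻¹ * E.xc y = E.xc y * (m * q * m⁻¹) := by
      intro y
      obtain ⟨x, hx⟩ := hmc y
      have h4 : m⁻¹ * E.xc y * m = E.xz x * E.xc y := by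
        have h5 : E.xc y = E.xz x * (m * E.xc y * m⁻¹) := by
          rw [hx, ← mul_assoc, E.xz_sq, one_mul]
        calc m⁻¹ * E.xc y * m = m⁻¹ * (E.xz x * (m * E.xc y * m⁻¹)) * m := by rw [← h5]
          _ = m⁻¹ * (E.xz x * m) * E.xc y := by group
          _ = _ := by rw [← hmz]; group
      have h5 : q * (E.xz x * E.xc y) = (E.xz x * E.xc y) * q := by
        rw [← mul_assoc, ← E.z_Q x q hq, mul_assoc, ← E.c_Q y q hq, mul_assoc]
      rw [← h4] at h5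
      calc m * q * m⁻¹ * E.xc y = m * (q * (m⁻¹ * E.xc y * m)) * m⁻¹ := by group
        _ = _ := by rw [h5]; group
    have hs : s = 0 := by
      apply SeedEnv.tr_nondeg (B := B)
      intro y
      have h4 := SeedEnv.conj_c_form (E := E.toWEnv) hr s y
      rw [← h2, h3 y, mul_inv_cancel_right] at h4
      have h5 : E.xz (B.tr (s * B.s y)) = E.xz 0 := by rw [E.xz_zero]; exact right_eq_mul.1 h4
      exact SeedEnv.xz_inj h5
    rw [h2, hs, E.xa_zero, mul_one]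
    exact hr
  have hb' : ∀ x, ∃ y z, m * E.xb x * m⁻¹ = E.xz z * E.xc y * E.xb x := by
    intro x
    obtain ⟨v, hv⟩ := mem_Q (hQ _ (E.b_mem x))
    -- compare `[x_a(1), x_b(x)]`
    obtain ⟨y, z, h1⟩ := ha 1
    have e1 : E.xz z * E.xc y = E.w (z, y, 0) := by
      unfold WEnv.w; simp only [E.xb_zero, mul_one]
    have h2 : m * (E.xa 1 * E.xb x * (E.xa 1)⁻¹) * m⁻¹ = E.w (B.ma 1 v) := by
      calc m * (E.xa 1 * E.xb x * (E.xa 1)⁻¹) * m⁻¹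
          = (m * E.xa 1 * m⁻¹) * (m * E.xb x * m⁻¹) * (m * E.xa 1 * m⁻¹)⁻¹ := by group
        _ = E.w (z, y, 0) * (E.xa 1 * E.w v * (E.xa 1)⁻¹) * (E.w (z, y, 0))⁻¹ := by
            rw [h1, hv, e1]; group
        _ = _ := by rw [E.conj_ma, E.w_comm, mul_inv_cancel_right]
    rw [← E.w_b, E.conj_ma] at h2
    have e2 : B.ma 1 (0, 0, x) = (B.nm 1 * x, ((x : B.K) : F), x) := by
      unfold Bar.ma
      refine Prod.ext ?_ (Prod.ext ?_ ?_)
      · simp [B.tr_zero]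
      · simp
      · rfl
    obtain ⟨x1, hx1⟩ := hmc ((x : B.K) : F)
    have h3 : m * E.w (B.nm 1 * x, ((x : B.K) : F), x) * m⁻¹ =
        E.w ((B.nm 1 * x, 0, 0) + (x1, ((x : B.K) : F), 0) + v) := by
      have e3 : m * E.w (B.nm 1 * x, ((x : B.K) : F), x) * m⁻¹ =
        (m * E.xz (B.nm 1 * x) * m⁻¹) * (m * E.xc ((x : B.K) : F) * m⁻¹) * (m * E.xb x * m⁻¹) := by
        unfold WEnv.w; group
      rw [e3, hmz', hx1, hv, E.w_add, E.w_add, E.w_z]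
      congr 2
      unfold WEnv.w; simp only [E.xb_zero, mul_one]
    rw [e2, h3] at h2
    have h4 := congrArg (fun p => p.2.1) (E.w_injective h2)
    change (0 : F) + ((x : B.K) : F) + v.2.1 = v.2.1 + 1 * ((v.2.2 : B.K) : F) at h4
    have h5 : v.2.2 = x := by
      apply Subtype.ext
      linear_combination -h4
    refine ⟨v.2.1, v.1, ?_⟩
    rw [hv]
    unfold WEnv.w
    rw [h5]
  obtain ⟨x, y, z, s, h1⟩ := E.cent_U m hmt (fun x => ⟨x, hmz' x⟩)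
    (fun y => by
      obtain ⟨x, hx⟩ := hmc y
      exact ⟨y, x, hx⟩) ha hb'
  have hu : E.xz x * E.xc y * E.xb z * E.xa s ∈ P E :=
    subset_closure (Or.inl (Or.inl ⟨_, E.w_mem_Q (x, y, z), s, rfl⟩))
  rcases h1 with h1 | h1
  · left; rw [h1]; exact hu
  · right
    rw [h1, ← mul_assoc, E.t_sq, one_mul]
    exact hu

/-- **The seed for `U₄(q)`.** `hP`: `P` is normal in `C(⟨t⟩ Z)`. -/
theorem exists_seed [Finite F] [Finite G] (hb : Braid E)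
    (hP : ∀ c, c * E.t = E.t * c → (∀ x, c * E.xz x = E.xz x * c) → ∀ g ∈ P E, c * g * c⁻¹ ∈ P E)
    {n : G} (hn : n ∈ normalizer (TZ E.toWEnv : Set G)) {c : B.K} (hc : c ≠ 0)
    (ht : n * E.t * n⁻¹ = E.xz c * E.t) :
    ∃ Sd : Seed E.toWEnv, (∀ y ∈ Sd.Y, ∀ g ∈ P E, y * g = g * y) ∧
      ∀ y ∈ Sd.Y, E.nb * y = y * E.nb := by
  have hnP := normP_of_odd (pre hb).toSeedEnv (fun g hg hgt hgz => by
    obtain ⟨k, hk, hgk⟩ := hg
    exact odd_mem (pre hb).toSeedEnv hP (fun m hm hmt hmz hma hmc => hcent hb hm hmt hmz hma hmc)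
      hk hgk hgt hgz) hn
  obtain ⟨Sd, h1⟩ := SeedEnd.exists_seed' (pre hb).toSeedEnv hnP hc ht
  exact ⟨Sd, h1, fun y hy => (h1 y hy _ (pre hb).nb_mem).symm⟩

end Cfsg.Agent.StdRank2.UFour.SeedU4
end

-- part: StdRank2/UFour/GrowSq
section
prune_inst 0x301005002422000000000502000000200000000000200000d040000200441100006001004000180000102e1028000000011000004000000000000400000500000088000010400000000090002084000000000000000000000000000000041000000000000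
set_option linter.all false
open scoped Cfsg.Agent.FastGrp

-- part: StdRank2/UFour/GrowW
section
/-!
# Growth of `W`: the groups `N' = {y ∈ C(Q) : [y, t] ∈ W}` and `Ŵ`

`E.D y v` says that `y` commutes with `Q` and `y t y⁻¹ = w v · t`.
-/

set_option autoImplicit false
set_option linter.unusedSectionVars false

namespace Cfsg.Agent.StdRank2.UFour

open Subgroup

variable {F : Type*} [Field F] [CharP F 2] {B : Bar F} {G : Type*} [Group G]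

namespace WEnv

variable (E : WEnv B G)

/-- `y` centralises `Q` and `[y, t] = w v`. -/
def D (y : G) (v : B.V) : Prop := (∀ g ∈ E.Q, y * g = g * y) ∧ y * E.t * y⁻¹ = E.w v * E.t

variable {E}

theorem D.w_comm {y : G} {v : B.V} (h : E.D y v) (u : B.V) : y * E.w u = E.w u * y :=
  h.1 _ (E.w_mem_Q u)

theorem D.conj_w {y : G} {v : B.V} (h : E.D y v) (u : B.V) : y * E.w u * y⁻¹ = E.w u := by
  rw [h.w_comm u, mul_inv_cancel_right]

theorem D.uniq {y : G} {v v' : B.V} (h : E.D y v) (h' : E.D y v') : v = v' :=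
  E.w_injective (mul_right_cancel (h.2.symm.trans h'.2))

theorem D.mul {y y' : G} {v v' : B.V} (h : E.D y v) (h' : E.D y' v') : E.D (y * y') (v + v') := by
  refine ⟨fun g hg => ?_, ?_⟩
  · rw [mul_assoc, h'.1 g hg, ← mul_assoc, h.1 g hg, mul_assoc]
  · calc y * y' * E.t * (y * y')⁻¹ = y * (y' * E.t * y'⁻¹) * y⁻¹ := by group
      _ = (y * E.w v' * y⁻¹) * (y * E.t * y⁻¹) := by rw [h'.2]; group
      _ = E.w (v + v') * E.t := by
        rw [h.conj_w, h.2, ← mul_assoc, ← E.w_add, add_comm]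

theorem D.one : E.D 1 0 :=
  ⟨fun g _ => by rw [one_mul, mul_one], by rw [E.w_zero]; simp⟩

theorem D.inv {y : G} {v : B.V} (h : E.D y v) : E.D y⁻¹ v := by
  refine ⟨fun g hg => ?_, ?_⟩
  · have := h.1 g hg
    calc y⁻¹ * g = y⁻¹ * (g * y) * y⁻¹ := by group
      _ = y⁻¹ * (y * g) * y⁻¹ := by rw [this]
      _ = g * y⁻¹ := by group
  · have h1 := h.2
    have h2 := h.w_comm v
    calc y⁻¹ * E.t * y⁻¹⁻¹ = y⁻¹ * (E.w v * (E.w v * E.t)) * y := by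
          rw [← mul_assoc (E.w v), E.w_sq, one_mul, inv_inv]
      _ = y⁻¹ * (E.w v * (y * E.t * y⁻¹)) * y := by rw [h1]
      _ = y⁻¹ * (E.w v * y) * E.t := by group
      _ = y⁻¹ * (y * E.w v) * E.t := by rw [h2]
      _ = _ := by group

theorem D.w (u : B.V) : E.D (E.w u) 0 := by
  refine ⟨fun g hg => E.w_Q u hg, ?_⟩
  rw [← E.t_w, mul_inv_cancel_right, E.w_zero, one_mul]

theorem D.t : E.D E.t 0 :=
  ⟨fun g hg => E.t_Q g hg, by rw [mul_inv_cancel_right, E.w_zero, one_mul]⟩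

theorem D.t_comm {y : G} (h : E.D y 0) : y * E.t = E.t * y := by
  have h2 := h.2
  rw [E.w_zero, one_mul] at h2
  exact conj_eq_iff.1 h2

theorem D.of_comm {y : G} {v : B.V} (h : E.D y v) (hc : y * E.t = E.t * y) : v = 0 := by
  have h2 := h.2
  rw [hc, mul_inv_cancel_right] at h2
  exact E.w_eq_one (right_eq_mul.1 h2)

theorem D.mem_W {y : G} (h : E.D y 0) : ∃ u, y = E.w u ∨ y = E.t * E.w u :=
  E.cent_w h.t_comm h.1

theorem D.w_mul {y : G} {v : B.V} (h : E.D y v) (u : B.V) : E.D (E.w u * y) v := by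
  have := (D.w (E := E) u).mul h
  rwa [zero_add] at this

theorem D.t_mul {y : G} {v : B.V} (h : E.D y v) : E.D (E.t * y) v := by
  have := (D.t (E := E)).mul h
  rwa [zero_add] at this

/-- `N'/W` is elementary abelian. -/
theorem D.sq {y : G} {v : B.V} (h : E.D y v) : ∃ u, y * y = E.w u := by
  have h1 := h.mul h
  rw [V_add_self] at h1
  obtain ⟨u, hu | hu⟩ := h1.mem_W
  · exact ⟨u, hu⟩
  · exfalso
    have h2 : y * E.t = E.t * y := by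
      have e : E.t = y * y * E.w u := by rw [hu, mul_assoc, E.w_sq, mul_one]
      rw [e]
      calc y * (y * y * E.w u) = y * y * (y * E.w u) := by group
        _ = y * y * (E.w u * y) := by rw [h.w_comm]
        _ = _ := by group
    have h3 := h.of_comm h2
    subst h3
    obtain ⟨a, ha | ha⟩ := h.mem_W
    · rw [ha, E.w_sq] at hu
      apply E.t_not_w u
      have := mul_eq_one_iff_eq_inv.1 hu.symm
      rw [this, E.w_inv]
    · have e : y * y = 1 := by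
        rw [ha]
        calc E.t * E.w a * (E.t * E.w a) = (E.t * E.w a) * (E.w a * E.t) := by rw [E.t_w]
          _ = E.t * (E.w a * E.w a) * E.t := by group
          _ = 1 := by rw [E.w_sq, mul_one, E.t_sq]
      rw [e] at hu
      apply E.t_not_w u
      have := mul_eq_one_iff_eq_inv.1 hu.symm
      rw [this, E.w_inv]

theorem D.comm {y y' : G} {v v' : B.V} (h : E.D y v) (h' : E.D y' v') :
    ∃ u, y * y' = E.w u * (y' * y) := by
  obtain ⟨a, ha⟩ := h.sq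
  obtain ⟨b, hb⟩ := h'.sq
  obtain ⟨c, hc⟩ := (h.mul h').sq
  refine ⟨c + b + a, ?_⟩
  have e1 : y⁻¹ = E.w a * y := by
    rw [inv_eq_iff_mul_eq_one, ← mul_assoc, h.w_comm, mul_assoc, ha, E.w_sq]
  have e2 : y'⁻¹ = E.w b * y' := by
    rw [inv_eq_iff_mul_eq_one, ← mul_assoc, h'.w_comm, mul_assoc, hb, E.w_sq]
  have e3 : y * y' = E.w c * (y'⁻¹ * y⁻¹) := by
    rw [← hc]; group
  rw [e3, e1, e2, E.w_add, E.w_add]
  calc E.w c * (E.w b * y' * (E.w a * y)) = E.w c * E.w b * (y' * E.w a) * y := by group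
    _ = E.w c * E.w b * (E.w a * y') * y := by rw [h'.w_comm]
    _ = _ := by group

/-! ### Normalisers -/

variable (E) in
/-- `g` commutes with `t` and with `h 1 lam`, normalises `Q` and acts on `W` by `f`. -/
structure Nm (g : G) (f : B.V → B.V) : Prop where
  comm_t : E.t * g = g * E.t
  comm_h : g * E.h 1 E.lam = E.h 1 E.lam * g
  nQ : ∀ x, x ∈ E.Q ↔ g * x * g⁻¹ ∈ E.Q
  act : ∀ v, g * E.w v * g⁻¹ = E.w (f v)

variable (E)

theorem nm_xa (s : F) : E.Nm (E.xa s) (B.ma s) where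
  comm_t := E.t_a s
  comm_h := by
    have := E.h_a 1 E.lam s
    rw [Units.val_one, one_mul, conj_eq_iff] at this
    exact this.symm
  nQ x := by
    refine ⟨fun h => E.xa_Q s x h, fun h => ?_⟩
    have := E.xa_Q s _ h
    rw [inv_of_sq (E.xa_sq s)] at this
    have e : E.xa s * (E.xa s * x * E.xa s) * E.xa s = x := by
      calc E.xa s * (E.xa s * x * E.xa s) * E.xa s = (E.xa s * E.xa s) * x * (E.xa s * E.xa s) := by
            group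
        _ = x := by rw [E.xa_sq, one_mul, mul_one]
    rwa [e] at this
  act := E.conj_ma s

theorem nm_na : E.Nm E.na B.mn where
  comm_t := E.t_na
  comm_h := E.na_h _
  nQ := E.na_Q
  act := E.conj_mn

theorem nm_h (μ : Fˣ) (ν : B.Kˣ) : E.Nm (E.h μ ν) (B.mh μ ν) where
  comm_t := E.T_t _ (E.h_mem _ _)
  comm_h := E.T_comm _ (E.h_mem _ _) _ (E.h_mem _ _)
  nQ := E.T_Q _ (E.h_mem _ _)
  act := E.conj_mh μ ν

theorem nm_T {g : G} (hg : g ∈ E.T) : ∃ μ ν, E.Nm g (B.mh μ ν) := by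
  obtain ⟨μ, ν, h⟩ := E.conj_T_w hg
  exact ⟨μ, ν, E.T_t g hg, E.T_comm _ hg _ (E.h_mem _ _), E.T_Q g hg, h⟩

variable {E}

theorem Nm.D {g : G} {f : B.V → B.V} (hg : E.Nm g f) {y : G} {v : B.V} (h : E.D y v) :
    E.D (g * y * g⁻¹) (f v) := by
  refine ⟨fun x hx => ?_, ?_⟩
  · have h1 : g⁻¹ * x * g ∈ E.Q := by
      rw [hg.nQ]
      have e : g * (g⁻¹ * x * g) * g⁻¹ = x := by group
      rwa [e]
    have h2 := h.1 _ h1
    calc g * y * g⁻¹ * x = g * (y * (g⁻¹ * x * g)) * g⁻¹ := by group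
      _ = g * ((g⁻¹ * x * g) * y) * g⁻¹ := by rw [h2]
      _ = _ := by group
  · have ht : g⁻¹ * E.t * g = E.t := by rw [mul_assoc, hg.comm_t, ← mul_assoc, inv_mul_cancel, one_mul]
    calc g * y * g⁻¹ * E.t * (g * y * g⁻¹)⁻¹ = g * (y * (g⁻¹ * E.t * g) * y⁻¹) * g⁻¹ := by group
      _ = (g * E.w v * g⁻¹) * (g * E.t * g⁻¹) := by rw [ht, h.2]; group
      _ = E.w (f v) * E.t := by rw [hg.act, ← hg.comm_t, mul_inv_cancel_right]

end WEnv

/-! ### Surjectivity -/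

namespace Seed

variable {E : WEnv B G} (S : Seed E)

include S

theorem exists_D (v : B.V) : ∃ y, E.D y v := by
  let A : AddSubgroup B.V :=
    { carrier := {v | ∃ y, E.D y v}
      add_mem' := by
        rintro a b ⟨y, hy⟩ ⟨y', hy'⟩
        exact ⟨_, hy.mul hy'⟩
      zero_mem' := ⟨1, WEnv.D.one⟩
      neg_mem' := by
        rintro a ⟨y, hy⟩
        have : -a = a := neg_eq_of_add_eq_zero_left (WEnv.V_add_self a)
        rw [this]
        exact ⟨y, hy⟩ }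
  have hA : A = ⊤ := by
    have hb : ∀ c, ((0 : B.K), (0 : F), c) ∈ A := by
      intro c
      obtain ⟨y, hy, hy2⟩ := S.onto c
      have h1 : E.D y (c, 0, 0) := ⟨S.Q_comm y hy, by rw [WEnv.w_z]; exact hy2⟩
      have h2 := E.nm_na.D h1
      have e : B.mn (c, 0, 0) = (0, 0, c) := by
        unfold Bar.mn
        refine Prod.ext rfl (Prod.ext (map_zero B.s) rfl)
      rw [e] at h2
      exact ⟨_, h2⟩
    apply B.gen A hb
    intro s c
    obtain ⟨y, hy⟩ := hb c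
    exact ⟨_, (E.nm_xa s).D hy⟩
  have : v ∈ A := by rw [hA]; trivial
  exact this

end Seed

end Cfsg.Agent.StdRank2.UFour
end

-- part: StdRank2/UFour/GrowWh
section
/-!
# The group `Ŵ`

`x ∈ Ŵ` iff `x ∈ W φ(y)` with `y ∈ N'`, `φ(y) = y (h₁ y h₁⁻¹)`, `h₁ = h 1 lam`. We show
`N' = Ŵ ∪ t Ŵ`, `t ∉ Ŵ`, and that `Ŵ` is abelian.
-/

set_option autoImplicit false
set_option linter.unusedSectionVars false

namespace Cfsg.Agent.StdRank2.UFour

open Subgroup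

variable {F : Type*} [Field F] [CharP F 2] {B : Bar F} {G : Type*} [Group G]

namespace WEnv

variable (E : WEnv B G)

/-- `φ(y) = y (h₁ y h₁⁻¹)`. -/
def phi (y : G) : G := y * (E.h 1 E.lam * y * (E.h 1 E.lam)⁻¹)

variable {E}

theorem D.phi {y : G} {v : B.V} (h : E.D y v) : E.D (E.phi y) (v + B.mh 1 E.lam v) :=
  h.mul ((E.nm_h 1 E.lam).D h)

theorem D.phi_mul {y y' : G} {v v' : B.V} (h : E.D y v) (h' : E.D y' v') :
    ∃ u, E.phi y * E.phi y' = E.w u * E.phi (y * y') := by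
  have hk := (E.nm_h 1 E.lam).D h
  obtain ⟨u, hu⟩ := hk.comm h'
  refine ⟨u, ?_⟩
  unfold WEnv.phi
  set k := E.h 1 E.lam
  calc y * (k * y * k⁻¹) * (y' * (k * y' * k⁻¹)) = y * (k * y * k⁻¹ * y') * (k * y' * k⁻¹) := by
        group
    _ = (y * E.w u) * y' * (k * y * k⁻¹) * (k * y' * k⁻¹) := by rw [hu]; group
    _ = (E.w u * y) * y' * (k * y * k⁻¹) * (k * y' * k⁻¹) := by rw [h.w_comm]
    _ = _ := by group

theorem D.phi_inv {y : G} {v : B.V} (h : E.D y v) : ∃ u, (E.phi y)⁻¹ = E.w u * E.phi y⁻¹ := by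
  have hk := (E.nm_h 1 E.lam).D h.inv
  obtain ⟨u, hu⟩ := hk.comm h.inv
  refine ⟨u, ?_⟩
  unfold WEnv.phi
  set k := E.h 1 E.lam
  calc (y * (k * y * k⁻¹))⁻¹ = (k * y⁻¹ * k⁻¹) * y⁻¹ := by group
    _ = _ := hu

variable (E)

/-- `Ŵ`. -/
def Wh : Subgroup G where
  carrier := {g | ∃ y v, E.D y v ∧ ∃ u, g = E.w u * E.phi y}
  one_mem' := ⟨1, 0, D.one, 0, by rw [E.w_zero]; simp [phi]⟩
  mul_mem' := by
    rintro a b ⟨y, v, hy, u, rfl⟩ ⟨y', v', hy', u', rfl⟩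
    obtain ⟨c, hc⟩ := hy.phi_mul hy'
    refine ⟨y * y', v + v', hy.mul hy', u + u' + c, ?_⟩
    rw [E.w_add, E.w_add]
    calc E.w u * E.phi y * (E.w u' * E.phi y') = E.w u * (E.phi y * E.w u') * E.phi y' := by group
      _ = E.w u * (E.w u' * E.phi y) * E.phi y' := by rw [hy.phi.w_comm]
      _ = E.w u * E.w u' * (E.phi y * E.phi y') := by group
      _ = _ := by rw [hc]; group
  inv_mem' := by
    rintro a ⟨y, v, hy, u, rfl⟩
    obtain ⟨c, hc⟩ := hy.phi_inv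
    refine ⟨y⁻¹, v, hy.inv, c + u, ?_⟩
    rw [mul_inv_rev, hc, E.w_inv, mul_assoc, hy.inv.phi.w_comm, ← mul_assoc, ← E.w_add]

variable {E}

theorem add_mh_eq_zero {v : B.V} (h : v + B.mh 1 E.lam v = 0) : v = 0 := by
  have hl : (1 : B.K) + E.lam ≠ 0 := by
    intro h1
    apply E.lam_ne
    have h2 := B.K_add_self (E.lam : B.K)
    exact (add_right_cancel (h1.trans h2.symm)).symm
  have hl' : (1 : F) + ((E.lam : B.K) : F) ≠ 0 := by
    intro h1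
    exact hl (Subtype.ext h1)
  unfold Bar.mh at h
  have h1 := congrArg Prod.fst h
  have h2 := congrArg (fun x => x.2.1) h
  have h3 := congrArg (fun x => x.2.2) h
  simp only [Prod.fst_add, Prod.snd_add, Units.val_one, B.nm_one, one_mul, Prod.fst_zero,
    Prod.snd_zero] at h1 h2 h3
  refine Prod.ext ?_ (Prod.ext ?_ ?_)
  · have : (1 + (E.lam : B.K)) * v.1 = 0 := by linear_combination h1
    exact (mul_eq_zero.1 this).resolve_left hl
  · have : (1 + ((E.lam : B.K) : F)) * v.2.1 = 0 := by linear_combination h2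
    exact (mul_eq_zero.1 this).resolve_left hl'
  · have : (1 + (E.lam : B.K)) * v.2.2 = 0 := by linear_combination h3
    exact (mul_eq_zero.1 this).resolve_left hl

variable (E) in
theorem exists_add_mh (v : B.V) : ∃ u, u + B.mh 1 E.lam u = v := by
  have hl : (1 : B.K) + E.lam ≠ 0 := by
    intro h1
    apply E.lam_ne
    have h2 := B.K_add_self (E.lam : B.K)
    exact (add_right_cancel (h1.trans h2.symm)).symm
  have hl' : (1 : F) + ((E.lam : B.K) : F) ≠ 0 := by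
    intro h1
    exact hl (Subtype.ext h1)
  refine ⟨((1 + (E.lam : B.K))⁻¹ * v.1, (1 + ((E.lam : B.K) : F))⁻¹ * v.2.1,
    (1 + (E.lam : B.K))⁻¹ * v.2.2), ?_⟩
  unfold Bar.mh
  refine Prod.ext ?_ (Prod.ext ?_ ?_)
  · simp only [Prod.fst_add, Units.val_one, B.nm_one, one_mul]
    field_simp
  · simp only [Prod.fst_add, Prod.snd_add, Units.val_one, one_mul]
    field_simp
  · simp only [Prod.snd_add]
    field_simp

theorem Wh.D {g : G} (hg : g ∈ E.Wh) : ∃ v, E.D g v := by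
  obtain ⟨y, v, hy, u, rfl⟩ := hg
  exact ⟨_, hy.phi.w_mul u⟩

theorem w_mem_Wh (v : B.V) : E.w v ∈ E.Wh :=
  ⟨1, 0, D.one, v, by simp [phi]⟩

theorem Wh.mem_W {g : G} (hg : g ∈ E.Wh) (h0 : E.D g 0) : ∃ v, g = E.w v := by
  obtain ⟨y, v, hy, u, rfl⟩ := hg
  have h1 : v + B.mh 1 E.lam v = 0 := (hy.phi.w_mul u).uniq h0
  have h2 := add_mh_eq_zero h1
  subst h2
  obtain ⟨a, ha | ha⟩ := hy.mem_W
  · refine ⟨u + (a + B.mh 1 E.lam a), ?_⟩
    rw [E.w_add, E.w_add, phi, ha, E.conj_mh]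
  · refine ⟨u + (a + B.mh 1 E.lam a), ?_⟩
    rw [E.w_add, E.w_add, phi, ha]
    have hk : E.h 1 E.lam * (E.t * E.w a) * (E.h 1 E.lam)⁻¹ = E.t * E.w (B.mh 1 E.lam a) := by
      rw [← E.conj_mh, ← mul_assoc, ← E.T_t _ (E.h_mem _ _)]
      group
    rw [hk, E.t_w a]
    calc E.w u * (E.w a * E.t * (E.t * E.w (B.mh 1 E.lam a)))
        = E.w u * (E.w a * (E.t * E.t) * E.w (B.mh 1 E.lam a)) := by group
      _ = _ := by rw [E.t_sq, mul_one]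

theorem t_not_mem_Wh : E.t ∉ E.Wh := by
  intro h
  obtain ⟨v, hv⟩ := Wh.mem_W h D.t
  exact E.t_not_w v hv

theorem Nm.Wh {g : G} {f : B.V → B.V} (hg : E.Nm g f) {x : G} (h : x ∈ E.Wh) :
    g * x * g⁻¹ ∈ E.Wh := by
  obtain ⟨y, v, hy, u, rfl⟩ := h
  refine ⟨g * y * g⁻¹, f v, hg.D hy, f u, ?_⟩
  rw [← hg.act]
  unfold phi
  set k := E.h 1 E.lam with hk
  have e : k⁻¹ * g⁻¹ = g⁻¹ * k⁻¹ := by
    rw [← mul_inv_rev, ← mul_inv_rev, hg.comm_h]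
  calc g * (E.w u * (y * (k * y * k⁻¹))) * g⁻¹
      = (g * E.w u * g⁻¹) * (g * y * g⁻¹ * ((g * k) * y * (k⁻¹ * g⁻¹))) := by group
    _ = (g * E.w u * g⁻¹) * (g * y * g⁻¹ * ((k * g) * y * (g⁻¹ * k⁻¹))) := by
      rw [e, hg.comm_h]
    _ = _ := by group

end WEnv

namespace Seed

open WEnv

variable {E : WEnv B G} (S : Seed E)

include S

theorem exists_Wh (v : B.V) : ∃ y ∈ E.Wh, E.D y v := by
  obtain ⟨u, hu⟩ := E.exists_add_mh v
  obtain ⟨y, hy⟩ := S.exists_D u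
  refine ⟨E.phi y, ⟨y, u, hy, 0, by rw [E.w_zero, one_mul]⟩, ?_⟩
  rw [← hu]
  exact hy.phi

theorem mem_or {y : G} {v : B.V} (hy : E.D y v) : y ∈ E.Wh ∨ E.t * y ∈ E.Wh := by
  obtain ⟨x, hx, hv⟩ := S.exists_Wh v
  have h1 := hy.mul hv.inv
  rw [V_add_self] at h1
  obtain ⟨u, hu | hu⟩ := h1.mem_W
  · left
    have : y = E.w u * x := by rw [← hu]; group
    rw [this]
    exact E.Wh.mul_mem (w_mem_Wh u) hx
  · right
    have : E.t * y = E.w u * x := by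
      have e : y = E.t * E.w u * x := by rw [← hu]; group
      rw [e, ← mul_assoc, ← mul_assoc, E.t_sq, one_mul]
    rw [this]
    exact E.Wh.mul_mem (w_mem_Wh u) hx

end Seed

end Cfsg.Agent.StdRank2.UFour
end

-- part: StdRank2/UFour/GrowAb
section
/-!
# `Ŵ` is abelian

The commutator form `Ŵ/W × Ŵ/W → W` is biadditive and equivariant, so it vanishes.
-/

set_option autoImplicit false
set_option linter.unusedSectionVars false

namespace Cfsg.Agent.StdRank2.UFour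

open Subgroup

variable {F : Type*} [Field F] [CharP F 2] {B : Bar F} {G : Type*} [Group G]

/-- An equivariant biadditive map `V × V → V` is zero. -/
theorem form_zero (B : Bar F) (lam : B.Kˣ) (hlam : (lam : B.K) ≠ 1) (c : B.V → B.V → B.V)
    (hl : ∀ u v w, c (u + v) w = c u w + c v w) (hr : ∀ u v w, c u (v + w) = c u v + c u w)
    (ha : ∀ s u v, c (B.ma s u) (B.ma s v) = B.ma s (c u v))
    (hh : ∀ μ ν u v, c (B.mh μ ν u) (B.mh μ ν v) = B.mh μ ν (c u v))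
    (hn : ∀ u v, c (B.mn u) (B.mn v) = B.mn (c u v)) (u v : B.V) : c u v = 0 := by
  have hl0 : ∀ w, c 0 w = 0 := by
    intro w
    have := hl 0 0 w
    rw [add_zero] at this
    exact left_eq_add.1 this
  have hr0 : ∀ w, c w 0 = 0 := by
    intro w
    have := hr w 0 0
    rw [add_zero] at this
    exact left_eq_add.1 this
  have hlam2 : (lam : B.K) * lam ≠ 1 := by
    intro h
    apply hlam
    have h2 := B.K_add_self (1 : B.K)
    have h3 := B.K_add_self (lam : B.K)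
    have : ((lam : B.K) + 1) * ((lam : B.K) + 1) = 0 := by
      calc ((lam : B.K) + 1) * ((lam : B.K) + 1) = (lam : B.K) * lam + 1 + ((lam : B.K) + lam) := by
            ring
        _ = 0 := by rw [h, h2, h3, add_zero]
    have h4 := mul_self_eq_zero.1 this
    exact add_right_cancel (h4.trans h2.symm)
  -- the torus elements
  -- components of `c (x, 0, 0) (0, 0, y)`
  have key : ∀ x y : B.K, c (x, 0, 0) (0, 0, y) = 0 := by
    intro x y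
    refine Prod.ext ?_ (Prod.ext ?_ ?_)
    · -- Z-component: `μ = lam`, `ν = (lam²)⁻¹`
      let μ : Fˣ := ⟨((lam : B.K) : F), (((lam : B.K)⁻¹ : B.K) : F), by
        have : (lam : B.K) * (lam : B.K)⁻¹ = 1 := mul_inv_cancel₀ lam.ne_zero
        exact congrArg Subtype.val this, by
        have : (lam : B.K)⁻¹ * (lam : B.K) = 1 := inv_mul_cancel₀ lam.ne_zero
        exact congrArg Subtype.val this⟩
      have hμ : B.nm (μ : F) = (lam : B.K) * lam := B.nm_K _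
      set ν : B.Kˣ := (lam * lam)⁻¹ with hν
      have hμν : B.nm (μ : F) * (ν : B.K) = 1 := by
        rw [hμ, hν, ← Units.val_mul, ← Units.val_mul, mul_inv_cancel, Units.val_one]
      have hν1 : (1 : B.K) + ν ≠ 0 := by
        intro h
        have h2 := B.K_add_self (ν : B.K)
        have h3 : (1 : B.K) = ν := add_right_cancel (h.trans h2.symm)
        rw [hν, ] at h3
        apply hlam2
        have h4 : (lam * lam : B.Kˣ)⁻¹ = 1 := Units.ext h3.symm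
        have h5 : (lam * lam : B.Kˣ) = 1 := inv_eq_one.1 h4
        rw [← Units.val_mul, h5, Units.val_one]
      have e1 := hh μ ν (x, 0, 0) (0, 0, y / (1 + ν))
      have e2 : B.mh μ ν (x, 0, 0) = (x, 0, 0) := by
        unfold Bar.mh
        simp only [hμν, one_mul, mul_zero]
      have e3 : (0, 0, y / (1 + ν)) + B.mh μ ν (0, 0, y / (1 + ν)) = ((0 : B.K), (0 : F), y) := by
        unfold Bar.mh
        refine Prod.ext ?_ (Prod.ext ?_ ?_)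
        · simp
        · simp
        · simp only [Prod.snd_add]; field_simp
      have e4 : c (x, 0, 0) (0, 0, y) = c (x, 0, 0) (0, 0, y / (1 + ν)) +
          B.mh μ ν (c (x, 0, 0) (0, 0, y / (1 + ν))) := by
        rw [← e1, e2, ← hr, e3]
      rw [e4]
      unfold Bar.mh
      simp only [Prod.fst_add, hμν, one_mul, Prod.fst_zero]
      exact B.K_add_self _
    · -- c-component
      obtain ⟨v, hv1, hv0, hv⟩ := B.exists_norm_one
      have e1 := hh (Units.mk0 v hv0) 1 (x, 0, 0) (0, 0, y)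
      have e2 : B.mh (Units.mk0 v hv0) 1 (x, 0, 0) = (x, 0, 0) := by
        unfold Bar.mh; simp [hv]
      have e3 : B.mh (Units.mk0 v hv0) 1 (0, 0, y) = (0, 0, y) := by
        unfold Bar.mh; simp
      rw [e2, e3] at e1
      have e4 := congrArg (fun x => x.2.1) e1
      unfold Bar.mh at e4
      simp only [Units.val_mk0, Units.val_one, OneMemClass.coe_one, mul_one] at e4
      have : (1 + v) * (c (x, 0, 0) (0, 0, y)).2.1 = 0 := by
        rw [add_mul, one_mul, ← e4]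
        exact Bar.add_self _
      rcases mul_eq_zero.1 this with h | h
      · exfalso
        apply hv1
        have h2 := Bar.add_self v
        exact (add_right_cancel (h.trans h2.symm)).symm
      · exact h
    · -- b-component: `μ = lam`, `ν = 1`
      let μ : Fˣ := ⟨((lam : B.K) : F), (((lam : B.K)⁻¹ : B.K) : F), by
        have : (lam : B.K) * (lam : B.K)⁻¹ = 1 := mul_inv_cancel₀ lam.ne_zero
        exact congrArg Subtype.val this, by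
        have : (lam : B.K)⁻¹ * (lam : B.K) = 1 := inv_mul_cancel₀ lam.ne_zero
        exact congrArg Subtype.val this⟩
      have hμ : B.nm (μ : F) = (lam : B.K) * lam := B.nm_K _
      set n := (lam : B.K) * lam with hn'
      have hn1 : (1 : B.K) + n ≠ 0 := by
        intro h
        have h2 := B.K_add_self n
        exact hlam2 (add_right_cancel (h.trans h2.symm)).symm
      have e1 := hh μ 1 (x / (1 + n), 0, 0) (0, 0, y)
      have e2 : B.mh μ 1 (0, 0, y) = (0, 0, y) := by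
        unfold Bar.mh; simp
      have e3 : (x / (1 + n), 0, 0) + B.mh μ 1 (x / (1 + n), 0, 0) = (x, (0 : F), (0 : B.K)) := by
        unfold Bar.mh
        refine Prod.ext ?_ (Prod.ext ?_ ?_)
        · simp only [Prod.fst_add, hμ, Units.val_one, mul_one]; field_simp
        · simp
        · simp
      have e4 : c (x, 0, 0) (0, 0, y) = c (x / (1 + n), 0, 0) (0, 0, y) +
          B.mh μ 1 (c (x / (1 + n), 0, 0) (0, 0, y)) := by
        rw [← e1, e2, ← hl, e3]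
      rw [e4]
      unfold Bar.mh
      simp only [Prod.snd_add, Units.val_one, one_mul, Prod.snd_zero]
      exact B.K_add_self _
  have neg_eq : ∀ a : B.V, -a = a := fun a => neg_eq_of_add_eq_zero_left (WEnv.V_add_self a)
  have ma0 : ∀ s, B.ma s 0 = 0 := B.ma_zero
  have k1 : ∀ x v, c (x, 0, 0) v = 0 := by
    intro x v
    let A : AddSubgroup B.V :=
      { carrier := {v | c (x, 0, 0) v = 0}
        add_mem' := by
          intro a b ha hb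
          change c _ _ = 0
          rw [hr, show c (x, 0, 0) a = 0 from ha, show c (x, 0, 0) b = 0 from hb, add_zero]
        zero_mem' := hr0 _
        neg_mem' := by
          intro a ha
          rwa [neg_eq] }
    have hA : A = ⊤ := by
      apply B.gen A (fun y => key x y)
      intro s y
      change c (x, 0, 0) (B.ma s (0, 0, y)) = 0
      have e : B.ma s (x, 0, 0) = (x, 0, 0) := by
        unfold Bar.ma; refine Prod.ext ?_ (Prod.ext ?_ ?_) <;> simp [B.tr_zero]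
      have := ha s (x, 0, 0) (0, 0, y)
      rw [e, key, ma0] at this
      exact this
    have : v ∈ A := by rw [hA]; trivial
    exact this
  let A : AddSubgroup B.V :=
    { carrier := {u | ∀ v, c u v = 0}
      add_mem' := by
        intro a b ha hb v
        rw [hl, ha, hb, add_zero]
      zero_mem' := hl0
      neg_mem' := by
        intro a ha
        rwa [neg_eq] }
  have hb : ∀ y, ((0 : B.K), (0 : F), y) ∈ A := by
    intro y v
    have e : B.mn (y, 0, 0) = (0, 0, y) := by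
      unfold Bar.mn
      refine Prod.ext rfl (Prod.ext (map_zero B.s) rfl)
    have e' : B.mn (B.mn v) = v := by
      unfold Bar.mn
      refine Prod.ext rfl (Prod.ext (B.invol _) rfl)
    rw [← e, ← e', hn, k1]
    unfold Bar.mn
    refine Prod.ext rfl (Prod.ext (map_zero B.s) rfl)
  have hA : A = ⊤ := by
    apply B.gen A hb
    intro s y v
    have e' : B.ma s (B.ma s v) = v := by
      unfold Bar.ma
      refine Prod.ext ?_ (Prod.ext ?_ ?_)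
      · change v.1 + B.tr (s * B.s v.2.1) + B.nm s * v.2.2 + B.tr (s * B.s (v.2.1 + s * v.2.2)) +
          B.nm s * v.2.2 = v.1
        have h1 : B.tr (s * B.s (v.2.1 + s * v.2.2)) = B.tr (s * B.s v.2.1) := by
          rw [map_add, mul_add, B.tr_add, map_mul, B.s_K, ← mul_assoc]
          have : s * B.s s * (v.2.2 : F) = ((B.nm s * v.2.2 : B.K) : F) := rfl
          rw [this, B.tr_K, add_zero]
        rw [h1]
        have h2 := B.K_add_self (B.tr (s * B.s v.2.1) + B.nm s * v.2.2)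
        linear_combination h2
      · change v.2.1 + s * v.2.2 + s * v.2.2 = v.2.1
        rw [add_assoc, Bar.add_self, add_zero]
      · rfl
    rw [← e', ha, hb y, ma0]
  have : u ∈ A := by rw [hA]; trivial
  exact this v

namespace Seed

open WEnv

variable {E : WEnv B G} (S : Seed E)

include S

/-- a representative in `Ŵ`. -/
noncomputable def rep (v : B.V) : G := (S.exists_Wh v).choose

theorem rep_mem (v : B.V) : S.rep v ∈ E.Wh := (S.exists_Wh v).choose_spec.1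

theorem rep_D (v : B.V) : E.D (S.rep v) v := (S.exists_Wh v).choose_spec.2

theorem eq_rep {y : G} {v : B.V} (hy : y ∈ E.Wh) (h : E.D y v) : ∃ u, y = E.w u * S.rep v := by
  have h1 := h.mul (S.rep_D v).inv
  rw [V_add_self] at h1
  obtain ⟨u, hu⟩ := Wh.mem_W (E.Wh.mul_mem hy (E.Wh.inv_mem (S.rep_mem v))) h1
  exact ⟨u, by rw [← hu]; group⟩

/-- the commutator form. -/
noncomputable def cf (u v : B.V) : B.V := ((S.rep_D u).comm (S.rep_D v)).choose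

theorem cf_spec' (u v : B.V) : S.rep u * S.rep v = E.w (S.cf u v) * (S.rep v * S.rep u) :=
  ((S.rep_D u).comm (S.rep_D v)).choose_spec

theorem cf_spec {x y : G} {u v : B.V} (hx : x ∈ E.Wh) (hy : y ∈ E.Wh) (hxu : E.D x u)
    (hyv : E.D y v) : x * y = E.w (S.cf u v) * (y * x) := by
  obtain ⟨a, rfl⟩ := S.eq_rep hx hxu
  obtain ⟨b, rfl⟩ := S.eq_rep hy hyv
  have h1 := S.cf_spec' u v
  have h2 := (S.rep_D u).w_comm b
  have h3 := (S.rep_D v).w_comm a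
  calc E.w a * S.rep u * (E.w b * S.rep v) = E.w a * (S.rep u * E.w b) * S.rep v := by group
    _ = E.w a * E.w b * (S.rep u * S.rep v) := by rw [h2]; group
    _ = E.w a * E.w b * E.w (S.cf u v) * (S.rep v * S.rep u) := by rw [h1]; group
    _ = E.w (a + b + S.cf u v) * (S.rep v * S.rep u) := by rw [E.w_add, E.w_add]
    _ = E.w (S.cf u v + b + a) * (S.rep v * S.rep u) := by
        rw [show a + b + S.cf u v = S.cf u v + b + a by abel]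
    _ = E.w (S.cf u v) * E.w b * (E.w a * S.rep v) * S.rep u := by
        rw [E.w_add, E.w_add]; group
    _ = E.w (S.cf u v) * E.w b * (S.rep v * E.w a) * S.rep u := by rw [h3]
    _ = _ := by group

theorem cf_uniq {x y : G} {u v w : B.V} (hx : x ∈ E.Wh) (hy : y ∈ E.Wh) (hxu : E.D x u)
    (hyv : E.D y v) (h : x * y = E.w w * (y * x)) : S.cf u v = w := by
  have := S.cf_spec hx hy hxu hyv
  rw [h] at this
  exact (E.w_injective (mul_right_cancel this)).symm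

theorem cf_conj {g : G} {f : B.V → B.V} (hg : E.Nm g f) (u v : B.V) :
    S.cf (f u) (f v) = f (S.cf u v) := by
  apply S.cf_uniq (hg.Wh (S.rep_mem u)) (hg.Wh (S.rep_mem v)) (hg.D (S.rep_D u))
    (hg.D (S.rep_D v))
  rw [← hg.act]
  have h1 := S.cf_spec' u v
  calc g * S.rep u * g⁻¹ * (g * S.rep v * g⁻¹) = g * (S.rep u * S.rep v) * g⁻¹ := by group
    _ = g * (E.w (S.cf u v) * (S.rep v * S.rep u)) * g⁻¹ := by rw [h1]
    _ = _ := by group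

theorem cf_zero (u v : B.V) : S.cf u v = 0 := by
  apply form_zero B E.lam E.lam_ne S.cf
  · intro u v w
    apply S.cf_uniq (E.Wh.mul_mem (S.rep_mem u) (S.rep_mem v)) (S.rep_mem w)
      ((S.rep_D u).mul (S.rep_D v)) (S.rep_D w)
    have h1 := S.cf_spec' u w
    have h2 := S.cf_spec' v w
    rw [E.w_add]
    calc S.rep u * S.rep v * S.rep w = S.rep u * (S.rep v * S.rep w) := by group
      _ = (S.rep u * E.w (S.cf v w)) * (S.rep w * S.rep v) := by rw [h2]; group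
      _ = E.w (S.cf v w) * (S.rep u * S.rep w) * S.rep v := by
        rw [(S.rep_D u).w_comm]; group
      _ = E.w (S.cf v w) * E.w (S.cf u w) * (S.rep w * (S.rep u * S.rep v)) := by
        rw [h1]; group
      _ = _ := by rw [E.w_comm (S.cf v w)]
  · intro u v w
    apply S.cf_uniq (S.rep_mem u) (E.Wh.mul_mem (S.rep_mem v) (S.rep_mem w))
      (S.rep_D u) ((S.rep_D v).mul (S.rep_D w))
    have h1 := S.cf_spec' u v
    have h2 := S.cf_spec' u w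
    rw [E.w_add]
    calc S.rep u * (S.rep v * S.rep w) = (S.rep u * S.rep v) * S.rep w := by group
      _ = E.w (S.cf u v) * S.rep v * (S.rep u * S.rep w) := by rw [h1]; group
      _ = E.w (S.cf u v) * (S.rep v * E.w (S.cf u w)) * (S.rep w * S.rep u) := by
        rw [h2]; group
      _ = E.w (S.cf u v) * E.w (S.cf u w) * (S.rep v * S.rep w * S.rep u) := by
        rw [(S.rep_D v).w_comm]; group
  · intro s u v
    exact S.cf_conj (E.nm_xa s) u v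
  · intro μ ν u v
    exact S.cf_conj (E.nm_h μ ν) u v
  · intro u v
    exact S.cf_conj E.nm_na u v

/-- `Ŵ` is abelian. -/
theorem Wh_comm {x y : G} (hx : x ∈ E.Wh) (hy : y ∈ E.Wh) : x * y = y * x := by
  obtain ⟨u, hu⟩ := Wh.D hx
  obtain ⟨v, hv⟩ := Wh.D hy
  rw [S.cf_spec hx hy hu hv, S.cf_zero, E.w_zero, one_mul]

end Seed

end Cfsg.Agent.StdRank2.UFour
end

-- part: StdRank2/UFour/GrowRoot
section
/-!
# The grown root groups inside `Ŵ`; `Ŵ` is elementary abelian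
-/

set_option autoImplicit false
set_option linter.unusedSectionVars false

namespace Cfsg.Agent.StdRank2.UFour

open Subgroup

variable {F : Type*} [Field F] [CharP F 2] {B : Bar F} {G : Type*} [Group G]

/-- odd order argument. -/
theorem odd_fix {g r z : G} {m : ℕ} (hm : Odd m) (hg : g ^ m = 1) (h : g * r * g⁻¹ = z * r)
    (hz : g * z = z * g) (hzz : z * z = 1) : z = 1 := by
  have key : ∀ k : ℕ, g ^ k * r * (g ^ k)⁻¹ = z ^ k * r := by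
    intro k
    induction k with
    | zero => simp
    | succ k ih =>
      have hc : g * z ^ k * g⁻¹ = z ^ k := by
        have : Commute g z := hz
        rw [(this.pow_right k).eq, mul_inv_cancel_right]
      calc g ^ (k + 1) * r * (g ^ (k + 1))⁻¹ = g * (g ^ k * r * (g ^ k)⁻¹) * g⁻¹ := by
            rw [pow_succ']; group
        _ = (g * z ^ k * g⁻¹) * (g * r * g⁻¹) := by rw [ih]; group
        _ = z ^ (k + 1) * r := by rw [hc, h, pow_succ, mul_assoc]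
  have h1 := key m
  rw [hg, inv_one, mul_one, one_mul] at h1
  have h2 : z ^ m = 1 := (right_eq_mul.1 h1)
  obtain ⟨k, rfl⟩ := hm
  rwa [pow_succ, pow_mul, pow_two, hzz, one_pow, one_mul] at h2

namespace WEnv

variable (E : WEnv B G)

/-- `lam` as a unit of `F`. -/
def lamF : Fˣ := ⟨((E.lam : B.K) : F), (((E.lam : B.K)⁻¹ : B.K) : F), by
  have : (E.lam : B.K) * (E.lam : B.K)⁻¹ = 1 := mul_inv_cancel₀ E.lam.ne_zero
  exact congrArg Subtype.val this, by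
  have : (E.lam : B.K)⁻¹ * (E.lam : B.K) = 1 := inv_mul_cancel₀ E.lam.ne_zero
  exact congrArg Subtype.val this⟩

/-- torus element with weights `lam, 1, lam⁻¹, lam` on `a, c, b, z`. -/
def h2 : G := E.h E.lamF E.lam⁻¹

theorem h2_mem : E.h2 ∈ E.T := E.h_mem _ _

theorem mh2 (v : B.V) : B.mh E.lamF E.lam⁻¹ v =
    (E.lam * v.1, v.2.1, ((E.lam⁻¹ : B.Kˣ) : B.K) * v.2.2) := by
  unfold Bar.mh
  refine Prod.ext ?_ (Prod.ext ?_ rfl)
  · change B.nm ((E.lam : B.K) : F) * ((E.lam⁻¹ : B.Kˣ) : B.K) * v.1 = E.lam * v.1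
    rw [B.nm_K, mul_assoc (E.lam : B.K), ← Units.val_mul, mul_inv_cancel, Units.val_one, mul_one]
  · change ((E.lam : B.K) : F) * (((E.lam⁻¹ : B.Kˣ) : B.K) : F) * v.2.1 = v.2.1
    have : (E.lam : B.K) * ((E.lam⁻¹ : B.Kˣ) : B.K) = 1 := by
      rw [← Units.val_mul, mul_inv_cancel, Units.val_one]
    have h : ((E.lam : B.K) : F) * (((E.lam⁻¹ : B.Kˣ) : B.K) : F) = 1 := congrArg Subtype.val this
    rw [h, one_mul]

theorem nm_h2 : E.Nm E.h2 (B.mh E.lamF E.lam⁻¹) := E.nm_h _ _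

theorem h2_a (s : F) : E.h2 * E.xa s * E.h2⁻¹ = E.xa (((E.lam : B.K) : F) * s) := E.h_a _ _ _

theorem h2_c (x : F) : E.h2 * E.xc x = E.xc x * E.h2 := by
  rw [← conj_eq_iff, ← E.w_c, h2, E.conj_mh, E.mh2]
  simp

theorem one_add_lam : (1 : B.K) + E.lam ≠ 0 := by
  intro h1
  apply E.lam_ne
  have h2 := B.K_add_self (E.lam : B.K)
  exact (add_right_cancel (h1.trans h2.symm)).symm

theorem one_add_lamF : (1 : F) + ((E.lam : B.K) : F) ≠ 0 := by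
  intro h1
  exact E.one_add_lam (Subtype.ext h1)

theorem one_add_lam_inv : (1 : B.K) + ((E.lam⁻¹ : B.Kˣ) : B.K) ≠ 0 := by
  intro h1
  apply E.lam_ne
  have h2 := B.K_add_self ((E.lam⁻¹ : B.Kˣ) : B.K)
  have h3 : (1 : B.K) = ((E.lam⁻¹ : B.Kˣ) : B.K) := add_right_cancel (h1.trans h2.symm)
  have h4 : E.lam⁻¹ = 1 := Units.ext h3.symm
  rw [inv_eq_one.1 h4, Units.val_one]

/-- `X̂_c`. -/
def Ch : Subgroup G := E.Wh ⊓ centralizer {E.h2}

variable {E}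

theorem mem_Ch {g : G} : g ∈ E.Ch ↔ g ∈ E.Wh ∧ E.h2 * g = g * E.h2 := by
  unfold Ch
  rw [mem_inf, mem_centralizer_singleton_iff]
  exact and_congr_right fun _ => eq_comm

theorem fix_h2 {v : B.V} (h : B.mh E.lamF E.lam⁻¹ v = v) : v = (0, v.2.1, 0) := by
  rw [E.mh2] at h
  have h1 := congrArg Prod.fst h
  have h3 := congrArg (fun x => x.2.2) h
  simp only at h1 h3
  have e1 : v.1 = 0 := by
    have : (1 + (E.lam : B.K)) * v.1 = 0 := by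
      rw [add_mul, one_mul, h1]
      exact B.K_add_self _
    exact (mul_eq_zero.1 this).resolve_left E.one_add_lam
  have e3 : v.2.2 = 0 := by
    have : (1 + ((E.lam⁻¹ : B.Kˣ) : B.K)) * v.2.2 = 0 := by
      rw [add_mul, one_mul, h3]
      exact B.K_add_self _
    exact (mul_eq_zero.1 this).resolve_left E.one_add_lam_inv
  exact Prod.ext e1 (Prod.ext rfl e3)

theorem Ch.D {g : G} (hg : g ∈ E.Ch) : ∃ x, E.D g (0, x, 0) := by
  rw [mem_Ch] at hg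
  obtain ⟨v, hv⟩ := Wh.D hg.1
  have h1 := E.nm_h2.D hv
  rw [hg.2, mul_inv_cancel_right] at h1
  have h2 := fix_h2 (h1.uniq hv)
  rw [h2] at hv
  exact ⟨_, hv⟩

theorem Ch.mem_W {g : G} (hg : g ∈ E.Ch) (h : E.D g 0) : ∃ x, g = E.xc x := by
  rw [mem_Ch] at hg
  obtain ⟨v, rfl⟩ := Wh.mem_W hg.1 h
  have h1 := hg.2
  rw [← conj_eq_iff, E.nm_h2.act] at h1
  have h2 := fix_h2 (E.w_injective h1)
  exact ⟨v.2.1, by rw [h2, E.w_c]⟩

theorem xc_mem_Ch (x : F) : E.xc x ∈ E.Ch := by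
  rw [mem_Ch]
  refine ⟨by rw [← E.w_c]; exact w_mem_Wh _, E.h2_c x⟩

theorem T_Wh {k : G} (hk : k ∈ E.T) {g : G} (hg : g ∈ E.Wh) : k * g * k⁻¹ ∈ E.Wh := by
  obtain ⟨μ, ν, h⟩ := E.nm_T hk
  exact h.Wh hg

theorem T_Ch {k : G} (hk : k ∈ E.T) {g : G} (hg : g ∈ E.Ch) : k * g * k⁻¹ ∈ E.Ch := by
  rw [mem_Ch] at hg ⊢
  refine ⟨T_Wh hk hg.1, ?_⟩
  have h1 := E.T_comm _ hk _ E.h2_mem
  have h2 : E.h2 * k⁻¹ = k⁻¹ * E.h2 := E.T_comm _ E.h2_mem _ (E.T.inv_mem hk)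
  calc E.h2 * (k * g * k⁻¹) = (E.h2 * k) * g * k⁻¹ := by group
    _ = k * (E.h2 * g) * k⁻¹ := by rw [← h1]; group
    _ = k * g * (E.h2 * k⁻¹) := by rw [hg.2]; group
    _ = _ := by rw [h2]; group

/-- torus elements centralising `X_c` centralise `X̂_c`. -/
theorem T_comm_Ch {k : G} (hk : k ∈ E.T) (hc : ∀ x, k * E.xc x = E.xc x * k) {g : G}
    (hg : g ∈ E.Ch) : k * g = g * k := by
  obtain ⟨μ, ν, hn⟩ := E.nm_T hk
  obtain ⟨x, hx⟩ := Ch.D hg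
  have h1 := hn.D hx
  have e : B.mh μ ν (0, x, 0) = (0, x, 0) := by
    have := hn.act (0, x, 0)
    rw [E.w_c, hc, mul_inv_cancel_right, ← E.w_c] at this
    exact (E.w_injective this).symm
  rw [e] at h1
  have h2 := h1.mul hx.inv
  rw [V_add_self] at h2
  obtain ⟨y, hy⟩ := Ch.mem_W (E.Ch.mul_mem (T_Ch hk hg) (E.Ch.inv_mem hg)) h2
  obtain ⟨m, hm, hm2⟩ := E.T_odd k hk
  have h3 : k * g * k⁻¹ = E.xc y * g := by rw [← hy]; group
  have h4 := odd_fix hm hm2 h3 (hc y) (E.xc_sq y)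
  rw [h4, one_mul] at h3
  exact conj_eq_iff.1 h3

end WEnv

namespace Seed

open WEnv

variable {E : WEnv B G} (S : Seed E)

/-- `X̂_z`. -/
def Zh : Subgroup G := S.Y ⊓ E.Wh

variable {S}

theorem Zh.D {g : G} (hg : g ∈ S.Zh) : ∃ c, E.D g (c, 0, 0) := by
  obtain ⟨c, hc⟩ := S.conj_t g hg.1
  exact ⟨c, S.Q_comm g hg.1, by rw [E.w_z]; exact hc⟩

theorem Zh.mem_W {g : G} (hg : g ∈ S.Zh) (h : E.D g 0) : ∃ x, g = E.xz x := by
  obtain ⟨x, hx | hx⟩ := S.cent g hg.1 h.t_comm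
  · exact ⟨x, hx⟩
  · exfalso
    apply E.t_not_mem_Wh
    have e : E.t = g * E.xz x := by rw [hx, mul_assoc, E.xz_sq, mul_one]
    rw [e]
    apply E.Wh.mul_mem hg.2
    rw [← E.w_z]
    exact w_mem_Wh _

theorem xz_mem_Zh (x : B.K) : E.xz x ∈ S.Zh :=
  ⟨S.z_mem x, by rw [← E.w_z]; exact w_mem_Wh _⟩

theorem T_Zh {k : G} (hk : k ∈ E.T) {g : G} (hg : g ∈ S.Zh) : k * g * k⁻¹ ∈ S.Zh :=
  ⟨S.conj_T k hk g hg.1, T_Wh hk hg.2⟩

variable (S)

theorem exists_Zh (c : B.K) : ∃ g ∈ S.Zh, E.D g (c, 0, 0) := by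
  obtain ⟨y, hy, hy2⟩ := S.onto c
  have h1 : E.D y (c, 0, 0) := ⟨S.Q_comm y hy, by rw [WEnv.w_z]; exact hy2⟩
  rcases S.mem_or h1 with h | h
  · exact ⟨y, ⟨hy, h⟩, h1⟩
  · exact ⟨E.t * y, ⟨S.Y.mul_mem S.t_mem hy, h⟩, h1.t_mul⟩

theorem eq_Zh {g : G} {c : B.K} (hg : g ∈ E.Wh) (h : E.D g (c, 0, 0)) :
    ∃ r ∈ S.Zh, E.D r (c, 0, 0) ∧ ∃ f e, g = r * E.w (0, f, e) := by
  obtain ⟨r, hr, hr2⟩ := S.exists_Zh c
  have h1 := hr2.inv.mul h
  rw [V_add_self] at h1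
  obtain ⟨v, hv⟩ := Wh.mem_W (E.Wh.mul_mem (E.Wh.inv_mem hr.2) hg) h1
  refine ⟨r * E.xz v.1, S.Zh.mul_mem hr (xz_mem_Zh _), ?_, v.2.1, v.2.2, ?_⟩
  · have h2 := hr2.mul (D.w (E := E) (v.1, 0, 0))
    rwa [add_zero, E.w_z] at h2
  · have e : g = r * E.w v := by rw [← hv]; group
    rw [e]
    have e2 : v = (v.1, 0, 0) + (0, v.2.1, v.2.2) := by
      refine Prod.ext ?_ (Prod.ext ?_ ?_) <;> simp
    conv_lhs => rw [e2, E.w_add, E.w_z]
    rw [mul_assoc]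

theorem Zh_w_uniq {r r' : G} (hr : r ∈ S.Zh) (hr' : r' ∈ S.Zh) {f f' : F} {e e' : B.K}
    (h : r * E.w (0, f, e) = r' * E.w (0, f', e')) : f = f' ∧ e = e' := by
  have h1 : r'⁻¹ * r = E.w ((0, f', e') + (0, f, e)) := by
    rw [E.w_add]
    calc r'⁻¹ * r = r'⁻¹ * (r * E.w (0, f, e)) * (E.w (0, f, e))⁻¹ := by group
      _ = r'⁻¹ * (r' * E.w (0, f', e')) * (E.w (0, f, e))⁻¹ := by rw [h]
      _ = E.w (0, f', e') * E.w (0, f, e) := by rw [E.w_inv]; group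
  have h2 : r'⁻¹ * r ∈ S.Zh := S.Zh.mul_mem (S.Zh.inv_mem hr') hr
  obtain ⟨x, hx⟩ := Zh.mem_W h2 (by rw [h1]; exact D.w _)
  rw [hx, ← E.w_z] at h1
  have h3 := E.w_injective h1
  have h4 := congrArg (fun x => x.2.1) h3
  have h5 := congrArg (fun x => x.2.2) h3
  simp only [Prod.snd_add, Prod.fst_add] at h4 h5
  constructor
  · have := Bar.add_self f
    exact add_right_cancel (this.trans h4)
  · have := B.K_add_self e
    exact add_right_cancel (this.trans h5)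

include S in
theorem exists_Ch (x : F) : ∃ y ∈ E.Ch, E.D y (0, x, 0) := by
  obtain ⟨y, hy, hD⟩ := S.exists_Wh (0, x, 0)
  have h1 := E.nm_h2.D hD
  have e1 : B.mh E.lamF E.lam⁻¹ ((0 : B.K), x, (0 : B.K)) = (0, x, 0) := by
    rw [E.mh2]; simp
  rw [e1] at h1
  have h2 := h1.mul hD.inv
  rw [V_add_self] at h2
  obtain ⟨a, ha⟩ := Wh.mem_W (E.Wh.mul_mem (E.nm_h2.Wh hy) (E.Wh.inv_mem hy)) h2
  have ha' : E.h2 * y * E.h2⁻¹ = E.w a * y := by rw [← ha]; group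
  set b : B.V := (a.1 / (1 + (E.lam : B.K)), 0, a.2.2 / (1 + ((E.lam⁻¹ : B.Kˣ) : B.K))) with hb
  have hl := E.one_add_lam
  have hl' := E.one_add_lam_inv
  have e2 : B.mh E.lamF E.lam⁻¹ b + a = (0, a.2.1, 0) + b := by
    rw [E.mh2, hb]
    refine Prod.ext ?_ (Prod.ext ?_ ?_)
    · simp only [Prod.fst_add, zero_add]
      have h3 := B.K_add_self (a.1 / (1 + (E.lam : B.K)))
      have h4 : (1 + (E.lam : B.K)) * (a.1 / (1 + (E.lam : B.K))) = a.1 := by field_simp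
      have h5 := B.K_add_self a.1
      linear_combination h4 - h3 + h5 - h3 + h3
    · simp only [Prod.fst_add, Prod.snd_add, zero_add, add_zero]
    · simp only [Prod.snd_add, zero_add]
      have h3 := B.K_add_self (a.2.2 / (1 + ((E.lam⁻¹ : B.Kˣ) : B.K)))
      have h4 : (1 + ((E.lam⁻¹ : B.Kˣ) : B.K)) * (a.2.2 / (1 + ((E.lam⁻¹ : B.Kˣ) : B.K))) = a.2.2 := by
        field_simp
      have h5 := B.K_add_self a.2.2
      linear_combination h4 - h3 + h5 - h3 + h3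
  refine ⟨E.w b * y, ?_, hD.w_mul b⟩
  have h3 : E.h2 * (E.w b * y) * E.h2⁻¹ = E.xc a.2.1 * (E.w b * y) := by
    calc E.h2 * (E.w b * y) * E.h2⁻¹ = (E.h2 * E.w b * E.h2⁻¹) * (E.h2 * y * E.h2⁻¹) := by group
      _ = E.w (B.mh E.lamF E.lam⁻¹ b + a) * y := by
        rw [E.nm_h2.act, ha', ← mul_assoc, ← E.w_add]
      _ = _ := by rw [e2, E.w_add, E.w_c, mul_assoc]
  obtain ⟨m, hm, hm2⟩ := E.T_odd _ E.h2_mem
  have h4 := odd_fix hm hm2 h3 (E.h2_c _) (E.xc_sq _)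
  rw [h4, one_mul] at h3
  rw [mem_Ch]
  exact ⟨E.Wh.mul_mem (w_mem_Wh _) hy, conj_eq_iff.1 h3⟩

end Seed

end Cfsg.Agent.StdRank2.UFour
end

-- part: StdRank2/UFour/GrowSq
section
/-!
# `Ŵ` is elementary abelian; the output `WGrown`
-/

set_option autoImplicit false
set_option linter.unusedSectionVars false

namespace Cfsg.Agent.StdRank2.UFour

open Subgroup

variable {F : Type*} [Field F] [CharP F 2] {B : Bar F} {G : Type*} [Group G]

namespace Seed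

open WEnv

variable {E : WEnv B G} (S : Seed E)

/-- `[xa s, y]`. -/
def dd (E : WEnv B G) (y : G) (s : F) : G := E.xa s * y * (E.xa s)⁻¹ * y⁻¹

theorem dd_mem {y : G} (hy : y ∈ E.Wh) (s : F) : dd E y s ∈ E.Wh :=
  E.Wh.mul_mem ((E.nm_xa s).Wh hy) (E.Wh.inv_mem hy)

theorem dd_D {y : G} {v : B.V} (h : E.D y v) (s : F) : E.D (dd E y s) (B.ma s v + v) :=
  ((E.nm_xa s).D h).mul h.inv

theorem xa_conj_dd (y : G) (s : F) : (E.xa s * dd E y s * (E.xa s)⁻¹) * dd E y s = 1 := by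
  have h := inv_of_sq (E.xa_sq s)
  unfold dd
  rw [h]
  calc E.xa s * (E.xa s * y * E.xa s * y⁻¹) * E.xa s * (E.xa s * y * E.xa s * y⁻¹)
      = (E.xa s * E.xa s) * y * E.xa s * y⁻¹ * (E.xa s * E.xa s) * y * E.xa s * y⁻¹ := by group
    _ = y * (E.xa s * (y⁻¹ * y) * E.xa s) * y⁻¹ := by rw [E.xa_sq]; group
    _ = 1 := by rw [inv_mul_cancel, mul_one, E.xa_sq]; group

theorem Zh_a {g : G} (hg : g ∈ S.Zh) (s : F) : E.xa s * g * (E.xa s)⁻¹ = g := by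
  rw [conj_eq_iff, S.a_comm g hg.1]

include S in
theorem dd_add (y : G) (hy : y ∈ E.Wh) (s s' : F) :
    dd E y (s + s') = (E.xa s * dd E y s' * (E.xa s)⁻¹) * dd E y s := by
  unfold dd
  rw [E.xa_add]
  group

/-- the `X_b`-component of `[xa s, y]` vanishes. -/
theorem dd_c {y : G} (hy : y ∈ E.Ch) {x : F} (hx : E.D y (0, x, 0)) (s : F) :
    ∃ r ∈ S.Zh, E.D r (B.tr (s * B.s x), 0, 0) ∧ ∃ f, dd E y s = r * E.w (0, f, 0) := by
  have hyW := (mem_Ch.1 hy).1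
  have h1 := dd_D hx s
  have e1 : B.ma s ((0 : B.K), x, (0 : B.K)) + (0, x, 0) = (B.tr (s * B.s x), 0, 0) := by
    unfold Bar.ma
    refine Prod.ext ?_ (Prod.ext ?_ ?_)
    · simp
    · change x + s * ((0 : B.K) : F) + x = 0
      have := Bar.add_self x
      have h0 : ((0 : B.K) : F) = 0 := rfl
      rw [h0]
      linear_combination this
    · simp
  rw [e1] at h1
  obtain ⟨r, hr, hrD, f, e, hfe⟩ := S.eq_Zh (dd_mem hyW s) h1
  have h2 := xa_conj_dd (E := E) y s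
  have h3 : E.xa s * (r * E.w (0, f, e)) * (E.xa s)⁻¹ = r * E.w (B.ma s (0, f, e)) := by
    calc E.xa s * (r * E.w (0, f, e)) * (E.xa s)⁻¹
        = (E.xa s * r * (E.xa s)⁻¹) * (E.xa s * E.w (0, f, e) * (E.xa s)⁻¹) := by group
      _ = _ := by rw [S.Zh_a hr, E.conj_ma]
  rw [hfe, h3] at h2
  by_cases hs : s = 0
  · refine ⟨r, hr, hrD, f, ?_⟩
    rw [hfe]
    have h4 : dd E y s = 1 := by
      unfold dd; rw [hs, E.xa_zero]; group
    have h5 : r * E.w (0, f, e) = 1 * E.w (0, 0, 0) := by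
      rw [← hfe, h4, one_mul, show ((0, 0, 0) : B.V) = 0 from rfl, E.w_zero]
    obtain ⟨-, h7⟩ := S.Zh_w_uniq hr S.Zh.one_mem h5
    rw [h7]
  · have h4 : r * r * E.w (B.ma s (0, f, e) + (0, f, e)) = 1 * E.w (0, 0, 0) := by
      rw [one_mul, show ((0, 0, 0) : B.V) = 0 from rfl, E.w_zero, ← h2, E.w_add]
      have := hrD.w_comm (B.ma s (0, f, e))
      calc r * r * (E.w (B.ma s (0, f, e)) * E.w (0, f, e))
          = r * (r * E.w (B.ma s (0, f, e))) * E.w (0, f, e) := by group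
        _ = r * (E.w (B.ma s (0, f, e)) * r) * E.w (0, f, e) := by rw [this]
        _ = _ := by group
    have e5 : B.ma s (0, f, e) + (0, f, e) =
        (B.tr (s * B.s f) + B.nm s * e, 0, 0) + (0, s * (e : F), 0) := by
      unfold Bar.ma
      refine Prod.ext ?_ (Prod.ext ?_ ?_)
      · simp
      · change f + s * (e : F) + f = 0 + s * (e : F)
        have := Bar.add_self f
        linear_combination this
      · change e + e = 0 + 0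
        rw [add_zero]; exact B.K_add_self e
    rw [e5, E.w_add, E.w_z, ← mul_assoc] at h4
    obtain ⟨h6, -⟩ := S.Zh_w_uniq (S.Zh.mul_mem (S.Zh.mul_mem hr hr) (xz_mem_Zh _)) S.Zh.one_mem h4
    have h7 : e = 0 := by
      have := (mul_eq_zero.1 h6).resolve_left hs
      exact Subtype.ext this
    exact ⟨r, hr, hrD, f, by rw [hfe, h7]⟩

/-- `[xa s, y] ∈ X̂_z` for `y ∈ X̂_c`. -/
theorem dd_Zh {y : G} (hy : y ∈ E.Ch) (s : F) : dd E y s ∈ S.Zh := by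
  obtain ⟨x, hx⟩ := Ch.D hy
  have hyW := (mem_Ch.1 hy).1
  have hex := fun s => S.dd_c hy hx s
  choose r hr hrD f hf using hex
  have hadd : ∀ s s', f (s + s') = f s + f s' := by
    intro s s'
    have h1 := S.dd_add y hyW s s'
    have h3 : E.xa s * (r s' * E.w (0, f s', 0)) * (E.xa s)⁻¹ =
        r s' * E.w (B.ma s (0, f s', 0)) := by
      calc E.xa s * (r s' * E.w (0, f s', 0)) * (E.xa s)⁻¹
          = (E.xa s * r s' * (E.xa s)⁻¹) * (E.xa s * E.w (0, f s', 0) * (E.xa s)⁻¹) := by group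
        _ = _ := by rw [S.Zh_a (hr _), E.conj_ma]
    rw [hf (s + s'), hf s', hf s, h3] at h1
    have e2 : B.ma s (0, f s', 0) = (B.tr (s * B.s (f s')), 0, 0) + (0, f s', 0) := by
      unfold Bar.ma
      refine Prod.ext ?_ (Prod.ext ?_ ?_) <;> simp
    have h4 : r s' * E.w (B.ma s (0, f s', 0)) * (r s * E.w (0, f s, 0)) =
        (r s' * E.xz (B.tr (s * B.s (f s'))) * r s) * E.w (0, f s' + f s, 0) := by
      have e3 : ((0 : B.K), f s' + f s, (0 : B.K)) = (0, f s', 0) + (0, f s, 0) := by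
        refine Prod.ext ?_ (Prod.ext ?_ ?_) <;> simp
      rw [e2, e3, E.w_add, E.w_add, E.w_z]
      have := (hrD s).w_comm (0, f s', 0)
      calc r s' * (E.xz (B.tr (s * B.s (f s'))) * E.w (0, f s', 0)) * (r s * E.w (0, f s, 0))
          = r s' * E.xz (B.tr (s * B.s (f s'))) * (E.w (0, f s', 0) * r s) * E.w (0, f s, 0) := by
            group
        _ = _ := by rw [← this]; group
    rw [h4] at h1
    have h5 := (S.Zh_w_uniq (hr _)
      (S.Zh.mul_mem (S.Zh.mul_mem (hr s') (xz_mem_Zh _)) (hr s)) h1).1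
    rw [h5, add_comm]
  have hlam : ∀ s, f (((E.lam : B.K) : F) * s) = f s := by
    intro s
    have h1 : E.h2 * dd E y s * E.h2⁻¹ = dd E y (((E.lam : B.K) : F) * s) := by
      have hc := (mem_Ch.1 hy).2
      have h2 : E.h2 * y * E.h2⁻¹ = y := by rw [hc, mul_inv_cancel_right]
      have h3 := E.h2_a s
      unfold dd
      rw [← h3]
      calc E.h2 * (E.xa s * y * (E.xa s)⁻¹ * y⁻¹) * E.h2⁻¹ =
          (E.h2 * E.xa s * E.h2⁻¹) * (E.h2 * y * E.h2⁻¹) * (E.h2 * E.xa s * E.h2⁻¹)⁻¹ *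
            (E.h2 * y * E.h2⁻¹)⁻¹ := by group
        _ = _ := by rw [h2]
    have h2 : E.h2 * dd E y s * E.h2⁻¹ = (E.h2 * r s * E.h2⁻¹) * E.w (0, f s, 0) := by
      rw [hf s]
      calc E.h2 * (r s * E.w (0, f s, 0)) * E.h2⁻¹ =
          (E.h2 * r s * E.h2⁻¹) * (E.h2 * E.w (0, f s, 0) * E.h2⁻¹) := by group
        _ = _ := by
          rw [E.nm_h2.act, E.mh2]
          simp
    rw [h1, hf] at h2
    exact (S.Zh_w_uniq (hr _) (T_Zh E.h2_mem (hr s)) h2).1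
  have hf0 : ∀ s, f s = 0 := by
    intro s
    have hl := E.one_add_lamF
    have h1 := hadd (s / (1 + ((E.lam : B.K) : F))) (((E.lam : B.K) : F) * (s / (1 + ((E.lam : B.K) : F))))
    rw [hlam, Bar.add_self] at h1
    have e : s / (1 + ((E.lam : B.K) : F)) + ((E.lam : B.K) : F) * (s / (1 + ((E.lam : B.K) : F))) = s := by
      field_simp
    rwa [e] at h1
  rw [hf s, hf0 s, show ((0, 0, 0) : B.V) = 0 from rfl, E.w_zero, mul_one]
  exact hr s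

include S in
theorem dd_sq {y : G} (hy : y ∈ E.Ch) (s : F) : dd E y s * dd E y s = 1 := by
  have h1 := xa_conj_dd (E := E) y s
  rwa [S.Zh_a (S.dd_Zh hy s)] at h1

include S in
theorem exists_sq (v : B.V) : ∃ y ∈ E.Wh, E.D y v ∧ y * y = 1 := by
  let A : AddSubgroup B.V :=
    { carrier := {v | ∃ y ∈ E.Wh, E.D y v ∧ y * y = 1}
      add_mem' := by
        rintro a b ⟨y, hy, hyD, hy2⟩ ⟨y', hy', hyD', hy2'⟩
        refine ⟨y * y', E.Wh.mul_mem hy hy', hyD.mul hyD', ?_⟩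
        have := S.Wh_comm hy hy'
        calc y * y' * (y * y') = y * (y' * y) * y' := by group
          _ = y * (y * y') * y' := by rw [this]
          _ = (y * y) * (y' * y') := by group
          _ = 1 := by rw [hy2, hy2', mul_one]
      zero_mem' := ⟨1, E.Wh.one_mem, WEnv.D.one, mul_one _⟩
      neg_mem' := by
        rintro a ⟨y, hy⟩
        have : -a = a := neg_eq_of_add_eq_zero_left (WEnv.V_add_self a)
        rw [this]
        exact ⟨y, hy⟩ }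
  have hconj : ∀ {g : G} {f : B.V → B.V}, E.Nm g f → ∀ v ∈ A, f v ∈ A := by
    rintro g f hg v ⟨y, hy, hyD, hy2⟩
    refine ⟨g * y * g⁻¹, hg.Wh hy, hg.D hyD, ?_⟩
    calc g * y * g⁻¹ * (g * y * g⁻¹) = g * (y * y) * g⁻¹ := by group
      _ = 1 := by rw [hy2]; group
  have hz : ∀ c, (c, (0 : F), (0 : B.K)) ∈ A := by
    intro c
    obtain ⟨s, hs⟩ := B.tr_surj c
    obtain ⟨y, hy, hyD⟩ := S.exists_Ch 1
    have hyW := (mem_Ch.1 hy).1
    refine ⟨dd E y s, dd_mem hyW s, ?_, S.dd_sq hy s⟩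
    have h1 := dd_D hyD s
    have e1 : B.ma s ((0 : B.K), (1 : F), (0 : B.K)) + (0, 1, 0) = (c, 0, 0) := by
      unfold Bar.ma
      refine Prod.ext ?_ (Prod.ext ?_ ?_)
      · simp [hs]
      · change 1 + s * ((0 : B.K) : F) + 1 = 0
        have := Bar.add_self (1 : F)
        have h0 : ((0 : B.K) : F) = 0 := rfl
        rw [h0]
        linear_combination this
      · simp
    rwa [e1] at h1
  have hb : ∀ c, ((0 : B.K), (0 : F), c) ∈ A := by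
    intro c
    have h1 := hconj E.nm_na _ (hz c)
    have e : B.mn (c, 0, 0) = (0, 0, c) := by
      unfold Bar.mn
      refine Prod.ext rfl (Prod.ext (map_zero B.s) rfl)
    rwa [e] at h1
  have hA : A = ⊤ := B.gen A hb fun s c => hconj (E.nm_xa s) _ (hb c)
  have : v ∈ A := by rw [hA]; trivial
  exact this

include S in
/-- `Ŵ` is elementary abelian. -/
theorem Wh_sq {y : G} (hy : y ∈ E.Wh) : y * y = 1 := by
  obtain ⟨v, hv⟩ := Wh.D hy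
  obtain ⟨x, hx, hxD, hx2⟩ := S.exists_sq v
  have h1 := hv.mul hxD.inv
  rw [V_add_self] at h1
  obtain ⟨u, hu⟩ := Wh.mem_W (E.Wh.mul_mem hy (E.Wh.inv_mem hx)) h1
  have e : y = E.w u * x := by rw [← hu]; group
  have h2 := hxD.w_comm u
  rw [e]
  calc E.w u * x * (E.w u * x) = E.w u * (x * E.w u) * x := by group
    _ = (E.w u * E.w u) * (x * x) := by rw [h2]; group
    _ = 1 := by rw [E.w_sq, hx2, mul_one]

/-- `X̂_b`. -/
def Bh : Subgroup G := S.Zh.map (MulAut.conj E.na).toMonoidHom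

theorem ab_aux {r d y w w' : G} (c1 : y * w = w * y) (c2 : y * r = r * y) (c3 : w * r = r * w)
    (c4 : d * r = r * d) (q1 : r * r = 1) (q2 : y * y = 1) :
    r * (d * y) * w * (r * y * w') = d * (w * w') := by
  calc r * (d * y) * w * (r * y * w') = r * d * (y * w) * r * y * w' := by group
    _ = r * d * (w * y) * r * y * w' := by rw [c1]
    _ = r * d * w * (y * r) * y * w' := by group
    _ = r * d * w * (r * y) * y * w' := by rw [c2]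
    _ = r * d * w * r * (y * y) * w' := by group
    _ = r * d * (w * r) * w' := by rw [q2]; group
    _ = r * d * (r * w) * w' := by rw [c3]
    _ = r * (d * r) * w * w' := by group
    _ = r * (r * d) * w * w' := by rw [c4]
    _ = (r * r) * d * w * w' := by group
    _ = _ := by rw [q1]; group

variable {S}

theorem mem_Bh {g : G} : g ∈ S.Bh ↔ ∃ r ∈ S.Zh, E.na * r * E.na⁻¹ = g := by
  unfold Bh
  rw [mem_map]
  rfl

theorem Bh_Wh {g : G} (hg : g ∈ S.Bh) : g ∈ E.Wh := by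
  obtain ⟨r, hr, rfl⟩ := mem_Bh.1 hg
  exact E.nm_na.Wh hr.2

theorem mn_z (c : B.K) : B.mn (c, 0, 0) = (0, 0, c) := by
  unfold Bar.mn
  refine Prod.ext rfl (Prod.ext (map_zero B.s) rfl)

theorem Bh.D {g : G} (hg : g ∈ S.Bh) : ∃ c, E.D g (0, 0, c) := by
  obtain ⟨r, hr, rfl⟩ := mem_Bh.1 hg
  obtain ⟨c, hc⟩ := Zh.D hr
  refine ⟨c, ?_⟩
  have := E.nm_na.D hc
  rwa [mn_z] at this

theorem na_inv : E.na⁻¹ = E.na := inv_of_sq E.na_sq

theorem na_conj_conj (g : G) : E.na * (E.na * g * E.na⁻¹) * E.na⁻¹ = g := by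
  rw [na_inv]
  calc E.na * (E.na * g * E.na) * E.na = (E.na * E.na) * g * (E.na * E.na) := by group
    _ = g := by rw [E.na_sq, one_mul, mul_one]

theorem na_Bh {g : G} (hg : g ∈ S.Bh) : E.na * g * E.na⁻¹ ∈ S.Zh := by
  obtain ⟨r, hr, rfl⟩ := mem_Bh.1 hg
  rwa [na_conj_conj]

theorem na_Zh {g : G} (hg : g ∈ S.Zh) : E.na * g * E.na⁻¹ ∈ S.Bh := mem_Bh.2 ⟨g, hg, rfl⟩

variable (S)

/-- **The output of the `W`-level growth.** -/
def wGrown : WGrown E where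
  Z := S.Zh
  C := E.Ch
  Bb := S.Bh
  rootZ := by
    refine ⟨xz_mem_Zh, fun g hg => S.Wh_sq hg.2, fun g hg => S.conj_t g hg.1, fun c => ?_,
      fun g hg hc => ?_, fun k hk g hg => T_Zh hk hg⟩
    · obtain ⟨g, hg, hD⟩ := S.exists_Zh c
      exact ⟨g, hg, by rw [hD.2, E.w_z]⟩
    · obtain ⟨c, hD⟩ := Zh.D hg
      have := hD.of_comm hc
      rw [this] at hD
      exact Zh.mem_W hg hD
  rootC := by
    refine ⟨xc_mem_Ch, fun g hg => S.Wh_sq (mem_Ch.1 hg).1, fun g hg => ?_, fun c => ?_,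
      fun g hg hc => ?_, fun k hk g hg => T_Ch hk hg⟩
    · obtain ⟨c, hD⟩ := Ch.D hg
      exact ⟨c, by rw [hD.2, E.w_c]⟩
    · obtain ⟨g, hg, hD⟩ := S.exists_Ch c
      exact ⟨g, hg, by rw [hD.2, E.w_c]⟩
    · obtain ⟨c, hD⟩ := Ch.D hg
      have := hD.of_comm hc
      rw [this] at hD
      exact Ch.mem_W hg hD
  rootB := by
    refine ⟨fun c => mem_Bh.2 ⟨_, xz_mem_Zh c, E.na_z c⟩, fun g hg => S.Wh_sq (Bh_Wh hg),
      fun g hg => ?_, fun c => ?_, fun g hg hc => ?_, fun k hk g hg => ?_⟩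
    · obtain ⟨c, hD⟩ := Bh.D hg
      exact ⟨c, by rw [hD.2, E.w_b]⟩
    · obtain ⟨g, hg, hD⟩ := S.exists_Zh c
      refine ⟨_, na_Zh hg, ?_⟩
      have := E.nm_na.D hD
      rw [mn_z] at this
      rw [this.2, E.w_b]
    · obtain ⟨c, hD⟩ := Bh.D hg
      have h0 := hD.of_comm hc
      rw [h0] at hD
      obtain ⟨u, hu⟩ := Wh.mem_W (Bh_Wh hg) hD
      have h1 := na_Bh hg
      rw [hu, E.nm_na.act] at h1
      obtain ⟨x, hx⟩ := Zh.mem_W h1 (D.w _)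
      refine ⟨x, ?_⟩
      rw [← na_conj_conj (E := E) g, hu, E.nm_na.act, hx, E.na_z]
    · obtain ⟨r, hr, rfl⟩ := mem_Bh.1 hg
      have hk2 : E.na * k * E.na⁻¹ ∈ E.T := (E.na_T k).1 hk
      refine mem_Bh.2 ⟨_, T_Zh hk2 hr, ?_⟩
      have h1 := E.na_sq
      have h2 := na_inv (E := E)
      rw [h2]
      calc E.na * (E.na * k * E.na * r * (E.na * k * E.na)⁻¹) * E.na =
          (E.na * E.na) * k * E.na * r * E.na⁻¹ * k⁻¹ * (E.na⁻¹ * E.na) := by group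
        _ = _ := by rw [h1, h2, E.na_sq]; group
  Z_C g hg k hk := S.Wh_comm hg.2 (mem_Ch.1 hk).1
  Z_B g hg k hk := S.Wh_comm hg.2 (Bh_Wh hk)
  C_B g hg k hk := S.Wh_comm (mem_Ch.1 hg).1 (Bh_Wh hk)
  Z_Q g hg k hk := by
    obtain ⟨c, hD⟩ := Zh.D hg
    exact hD.1 k hk
  C_Q g hg k hk := by
    obtain ⟨c, hD⟩ := Ch.D hg
    exact hD.1 k hk
  B_Q g hg k hk := by
    obtain ⟨c, hD⟩ := Bh.D hg
    exact hD.1 k hk
  na_Z g hg := na_Zh hg
  na_B g hg := na_Bh hg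
  na_C g hg := by
    have hg' := mem_Ch.1 hg
    rw [mem_Ch]
    refine ⟨E.nm_na.Wh hg'.1, ?_⟩
    have hk : E.na * E.h2 * E.na⁻¹ ∈ E.T := (E.na_T _).1 E.h2_mem
    have h1 := T_comm_Ch hk (fun x => ?_) hg
    · have h2 := na_inv (E := E)
      rw [h2] at h1 ⊢
      calc E.h2 * (E.na * g * E.na) = (E.na * E.na) * E.h2 * E.na * g * E.na := by
            rw [E.na_sq]; group
        _ = E.na * ((E.na * E.h2 * E.na) * g) * E.na := by group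
        _ = E.na * g * E.na * E.h2 * (E.na * E.na) := by rw [h1]; group
        _ = _ := by rw [E.na_sq, mul_one]
    · have h2 := na_inv (E := E)
      have h3 : E.na * E.xc x * E.na = E.xc (B.s x) := by
        have := E.na_c x
        rwa [h2] at this
      have h4 : E.na * E.xc (B.s x) * E.na = E.xc x := by
        have := E.na_c (B.s x)
        rwa [h2, B.invol] at this
      have h5 := E.h2_c (B.s x)
      rw [h2]
      calc E.na * E.h2 * E.na * E.xc x = E.na * (E.h2 * (E.na * E.xc x * E.na)) * E.na := by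
            calc _ = E.na * E.h2 * E.na * E.xc x * (E.na * E.na) := by rw [E.na_sq, mul_one]
              _ = _ := by group
        _ = E.na * E.xc (B.s x) * E.h2 * E.na := by rw [h3, h5]; group
        _ = (E.na * E.xc (B.s x) * E.na) * (E.na * E.h2 * E.na) := by
            calc _ = E.na * E.xc (B.s x) * 1 * E.h2 * E.na := by group
              _ = E.na * E.xc (B.s x) * (E.na * E.na) * E.h2 * E.na := by rw [E.na_sq]
              _ = _ := by group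
        _ = _ := by rw [h4]
  Z_a g hg s := S.a_comm g hg.1 s
  a_C s g hg := ⟨dd E g s, S.dd_Zh hg s, by unfold dd; group⟩
  a_B s g hg := by
    obtain ⟨c, hD⟩ := Bh.D hg
    have h1 := dd_D hD s
    obtain ⟨y, hy, hyD⟩ := S.exists_Ch (s * (c : F))
    have h2 := h1.mul hyD.inv
    have e1 : B.ma s ((0 : B.K), (0 : F), c) + (0, 0, c) + (0, s * (c : F), 0) =
        (B.nm s * c, 0, 0) := by
      unfold Bar.ma
      refine Prod.ext ?_ (Prod.ext ?_ ?_)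
      · simp [B.tr_zero]
      · change (0 : F) + s * (c : F) + 0 + s * (c : F) = 0
        have := Bar.add_self (s * (c : F))
        linear_combination this
      · change c + c + 0 = 0
        rw [add_zero]; exact B.K_add_self c
    rw [e1] at h2
    have hdW := dd_mem (Bh_Wh hg) s
    have hyW := (mem_Ch.1 hy).1
    obtain ⟨r, hr, hrD, f, e, hfe⟩ := S.eq_Zh (E.Wh.mul_mem hdW (E.Wh.inv_mem hyW)) h2
    -- `dd = r * (xc f * y) * xb e`
    have h3 : dd E g s = r * (E.xc f * y) * E.xb e := by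
      have e2 : ((0 : B.K), f, e) = (0, f, 0) + (0, 0, e) := by
        refine Prod.ext ?_ (Prod.ext ?_ ?_) <;> simp
      have h4 : dd E g s = r * E.w (0, f, e) * y := by rw [← hfe]; group
      rw [h4, e2, E.w_add, E.w_c, E.w_b]
      have h5 := hyD.w_comm (0, 0, e)
      rw [E.w_b] at h5
      calc r * (E.xc f * E.xb e) * y = r * E.xc f * (E.xb e * y) := by group
        _ = _ := by rw [← h5]; group
    have hy' : E.xc f * y ∈ E.Ch := E.Ch.mul_mem (xc_mem_Ch f) hy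
    by_cases hs : s = 0
    · refine ⟨1, S.Zh.one_mem, 1, E.Ch.one_mem, ?_⟩
      rw [hs, E.xa_zero]; group
    · have h4 := xa_conj_dd (E := E) g s
      have h6 : E.xa s * dd E g s * (E.xa s)⁻¹ =
          r * (dd E (E.xc f * y) s * (E.xc f * y)) * E.w (B.ma s (0, 0, e)) := by
        rw [h3]
        calc E.xa s * (r * (E.xc f * y) * E.xb e) * (E.xa s)⁻¹
            = (E.xa s * r * (E.xa s)⁻¹) * (E.xa s * (E.xc f * y) * (E.xa s)⁻¹) *
              (E.xa s * E.xb e * (E.xa s)⁻¹) := by group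
          _ = _ := by
            rw [S.Zh_a hr, ← E.w_b, E.conj_ma]
            unfold dd; group
      rw [h6, h3] at h4
      set y' := E.xc f * y with hy'def
      have hyy := S.dd_Zh hy' s
      set d' := dd E y' s
      have hrW := hr.2
      have hy'W := (mem_Ch.1 hy').1
      have hd'W := hyy.2
      have hwW := w_mem_Wh (E := E) (B.ma s (0, 0, e))
      have hbW := w_mem_Wh (E := E) (0, 0, e)
      rw [← E.w_b] at h4
      -- everything lives in the elementary abelian group `Ŵ`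
      have h7 : d' * E.w (B.ma s (0, 0, e) + (0, 0, e)) = 1 := by
        rw [E.w_add]
        have c1 := S.Wh_comm hy'W hwW
        have c2 := S.Wh_comm hy'W hrW
        have c3 := S.Wh_comm hwW hrW
        have c4 := S.Wh_comm hd'W hrW
        have q1 := S.Wh_sq hrW
        have q2 := S.Wh_sq hy'W
        rw [← h4]
        exact (ab_aux c1 c2 c3 c4 q1 q2).symm
      have e5 : B.ma s (0, 0, e) + (0, 0, e) = (B.nm s * e, 0, 0) + (0, s * (e : F), 0) := by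
        unfold Bar.ma
        refine Prod.ext ?_ (Prod.ext ?_ ?_)
        · simp [B.tr_zero]
        · simp
        · change e + e = 0 + 0
          rw [add_zero]; exact B.K_add_self e
      rw [e5, E.w_add, E.w_z, ← mul_assoc] at h7
      have h8 : d' * E.xz (B.nm s * e) * E.w (0, s * (e : F), 0) = 1 * E.w (0, 0, 0) := by
        rw [h7, show ((0, 0, 0) : B.V) = 0 from rfl, E.w_zero, one_mul]
      obtain ⟨h9, -⟩ := S.Zh_w_uniq (S.Zh.mul_mem hyy (xz_mem_Zh _)) S.Zh.one_mem h8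
      have h10 : e = 0 := Subtype.ext ((mul_eq_zero.1 h9).resolve_left hs)
      refine ⟨r, hr, y', hy', ?_⟩
      rw [h10, E.xb_zero, mul_one] at h3
      rw [← h3]
      unfold dd; group

end Seed

end Cfsg.Agent.StdRank2.UFour
end

private theorem dce_ae7a495ccbcb : _root_.True := by
  try have : _root_.True := by simp only [_root_.Cfsg.Agent.StdRank2.UFour.WEnv.phi.eq_1]
  try have : _root_.True := by simp only [_root_.Cfsg.Agent.StdRank2.UFour.Seed.cf.congr_simp]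
  try have : _root_.True := by simp only [_root_.Cfsg.Agent.StdRank2.UFour.Seed.rep.congr_simp]
  try have : _root_.True := by simp only [_root_.Cfsg.Agent.StdRank2.UFour.WEnv.h2.eq_1]
  exact _root_.True.intro
end

-- part: StdRank2/UFour/GrowA
section
prune_inst 0x301045002422020800002506020020202000000000230401d560030202475121056327007a401e018910ae302808000001100159422800002a2086000005012084aa42021340a104270099c0f884000000000000000000000000000000041000000000000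
set_option linter.all false
open scoped Cfsg.Agent.FastGrp

/-!
# Growth for `U₄(q)`: the group `X̂_a = n_b X̂_c n_b⁻¹`
-/

set_option autoImplicit false
set_option linter.unusedSectionVars false

namespace Cfsg.Agent.StdRank2.UFour

open Subgroup

variable {F : Type*} [Field F] [CharP F 2] {B : Bar F} {G : Type*} [Group G]

theorem comm1 {a c x ρ : G} (hc : c⁻¹ * x * c = ρ * x) (ha : a * x = x * a)
    (haρ : a * ρ = ρ * a) : a * c * a⁻¹ * c⁻¹ * x = x * (a * c * a⁻¹ * c⁻¹) := by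
  have h1 : a⁻¹ * (ρ * x) = (ρ * x) * a⁻¹ := by
    have : Commute a (ρ * x) := Commute.mul_right haρ ha
    exact this.inv_left.eq
  calc a * c * a⁻¹ * c⁻¹ * x = a * c * a⁻¹ * (c⁻¹ * x * c) * c⁻¹ := by group
    _ = a * c * (a⁻¹ * (ρ * x)) * c⁻¹ := by rw [hc]; group
    _ = a * c * (c⁻¹ * x * c) * a⁻¹ * c⁻¹ := by rw [h1, hc]; group
    _ = (a * x) * c * a⁻¹ * c⁻¹ := by group
    _ = _ := by rw [ha]; group

theorem comm2 {a c x ρ : G} (ha : a⁻¹ * x * a = ρ * x) (hc : c * x = x * c)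
    (hcρ : c * ρ = ρ * c) : a * c * a⁻¹ * c⁻¹ * x = x * (a * c * a⁻¹ * c⁻¹) := by
  have h1 : c * (ρ * x) = (ρ * x) * c := (Commute.mul_right hcρ hc : Commute c (ρ * x)).eq
  have h2 : c⁻¹ * x = x * c⁻¹ := (show Commute c x from hc).inv_left.eq
  calc a * c * a⁻¹ * c⁻¹ * x = a * c * a⁻¹ * (c⁻¹ * x) := by group
    _ = a * c * (a⁻¹ * x * a) * a⁻¹ * c⁻¹ := by rw [h2]; group
    _ = a * (c * (ρ * x)) * a⁻¹ * c⁻¹ := by rw [ha]; group
    _ = a * (a⁻¹ * x * a) * c * a⁻¹ * c⁻¹ := by rw [h1, ha]; group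
    _ = _ := by group

namespace Seed

open WEnv

variable {E : WEnv B G} (S : Seed E)

/-- `X̂_z X̂_c`. -/
def QQ : Subgroup G where
  carrier := {g | ∃ r ∈ S.Zh, ∃ c ∈ E.Ch, g = r * c}
  one_mem' := ⟨1, S.Zh.one_mem, 1, E.Ch.one_mem, by rw [mul_one]⟩
  mul_mem' := by
    rintro _ _ ⟨r, hr, c, hc, rfl⟩ ⟨r', hr', c', hc', rfl⟩
    refine ⟨r * r', S.Zh.mul_mem hr hr', c * c', E.Ch.mul_mem hc hc', ?_⟩
    have := S.Wh_comm (mem_Ch.1 hc).1 hr'.2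
    calc r * c * (r' * c') = r * (c * r') * c' := by group
      _ = _ := by rw [this]; group
  inv_mem' := by
    rintro _ ⟨r, hr, c, hc, rfl⟩
    refine ⟨r⁻¹, S.Zh.inv_mem hr, c⁻¹, E.Ch.inv_mem hc, ?_⟩
    have := S.Wh_comm (E.Wh.inv_mem (mem_Ch.1 hc).1) (E.Wh.inv_mem hr.2)
    rw [mul_inv_rev, this]

variable {S}

theorem QQ_Wh {q : G} (hq : q ∈ S.QQ) : q ∈ E.Wh := by
  obtain ⟨r, hr, c, hc, rfl⟩ := hq
  exact E.Wh.mul_mem hr.2 (mem_Ch.1 hc).1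

theorem Zh_le_QQ {q : G} (hq : q ∈ S.Zh) : q ∈ S.QQ := ⟨q, hq, 1, E.Ch.one_mem, by rw [mul_one]⟩

theorem QQ.D {q : G} (hq : q ∈ S.QQ) : ∃ z x, E.D q (z, x, 0) := by
  obtain ⟨r, hr, c, hc, rfl⟩ := hq
  obtain ⟨z, hz⟩ := Zh.D hr
  obtain ⟨x, hx⟩ := Ch.D hc
  refine ⟨z, x, ?_⟩
  have := hz.mul hx
  simpa using this

theorem QQ.cent {q : G} (hq : q ∈ S.QQ) (h : q * E.t = E.t * q) : ∃ z x, q = E.xz z * E.xc x := by
  obtain ⟨r, hr, c, hc, rfl⟩ := hq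
  obtain ⟨z, hz⟩ := Zh.D hr
  obtain ⟨x, hx⟩ := Ch.D hc
  have h1 := (hz.mul hx).of_comm h
  have e1 : z = 0 := by
    have := congrArg Prod.fst h1
    simpa using this
  have e2 : x = 0 := by
    have := congrArg (fun x => x.2.1) h1
    simpa using this
  subst e1; subst e2
  obtain ⟨u, rfl⟩ := Zh.mem_W hr hz
  obtain ⟨v, rfl⟩ := Ch.mem_W hc hx
  exact ⟨u, v, rfl⟩

/-- `q t` involution, `q ∈ QQ`. -/
theorem QQ.of_sq {q : G} (hq : q ∈ S.QQ) (h : q * E.t * (q * E.t) = 1) :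
    ∃ z x, q = E.xz z * E.xc x := by
  apply QQ.cent hq
  have h1 := S.Wh_sq (QQ_Wh hq)
  have h2 : q * (q * E.t * (q * E.t)) = q := by rw [h, mul_one]
  have h3 : E.t * q * E.t = q := by
    calc E.t * q * E.t = (q * q) * E.t * q * E.t := by rw [h1, one_mul]
      _ = q * (q * E.t * (q * E.t)) := by group
      _ = q := h2
  calc q * E.t = (E.t * q * E.t) * E.t := by rw [h3]
    _ = E.t * q * (E.t * E.t) := by group
    _ = _ := by rw [E.t_sq, mul_one]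

variable (S) in
theorem exists_QQ (z : B.K) (x : F) : ∃ q ∈ S.QQ, E.D q (z, x, 0) := by
  obtain ⟨r, hr, hrD⟩ := S.exists_Zh z
  obtain ⟨c, hc, hcD⟩ := S.exists_Ch x
  refine ⟨r * c, ⟨r, hr, c, hc, rfl⟩, ?_⟩
  have := hrD.mul hcD
  simpa using this

theorem w_zc (z : B.K) (x : F) : E.w (z, x, 0) = E.xz z * E.xc x := by
  simp [WEnv.w, E.xb_zero]

/-- if `d t d⁻¹ = q t` with `q ∈ QQ`, then `d = q' d'` with `q' ∈ QQ` and `d' ∈ C(t)`. -/
theorem QQ.split {q d : G} (hq : q ∈ S.QQ) (h : d * E.t * d⁻¹ = q * E.t) :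
    ∃ q' ∈ S.QQ, (q'⁻¹ * d) * E.t = E.t * (q'⁻¹ * d) := by
  have h1 : q * E.t * (q * E.t) = 1 := by
    rw [← h]
    calc d * E.t * d⁻¹ * (d * E.t * d⁻¹) = d * (E.t * E.t) * d⁻¹ := by group
      _ = 1 := by rw [E.t_sq]; group
  obtain ⟨z, x, hzx⟩ := QQ.of_sq hq h1
  obtain ⟨q', hq', hD⟩ := S.exists_QQ z x
  refine ⟨q', hq', ?_⟩
  have h2 := hD.inv.2
  have h3 := hD.inv.w_comm (z, x, 0)
  rw [← conj_eq_iff]
  calc q'⁻¹ * d * E.t * (q'⁻¹ * d)⁻¹ = q'⁻¹ * (d * E.t * d⁻¹) * q' := by group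
    _ = (q'⁻¹ * E.w (z, x, 0)) * E.t * q' := by rw [h, hzx, w_zc]; group
    _ = E.w (z, x, 0) * (q'⁻¹ * E.t * q'⁻¹⁻¹) := by rw [h3]; group
    _ = E.t := by rw [h2, ← mul_assoc, E.w_sq, one_mul]

theorem xc_QQ (x : F) {q : G} (hq : q ∈ S.QQ) : E.xc x * q = q * E.xc x := by
  have h := S.Wh_comm (w_mem_Wh (E := E) (0, x, 0)) (QQ_Wh hq)
  rwa [E.w_c] at h

theorem xb_QQ (x : B.K) {q : G} (hq : q ∈ S.QQ) : E.xb x * q = q * E.xb x := by
  have h := S.Wh_comm (w_mem_Wh (E := E) (0, 0, x)) (QQ_Wh hq)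
  rwa [E.w_b] at h

theorem xa_Ch (s : F) {c : G} (hc : c ∈ E.Ch) : ∃ r ∈ S.Zh, E.xa s * c * (E.xa s)⁻¹ = r * c :=
  ⟨dd E c s, S.dd_Zh hc s, by unfold dd; group⟩

/-- conjugation of `xa s` by an element of `X̂_c`. -/
theorem Ch_xa (s : F) {c : G} (hc : c ∈ E.Ch) : ∃ r ∈ S.Zh, c * E.xa s * c⁻¹ = r * E.xa s := by
  obtain ⟨r, hr, h⟩ := xa_Ch (S := S) s hc
  refine ⟨r⁻¹, S.Zh.inv_mem hr, ?_⟩
  have h1 : r⁻¹ * (E.xa s * c) = c * E.xa s := by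
    have : E.xa s * c = r * c * E.xa s := by rw [← h]; group
    rw [this]; group
  calc c * E.xa s * c⁻¹ = r⁻¹ * (E.xa s * c) * c⁻¹ := by rw [h1]
    _ = _ := by group

theorem QQ_xa (s : F) {q : G} (hq : q ∈ S.QQ) : ∃ r ∈ S.Zh, q * E.xa s * q⁻¹ = r * E.xa s := by
  obtain ⟨r, hr, c, hc, rfl⟩ := hq
  obtain ⟨r', hr', h⟩ := Ch_xa (S := S) s hc
  refine ⟨r', hr', ?_⟩
  have h1 := S.Wh_comm hr.2 hr'.2
  have h2 := S.a_comm r hr.1 s
  calc r * c * E.xa s * (r * c)⁻¹ = r * (c * E.xa s * c⁻¹) * r⁻¹ := by group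
    _ = (r * r') * E.xa s * r⁻¹ := by rw [h]; group
    _ = r' * (r * E.xa s) * r⁻¹ := by rw [h1]; group
    _ = _ := by rw [h2]; group

theorem Bh_xa (s : F) {g : G} (hg : g ∈ S.Bh) : ∃ q ∈ S.QQ, g * E.xa s * g⁻¹ = q * E.xa s := by
  obtain ⟨r, hr, c, hc, h⟩ := S.wGrown.a_B s g hg
  refine ⟨(r * c)⁻¹, S.QQ.inv_mem ⟨r, hr, c, hc, rfl⟩, ?_⟩
  have h1 : (r * c)⁻¹ * (E.xa s * g) = g * E.xa s := by
    have : E.xa s * g = r * c * g * E.xa s := by rw [← h]; group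
    rw [this]; group
  calc g * E.xa s * g⁻¹ = (r * c)⁻¹ * (E.xa s * g) * g⁻¹ := by rw [h1]
    _ = _ := by group

end Seed

/-! ### `U₄` -/

namespace Env

open WEnv Seed

variable {E : Env B G} (S : Seed E.toWEnv)

/-- `X̂_a`. -/
def Ah (E : Env B G) : Subgroup G := E.Ch.map (MulAut.conj E.nb).toMonoidHom

theorem mem_Ah {g : G} : g ∈ E.Ah ↔ ∃ c ∈ E.Ch, E.nb * c * E.nb⁻¹ = g := by
  unfold Ah
  rw [mem_map]
  rfl

theorem nb_inv : E.nb⁻¹ = E.nb := inv_of_sq E.nb_sq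

theorem nb_conj_conj (g : G) : E.nb * (E.nb * g * E.nb⁻¹) * E.nb⁻¹ = g := by
  rw [nb_inv]
  calc E.nb * (E.nb * g * E.nb) * E.nb = (E.nb * E.nb) * g * (E.nb * E.nb) := by group
    _ = g := by rw [E.nb_sq, one_mul, mul_one]

theorem nb_Ah {g : G} (hg : g ∈ E.Ah) : E.nb * g * E.nb⁻¹ ∈ E.Ch := by
  obtain ⟨r, hr, rfl⟩ := mem_Ah.1 hg
  rwa [nb_conj_conj]

include S in
theorem Ah_sq {a : G} (ha : a ∈ E.Ah) : a * a = 1 := by
  obtain ⟨c, hc, rfl⟩ := mem_Ah.1 ha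
  calc E.nb * c * E.nb⁻¹ * (E.nb * c * E.nb⁻¹) = E.nb * (c * c) * E.nb⁻¹ := by group
    _ = 1 := by rw [S.Wh_sq (mem_Ch.1 hc).1]; group

theorem Ah_t {a : G} (ha : a ∈ E.Ah) : ∃ s, a * E.t * a⁻¹ = E.xa s * E.t := by
  obtain ⟨c, hc, rfl⟩ := mem_Ah.1 ha
  obtain ⟨x, hx⟩ := Ch.D hc
  refine ⟨x, ?_⟩
  have ht : E.nb⁻¹ * E.t * E.nb = E.t := by
    rw [mul_assoc, E.t_nb, ← mul_assoc, inv_mul_cancel, one_mul]
  have ht' : E.nb * E.t * E.nb⁻¹ = E.t := by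
    rw [← E.t_nb, mul_inv_cancel_right]
  calc E.nb * c * E.nb⁻¹ * E.t * (E.nb * c * E.nb⁻¹)⁻¹
      = E.nb * (c * (E.nb⁻¹ * E.t * E.nb) * c⁻¹) * E.nb⁻¹ := by group
    _ = (E.nb * E.xc x * E.nb⁻¹) * (E.nb * E.t * E.nb⁻¹) := by
      rw [ht, hx.2, E.w_c]; group
    _ = _ := by rw [E.nb_c, ht']

include S in
theorem exists_Ah (s : F) : ∃ a ∈ E.Ah, a * E.t * a⁻¹ = E.xa s * E.t := by
  obtain ⟨c, hc, hD⟩ := S.exists_Ch s
  refine ⟨_, mem_Ah.2 ⟨c, hc, rfl⟩, ?_⟩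
  have ht : E.nb⁻¹ * E.t * E.nb = E.t := by
    rw [mul_assoc, E.t_nb, ← mul_assoc, inv_mul_cancel, one_mul]
  have ht' : E.nb * E.t * E.nb⁻¹ = E.t := by
    rw [← E.t_nb, mul_inv_cancel_right]
  calc E.nb * c * E.nb⁻¹ * E.t * (E.nb * c * E.nb⁻¹)⁻¹
      = E.nb * (c * (E.nb⁻¹ * E.t * E.nb) * c⁻¹) * E.nb⁻¹ := by group
    _ = (E.nb * E.xc s * E.nb⁻¹) * (E.nb * E.t * E.nb⁻¹) := by
      rw [ht, hD.2, E.w_c]; group
    _ = _ := by rw [E.nb_c, ht']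

theorem xa_mem_Ah (s : F) : E.xa s ∈ E.Ah := mem_Ah.2 ⟨_, xc_mem_Ch s, E.nb_c s⟩

/-- `X̂_a` commutes with `X_a`. -/
theorem Ah_xa {a : G} (ha : a ∈ E.Ah) (s : F) : a * E.xa s = E.xa s * a := by
  obtain ⟨c, hc, rfl⟩ := mem_Ah.1 ha
  obtain ⟨x, hx⟩ := Ch.D hc
  have h1 := hx.w_comm (0, s, 0)
  rw [E.w_c] at h1
  rw [← E.nb_c s]
  calc E.nb * c * E.nb⁻¹ * (E.nb * E.xc s * E.nb⁻¹) = E.nb * (c * E.xc s) * E.nb⁻¹ := by group
    _ = _ := by rw [h1]; group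

theorem Ah_xz {a : G} (ha : a ∈ E.Ah) (s : B.K) : a * E.xz s = E.xz s * a := by
  obtain ⟨c, hc, rfl⟩ := mem_Ah.1 ha
  obtain ⟨x, hx⟩ := Ch.D hc
  have h1 := hx.w_comm (s, 0, 0)
  rw [E.w_z] at h1
  rw [← E.nb_z s]
  calc E.nb * c * E.nb⁻¹ * (E.nb * E.xz s * E.nb⁻¹) = E.nb * (c * E.xz s) * E.nb⁻¹ := by group
    _ = _ := by rw [h1]; group

variable {S}

section nb

variable (hnb : ∀ y ∈ S.Y, E.nb * y = y * E.nb)

include hnb

theorem Ah_Zh {a : G} (ha : a ∈ E.Ah) {r : G} (hr : r ∈ S.Zh) : a * r = r * a := by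
  obtain ⟨c, hc, rfl⟩ := mem_Ah.1 ha
  have h1 := S.Wh_comm (mem_Ch.1 hc).1 hr.2
  have h2 := hnb r hr.1
  have h3 : E.nb⁻¹ * r = r * E.nb⁻¹ := (show Commute E.nb r from h2).inv_left.eq
  calc E.nb * c * E.nb⁻¹ * r = E.nb * c * (E.nb⁻¹ * r) := by group
    _ = E.nb * (c * r) * E.nb⁻¹ := by rw [h3]; group
    _ = (E.nb * r) * c * E.nb⁻¹ := by rw [h1]; group
    _ = _ := by rw [h2]; group

theorem Ah_xc {a : G} (ha : a ∈ E.Ah) (x : F) : ∃ r ∈ S.Zh, a * E.xc x * a⁻¹ = r * E.xc x := by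
  obtain ⟨c, hc, rfl⟩ := mem_Ah.1 ha
  obtain ⟨r, hr, h⟩ := Ch_xa (S := S) x hc
  refine ⟨r, hr, ?_⟩
  rw [← E.nb_a x]
  have h2 := hnb r hr.1
  calc E.nb * c * E.nb⁻¹ * (E.nb * E.xa x * E.nb⁻¹) * (E.nb * c * E.nb⁻¹)⁻¹
      = E.nb * (c * E.xa x * c⁻¹) * E.nb⁻¹ := by group
    _ = (E.nb * r) * E.xa x * E.nb⁻¹ := by rw [h]; group
    _ = _ := by rw [h2]; group

end nb

end Env

end Cfsg.Agent.StdRank2.UFour
end

-- part: StdRank2/UFour/GrowA2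
section
prune_inst 0x301005002422020800000506020000200000000000230001d120030203455121056307007a403e008110ae302808000001100159422800000a20860000050120848a42020240a10427009980f884000000000000000000000000000000041000000000000
set_option linter.all false
open scoped Cfsg.Agent.FastGrp

/-!
# Growth for `U₄(q)`: `[X̂_a, X̂_c] ≤ X̂_z` and `[X̂_a, X̂_b] ≤ X̂_z X̂_c`
-/

set_option autoImplicit false
set_option linter.unusedSectionVars false

namespace Cfsg.Agent.StdRank2.UFour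

open Subgroup

variable {F : Type*} [Field F] [CharP F 2] {B : Bar F} {G : Type*} [Group G]

theorem conj_mul' (g x y : G) : g * (x * y) * g⁻¹ = (g * x * g⁻¹) * (g * y * g⁻¹) := by group

namespace Env

open WEnv Seed

variable {E : Env B G} {S : Seed E.toWEnv} (hnb : ∀ y ∈ S.Y, E.nb * y = y * E.nb)

include S in
theorem Ah_inv {a : G} (ha : a ∈ E.Ah) : a⁻¹ = a := inv_of_sq (Ah_sq S ha)

include S in
theorem Ch_inv {a : G} (ha : a ∈ E.Ch) : a⁻¹ = a := inv_of_sq (S.Wh_sq (mem_Ch.1 ha).1)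

theorem xc_a_c (x s : F) : E.xc x * E.xa s * E.xc x = E.xz (B.tr (s * B.s x)) * E.xa s := by
  have h := E.a_c s x
  have h1 : E.xa s * E.xc x = E.xz (B.tr (s * B.s x)) * E.xc x * E.xa s := by rw [← h]; group
  have h2 := E.z_c (B.tr (s * B.s x)) x
  have h3 := E.z_a (B.tr (s * B.s x)) s
  have h4 := E.xc_sq x
  calc E.xc x * E.xa s * E.xc x = E.xc x * (E.xa s * E.xc x) := by group
    _ = (E.xc x * E.xz (B.tr (s * B.s x))) * E.xc x * E.xa s := by rw [h1]; group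
    _ = E.xz (B.tr (s * B.s x)) * (E.xc x * E.xc x) * E.xa s := by rw [← h2]; group
    _ = _ := by rw [h4, mul_one]

theorem xb_a_b (x : B.K) (s : F) :
    E.xb x * E.xa s * E.xb x = E.xz (B.nm s * x) * E.xc (s * x) * E.xa s := by
  have h := E.a_b s x
  have h1 : E.xa s * E.xb x = E.xz (B.nm s * x) * E.xc (s * x) * E.xb x * E.xa s := by
    rw [← h]; group
  have h2 := E.z_b (B.nm s * x) x
  have h3 := E.c_b (s * x) x
  have h4 := E.xb_sq x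
  calc E.xb x * E.xa s * E.xb x = E.xb x * (E.xa s * E.xb x) := by group
    _ = (E.xb x * E.xz (B.nm s * x)) * E.xc (s * x) * E.xb x * E.xa s := by rw [h1]; group
    _ = E.xz (B.nm s * x) * (E.xb x * E.xc (s * x)) * E.xb x * E.xa s := by rw [← h2]; group
    _ = E.xz (B.nm s * x) * E.xc (s * x) * (E.xb x * E.xb x) * E.xa s := by rw [← h3]; group
    _ = _ := by rw [h4, mul_one]

/-- elements `xz z * xc y * xa s` commuting with `Q₁`. -/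
theorem center_Q1 {z : B.K} {y s : F} (hc : ∀ x, E.xz z * E.xc y * E.xa s * E.xc x =
    E.xc x * (E.xz z * E.xc y * E.xa s)) : s = 0 := by
  by_contra hs
  obtain ⟨x, hx⟩ := B.tr_form_surj (b := B.s s) ((map_ne_zero_iff B.s B.s.injective).2 hs) 1
  rw [B.invol] at hx
  have h1 := hc (B.s x)
  have h2 := E.xc_a_c (B.s x) s
  rw [B.invol, mul_comm, hx] at h2
  have h3 := E.z_c z (B.s x)
  have h5 := E.xc_sq (B.s x)
  have h6 : E.xc (B.s x) * E.xc y = E.xc y * E.xc (B.s x) := by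
    rw [← E.xc_add, ← E.xc_add, add_comm]
  have h7 : E.xc (B.s x) * (E.xz z * E.xc y * E.xa s) * E.xc (B.s x) =
      E.xz 1 * (E.xz z * E.xc y * E.xa s) := by
    have h8 : E.xz z * E.xc y * E.xz 1 = E.xz 1 * (E.xz z * E.xc y) := by
      rw [mul_assoc, ← E.z_c, ← mul_assoc, ← mul_assoc, ← E.xz_add, ← E.xz_add, add_comm]
    calc E.xc (B.s x) * (E.xz z * E.xc y * E.xa s) * E.xc (B.s x)
        = (E.xc (B.s x) * E.xz z) * E.xc y * E.xa s * E.xc (B.s x) := by group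
      _ = E.xz z * (E.xc (B.s x) * E.xc y) * E.xa s * E.xc (B.s x) := by rw [← h3]; group
      _ = E.xz z * E.xc y * (E.xc (B.s x) * E.xa s * E.xc (B.s x)) := by rw [h6]; group
      _ = (E.xz z * E.xc y * E.xz 1) * E.xa s := by rw [h2]; group
      _ = _ := by rw [h8]; group
  rw [← h1] at h7
  have h8 : E.xz z * E.xc y * E.xa s * E.xc (B.s x) * E.xc (B.s x) =
      E.xz z * E.xc y * E.xa s := by
    rw [mul_assoc _ (E.xc (B.s x)), h5, mul_one]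
  rw [h8] at h7
  have h9 := (right_eq_mul.1 h7)
  rw [← E.w_z] at h9
  have h10 := congrArg Prod.fst (E.w_eq_one h9)
  exact one_ne_zero h10

theorem xa_not_Wh {s : F} (hs : s ≠ 0) {ε : G} (hε : ε = 1 ∨ ε = E.t) {v : G} (hv : v ∈ E.Wh)
    (hcv : ∀ x, v * E.xc x = E.xc x * v) (h : E.xa s = v * ε) : False := by
  apply hs
  apply center_Q1 (E := E) (z := 0) (y := 0)
  intro x
  rw [E.xz_zero, E.xc_zero, one_mul, one_mul, h]
  rcases hε with rfl | rfl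
  · rw [mul_one, hcv]
  · rw [mul_assoc, E.t_c, ← mul_assoc, hcv, mul_assoc]

section five

include hnb

/-! #### (5a) -/

/-- `[a, c] t [a, c]⁻¹ = ρ t` with `ρ ∈ X̂_z`. -/
theorem five_a_t {a c : G} (ha : a ∈ E.Ah) (hc : c ∈ E.Ch) :
    ∃ r ∈ S.Zh, (a * c * a⁻¹ * c⁻¹) * E.t * (a * c * a⁻¹ * c⁻¹)⁻¹ = r * E.t := by
  obtain ⟨x, hx⟩ := Ch.D hc
  obtain ⟨s, hs⟩ := Ah_t ha
  have hci := Ch_inv (S := S) hc
  have hai := Ah_inv (S := S) ha
  obtain ⟨r1, hr1, h1⟩ := Ah_xc hnb ha x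
  obtain ⟨r2, hr2, h2⟩ := Ch_xa (S := S) s hc
  have h3 := hx.2
  rw [E.w_c] at h3
  have h4 := E.xc_a_c x s
  have h5 := Ah_xa ha s
  have hr : r1 * r2 * E.xz (B.tr (s * B.s x)) ∈ S.Zh :=
    S.Zh.mul_mem (S.Zh.mul_mem hr1 hr2) (xz_mem_Zh _)
  refine ⟨_, hr, ?_⟩
  have h6 := Ah_Zh hnb ha hr
  -- `a⁻¹ (xc x t) a`
  have k1 : a⁻¹ * (c⁻¹ * E.t * c) * a = r1 * E.xc x * (E.xa s * E.t) := by
    rw [hci, hai]
    rw [hci] at h3
    rw [hai] at hs h1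
    calc a * (c * E.t * c) * a = a * (E.xc x * E.t) * a := by rw [h3]
      _ = (a * E.xc x * a) * (a * E.t * a) := by
        have := Ah_sq S ha
        calc a * (E.xc x * E.t) * a = a * E.xc x * 1 * E.t * a := by group
          _ = a * E.xc x * (a * a) * E.t * a := by rw [this]
          _ = _ := by group
      _ = _ := by rw [hs, h1]
  have k0 : c * E.xc x * c⁻¹ = E.xc x := by
    have := hx.w_comm (0, x, 0)
    rw [E.w_c] at this
    rw [this, mul_inv_cancel_right]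
  have k00 : c * r1 * c⁻¹ = r1 := by
    rw [S.Wh_comm (mem_Ch.1 hc).1 hr1.2, mul_inv_cancel_right]
  have k2 : c * (r1 * E.xc x * (E.xa s * E.t)) * c⁻¹ =
      (r1 * r2 * E.xz (B.tr (s * B.s x))) * (E.xa s * E.t) := by
    rw [conj_mul', conj_mul', conj_mul', k00, k0, h2, h3]
    have : E.xc x * r2 = r2 * E.xc x := xc_QQ x (Zh_le_QQ hr2)
    calc r1 * E.xc x * (r2 * E.xa s * (E.xc x * E.t))
        = r1 * (E.xc x * r2) * E.xa s * E.xc x * E.t := by group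
      _ = r1 * r2 * (E.xc x * E.xa s * E.xc x) * E.t := by rw [this]; group
      _ = _ := by rw [h4]; group
  calc (a * c * a⁻¹ * c⁻¹) * E.t * (a * c * a⁻¹ * c⁻¹)⁻¹
      = a * (c * (a⁻¹ * (c⁻¹ * E.t * c) * a) * c⁻¹) * a⁻¹ := by group
    _ = a * ((r1 * r2 * E.xz (B.tr (s * B.s x))) * (E.xa s * E.t)) * a⁻¹ := by rw [k1, k2]
    _ = (a * (r1 * r2 * E.xz (B.tr (s * B.s x))) * a⁻¹) * (a * E.xa s * a⁻¹) *
        (a * E.t * a⁻¹) := by group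
    _ = r1 * r2 * E.xz (B.tr (s * B.s x)) * (E.xa s * E.xa s) * E.t := by
      rw [h6, h5, hs]; group
    _ = _ := by rw [E.xa_sq, mul_one]

theorem five_a_xa {a c : G} (ha : a ∈ E.Ah) (hc : c ∈ E.Ch) (s : F) :
    (a * c * a⁻¹ * c⁻¹) * E.xa s = E.xa s * (a * c * a⁻¹ * c⁻¹) := by
  obtain ⟨r, hr, h⟩ := Ch_xa (S := S) s (E.Ch.inv_mem hc)
  rw [inv_inv] at h
  exact comm1 h (Ah_xa ha s) (Ah_Zh hnb ha hr)

theorem five_a_xc {a c : G} (ha : a ∈ E.Ah) (hc : c ∈ E.Ch) (x : F) :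
    (a * c * a⁻¹ * c⁻¹) * E.xc x = E.xc x * (a * c * a⁻¹ * c⁻¹) := by
  obtain ⟨r, hr, h⟩ := Ah_xc hnb (E.Ah.inv_mem ha) x
  rw [inv_inv] at h
  refine comm2 h ?_ (S.Wh_comm (mem_Ch.1 hc).1 hr.2)
  obtain ⟨y, hy⟩ := Ch.D hc
  have := hy.w_comm (0, x, 0)
  rwa [E.w_c] at this

theorem five_a_xz {a c : G} (ha : a ∈ E.Ah) (hc : c ∈ E.Ch) (x : B.K) :
    (a * c * a⁻¹ * c⁻¹) * E.xz x = E.xz x * (a * c * a⁻¹ * c⁻¹) := by
  refine comm2 (ρ := 1) ?_ ?_ (by rw [mul_one, one_mul])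
  · rw [Ah_inv (S := S) ha, Ah_xz ha, mul_assoc, Ah_sq S ha, mul_one, one_mul]
  · obtain ⟨y, hy⟩ := Ch.D hc
    have := hy.w_comm (x, 0, 0)
    rwa [E.w_z] at this

theorem five_a' {a c : G} (ha : a ∈ E.Ah) (hc : c ∈ E.Ch) :
    ∃ r ∈ S.Zh, a * c * a⁻¹ * c⁻¹ = r ∨ a * c * a⁻¹ * c⁻¹ = r * E.t := by
  obtain ⟨r, hr, h⟩ := five_a_t hnb ha hc
  -- make the correction inside `Z`
  have hsq : r * E.t * (r * E.t) = 1 := by
    rw [← h]
    set d := a * c * a⁻¹ * c⁻¹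
    calc d * E.t * d⁻¹ * (d * E.t * d⁻¹) = d * (E.t * E.t) * d⁻¹ := by group
      _ = 1 := by rw [E.t_sq]; group
  obtain ⟨z, x, hzx⟩ := QQ.of_sq (Zh_le_QQ hr) hsq
  have hrz : ∃ z, r = E.xz z := by
    apply Zh.mem_W hr |> fun f => f ?_
    rw [hzx, ← w_zc]
    exact D.w _
  obtain ⟨z, hz⟩ := hrz
  obtain ⟨q, hq, hqD⟩ := S.exists_Zh z
  set d := a * c * a⁻¹ * c⁻¹ with hd
  have hq1 := hqD.inv.2
  have hq2 := hqD.inv.w_comm (z, 0, 0)
  have hdt : (q⁻¹ * d) * E.t = E.t * (q⁻¹ * d) := by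
    rw [← conj_eq_iff]
    calc q⁻¹ * d * E.t * (q⁻¹ * d)⁻¹ = q⁻¹ * (d * E.t * d⁻¹) * q := by group
      _ = (q⁻¹ * E.w (z, 0, 0)) * E.t * q := by rw [h, hz, E.w_z]; group
      _ = E.w (z, 0, 0) * (q⁻¹ * E.t * q⁻¹⁻¹) := by rw [hq2]; group
      _ = E.t := by rw [hq1, ← mul_assoc, E.w_sq, one_mul]
  have hqi : q⁻¹ ∈ S.Zh := S.Zh.inv_mem hq
  have c1 : ∀ x, (q⁻¹ * d) * E.xz x = E.xz x * (q⁻¹ * d) := by
    intro x
    have e1 := five_a_xz hnb ha hc x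
    have e2 := hqD.inv.w_comm (x, 0, 0)
    rw [E.w_z] at e2
    rw [mul_assoc, e1, ← mul_assoc, e2, mul_assoc]
  have c2 : ∀ x, (q⁻¹ * d) * E.xa x = E.xa x * (q⁻¹ * d) := by
    intro x
    have e1 := five_a_xa hnb ha hc x
    have e2 := S.a_comm q⁻¹ hqi.1 x
    rw [mul_assoc, e1, ← mul_assoc, e2, mul_assoc]
  have c3 : ∀ x, (q⁻¹ * d) * E.xc x = E.xc x * (q⁻¹ * d) := by
    intro x
    have e1 := five_a_xc hnb ha hc x
    have e2 := hqD.inv.w_comm (0, x, 0)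
    rw [E.w_c] at e2
    rw [mul_assoc, e1, ← mul_assoc, e2, mul_assoc]
  obtain ⟨z', y, s, h1⟩ := E.cent_Q (q⁻¹ * d) hdt c1
    (fun x => ⟨0, by rw [E.xz_zero, one_mul, c2, mul_inv_cancel_right]⟩)
    (fun x => ⟨0, by rw [E.xz_zero, one_mul, c3, mul_inv_cancel_right]⟩)
  -- the element `xz z' * xc y * xa s` centralises `Q₁`
  have h2 : ∀ x, E.xz z' * E.xc y * E.xa s * E.xc x = E.xc x * (E.xz z' * E.xc y * E.xa s) := by
    intro x
    rcases h1 with h1 | h1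
    · rw [← h1]; exact c3 x
    · have e : E.xz z' * E.xc y * E.xa s = E.t * (q⁻¹ * d) := by
        rw [h1, ← mul_assoc, E.t_sq, one_mul]
      rw [e, mul_assoc, c3, ← mul_assoc, E.t_c, mul_assoc]
  have hs := center_Q1 h2
  have h3 : ∀ x, E.xz z' * E.xc y * E.xa s * E.xa x = E.xa x * (E.xz z' * E.xc y * E.xa s) := by
    intro x
    rcases h1 with h1 | h1
    · rw [← h1]; exact c2 x
    · have e : E.xz z' * E.xc y * E.xa s = E.t * (q⁻¹ * d) := by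
        rw [h1, ← mul_assoc, E.t_sq, one_mul]
      rw [e, mul_assoc, c2, ← mul_assoc, E.t_a, mul_assoc]
  have hy : y = 0 := by
    by_contra hy
    obtain ⟨x, hx⟩ := B.tr_form_surj hy 1
    have h4 := h3 x
    rw [hs, E.xa_zero, mul_one] at h4
    have h5 := E.a_c x y
    rw [hx] at h5
    have h6 : E.xa x * (E.xz z' * E.xc y) * (E.xa x)⁻¹ = E.xz 1 * (E.xz z' * E.xc y) := by
      calc E.xa x * (E.xz z' * E.xc y) * (E.xa x)⁻¹
          = (E.xa x * E.xz z' * (E.xa x)⁻¹) * (E.xa x * E.xc y * (E.xa x)⁻¹) := by group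
        _ = (E.xz z' * E.xz 1) * E.xc y := by
          rw [h5, ← E.z_a, mul_inv_cancel_right, mul_assoc]
        _ = _ := by rw [← E.xz_add, add_comm, E.xz_add, mul_assoc]
    rw [← h4, mul_inv_cancel_right] at h6
    have h9 := (right_eq_mul.1 h6)
    rw [← E.w_z] at h9
    have h10 := congrArg Prod.fst (E.w_eq_one h9)
    exact one_ne_zero h10
  rw [hs, hy, E.xa_zero, E.xc_zero, mul_one, mul_one] at h1
  refine ⟨q * E.xz z', S.Zh.mul_mem hq (xz_mem_Zh _), ?_⟩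
  rcases h1 with h1 | h1
  · left
    rw [← h1]; group
  · right
    rw [mul_assoc, ← E.t_z, ← h1]; group

/-- **(5a)** `[X̂_a, X̂_c] ≤ X̂_z`. -/
theorem five_a {a c : G} (ha : a ∈ E.Ah) (hc : c ∈ E.Ch) : a * c * a⁻¹ * c⁻¹ ∈ S.Zh := by
  obtain ⟨r, hr, h | h⟩ := five_a' hnb ha hc
  · rw [h]; exact hr
  · exfalso
    obtain ⟨a', ha', hs⟩ := exists_Ah S (1 : F)
    obtain ⟨r', hr', h'⟩ := five_a' hnb (E.Ah.mul_mem ha' ha) hc
    obtain ⟨r'', hr'', h''⟩ := five_a' hnb ha' hc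
    have h1 : a' * a * c * (a' * a)⁻¹ * c⁻¹ = a' * (r * E.t) * a'⁻¹ * (a' * c * a'⁻¹ * c⁻¹) := by
      rw [← h]; group
    have h2 : a' * (r * E.t) * a'⁻¹ = r * (E.xa 1 * E.t) := by
      have := Ah_Zh hnb ha' hr
      calc a' * (r * E.t) * a'⁻¹ = (a' * r) * E.t * a'⁻¹ := by group
        _ = r * (a' * E.t * a'⁻¹) := by rw [this]; group
        _ = _ := by rw [hs]
    rw [h2] at h1
    -- all the elements lie in `Zh ∪ Zh t`
    have hmem : E.xa 1 ∈ S.Y := by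
      have e : E.xa 1 = r⁻¹ * (a' * a * c * (a' * a)⁻¹ * c⁻¹) * (a' * c * a'⁻¹ * c⁻¹)⁻¹ *
          E.t⁻¹ := by
        rw [h1]; group
      rw [e]
      apply S.Y.mul_mem _ (S.Y.inv_mem S.t_mem)
      apply S.Y.mul_mem
      · apply S.Y.mul_mem (S.Y.inv_mem hr.1)
        rcases h' with h' | h'
        · rw [h']; exact hr'.1
        · rw [h']; exact S.Y.mul_mem hr'.1 S.t_mem
      · apply S.Y.inv_mem
        rcases h'' with h'' | h''
        · rw [h'']; exact hr''.1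
        · rw [h'']; exact S.Y.mul_mem hr''.1 S.t_mem
    obtain ⟨x, hx⟩ := S.cent _ hmem (E.t_a 1).symm
    rcases hx with hx | hx
    · refine xa_not_Wh (E := E) one_ne_zero (Or.inl rfl) (w_mem_Wh (x, 0, 0)) (fun y => ?_)
        (by rw [mul_one, E.w_z]; exact hx)
      rw [E.w_z, E.z_c]
    · refine xa_not_Wh (E := E) one_ne_zero (Or.inr rfl) (w_mem_Wh (x, 0, 0)) (fun y => ?_)
        (by rw [E.w_z, ← E.t_z]; exact hx)
      rw [E.w_z, E.z_c]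

theorem Ah_Ch {a c : G} (ha : a ∈ E.Ah) (hc : c ∈ E.Ch) : ∃ r ∈ S.Zh, a * c * a⁻¹ = r * c :=
  ⟨_, five_a hnb ha hc, by group⟩

theorem Ah_QQ {a q : G} (ha : a ∈ E.Ah) (hq : q ∈ S.QQ) : a * q * a⁻¹ ∈ S.QQ := by
  obtain ⟨r, hr, c, hc, rfl⟩ := hq
  obtain ⟨r', hr', h⟩ := Ah_Ch hnb ha hc
  refine ⟨r * r', S.Zh.mul_mem hr hr', c, hc, ?_⟩
  rw [conj_mul', h, Ah_Zh hnb ha hr]
  group

end five

end Env

end Cfsg.Agent.StdRank2.UFour
end
end
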